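import Cfsg.Agent.LocalThree.AltNineLocal.LocData
import Cfsg.Agent.Components.Cores
import Cfsg.Agent.S0117
import Cfsg.Agent.Transfer.Basic

/-!
The local data: the monomial normaliser of an elementary group of order `27`, fusion in that group and
the centraliser of its diagonal elements.
-/

set_option autoImplicit false
set_option linter.unusedSectionVars false
set_option maxRecDepth 8000

namespace Cfsg.Lib.AltNineLocal

open Subgroup Cfsg.Lib.Monomial
open scoped Pointwise

universe u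

/-- The local data. -/
structure Loc (G : Type u) [Group G] where
  φ : Mon →* G
  inj : Function.Injective φ
  J : Subgroup G
  norm : φ.range = normalizer (J : Set G)
  memJ : ∀ k, φ k ∈ J ↔ InV k
  core : ∀ v : Fin 27, v ≠ 0 → Cfsg.pPrimeCore 3 (centralizer ({φ (tv v)} : Set G)) = ⊥

namespace Loc

variable {G : Type u} [Group G] [Finite G] (L : Loc G)

/-- The translations in the group. -/
abbrev tr (v : Fin 27) : G := L.φ (tv v)

include L

theorem tr_mem (v : Fin 27) : L.tr v ∈ L.J := (L.memJ _).2 (inV_tv v)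

theorem J_le : L.J ≤ L.φ.range := L.norm ▸ Subgroup.le_normalizer

theorem exists_tr {j : G} (hj : j ∈ L.J) : ∃ v, L.tr v = j := by
  obtain ⟨k, rfl⟩ := L.J_le hj
  exact ⟨k.v, by rw [tr, ← inV_eq k ((L.memJ k).1 hj)]⟩

theorem tr_ne {v : Fin 27} (hv : v ≠ 0) : L.tr v ≠ 1 := fun e =>
  hv (congrArg Mon.v (L.inj (e.trans L.φ.map_one.symm) : tv v = 1))

theorem ord_tr {v : Fin 27} (hv : v ≠ 0) : orderOf (L.tr v) = 3 := by
  have : Fact (Nat.Prime 3) := ⟨Nat.prime_three⟩
  exact orderOf_eq_prime (by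
    rw [pow_succ', pow_two, ← map_mul, ← map_mul, trans_cube _ (inV_tv v), map_one]) (L.tr_ne hv)

theorem J_comm {a b : G} (ha : a ∈ L.J) (hb : b ∈ L.J) : a * b = b * a := by
  obtain ⟨v, rfl⟩ := L.exists_tr ha
  obtain ⟨w, rfl⟩ := L.exists_tr hb
  rw [← map_mul, ← map_mul, trans_comm]

theorem J_cube {a : G} (ha : a ∈ L.J) : a * (a * a) = 1 := by
  obtain ⟨v, rfl⟩ := L.exists_tr ha
  rw [← map_mul, ← map_mul, trans_cube _ (inV_tv v), map_one]

theorem card_J : Nat.card L.J = 27 := by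
  rw [← card_trans, ← Nat.card_eq_finsetCard]
  refine (Nat.card_congr (Equiv.ofBijective
    (fun k : (Finset.univ.filter fun k : Mon => InV k) => (⟨L.φ k.1, (L.memJ _).2 (Finset.mem_filter.1 k.2).2⟩ : L.J))
    ⟨fun k l h => Subtype.ext (L.inj (congrArg Subtype.val h)), fun j => ?_⟩)).symm
  obtain ⟨v, hv⟩ := L.exists_tr j.2
  exact ⟨⟨tv v, Finset.mem_filter.2 ⟨Finset.mem_univ _, inV_tv v⟩⟩, Subtype.ext hv⟩

theorem isPGroup_J : IsPGroup 3 L.J := IsPGroup.of_card (n := 3) L.card_J

theorem cent_J_le : centralizer (L.J : Set G) ≤ L.J := by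
  intro x hx
  have hxr : x ∈ L.φ.range := L.norm ▸ centralizer_le_normalizer (L.J : Set G) hx
  obtain ⟨k, rfl⟩ := hxr
  refine (L.memJ k).2 (cent_trans k fun v => L.inj ?_)
  rw [map_mul, map_mul]
  exact (mem_centralizer_iff.1 hx _ (L.tr_mem v)).symm

theorem conj_mem {g j : G} (hg : g ∈ L.φ.range) (hj : j ∈ L.J) : g * j * g⁻¹ ∈ L.J := by
  rw [L.norm] at hg
  exact (mem_normalizer_iff.1 hg j).1 hj

theorem cardH : Nat.card L.φ.range = 648 := by
  rw [Nat.card_congr (MonoidHom.ofInjective L.inj).toEquiv.symm, Nat.card_congr monEquiv, Nat.card_prod,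
    Nat.card_fin, Nat.card_fin]

theorem nine_pgroup {Q : Subgroup G} (hQ : IsPGroup 3 Q) {k : Mon} (hk : L.φ k ∈ Q) : nine k := by
  have h9 : orderOf k ∣ 81 := by
    obtain ⟨n, hn⟩ := hQ ⟨_, hk⟩
    have e : k ^ 3 ^ n = 1 := L.inj (by rw [map_pow, map_one]; exact congrArg Subtype.val hn)
    obtain ⟨i, -, hi⟩ := (Nat.dvd_prime_pow Nat.prime_three).1 (orderOf_dvd_of_pow_eq_one e)
    have h648 : orderOf k ∣ 648 := by
      have := orderOf_dvd_natCard k
      rwa [Nat.card_congr monEquiv, Nat.card_prod, Nat.card_fin, Nat.card_fin] at this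
    rw [hi] at h648 ⊢
    have : i ≤ 4 := by
      by_contra hc
      have := dvd_trans (pow_dvd_pow 3 (show 5 ≤ i by omega)) h648
      norm_num at this
    exact dvd_trans (pow_dvd_pow 3 this) (by norm_num)
  have key : ∀ k : Mon, (fun x : Mon => x * x * x) ((fun x : Mon => x * x * x) ((fun x : Mon => x * x * x)
      ((fun x : Mon => x * x * x) k))) = 1 → nine k := by decide +kernel
  refine key k ?_
  rw [← orderOf_dvd_iff_pow_eq_one.1 h9]
  simp only [show ∀ x : Mon, x * x * x = x ^ 3 from fun x => by rw [pow_succ, pow_two], ← pow_mul]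

/-- The only abelian subgroup of order `27` in a three-subgroup of the normaliser. -/
theorem eq_J {A : Subgroup G} (hA : A ≤ L.φ.range) (hp : IsPGroup 3 A) (h27 : 27 ≤ Nat.card A)
    (hc : ∀ a ∈ A, ∀ b ∈ A, a * b = b * a) : A = L.J := by
  classical
  have hAJ : A ≤ L.J := by
    intro a ha
    obtain ⟨k, rfl⟩ := hA ha
    refine (L.memJ k).2 ?_
    by_contra hk
    have hlt := small_cent k (L.nine_pgroup hp ha) hk
    choose f hf using fun b : A => hA b.2
    have hle : Nat.card A ≤ Nat.card {l : Mon // l * k = k * l ∧ nine l} := by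
      refine Nat.card_le_card_of_injective (fun b => ⟨f b, L.inj ?_, L.nine_pgroup hp (by rw [hf b]; exact b.2)⟩) ?_
      · rw [map_mul, map_mul, hf b]; exact hc _ b.2 _ ha
      · intro b b' h
        exact Subtype.ext (by rw [← hf b, ← hf b', show f b = f b' from congrArg Subtype.val h])
    rw [Nat.card_eq_fintype_card (α := {l : Mon // l * k = k * l ∧ nine l}), Fintype.card_subtype] at hle
    omega
  exact Subgroup.eq_of_le_of_card_ge hAJ (by rw [L.card_J]; exact h27)

/-- A three-subgroup containing `J` lies in the normaliser. -/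
theorem pgroup_le {Q : Subgroup G} (hQ : IsPGroup 3 Q) (hJQ : L.J ≤ Q) : Q ≤ L.φ.range := by
  have : Fact (Nat.Prime 3) := ⟨Nat.prime_three⟩
  haveI : Group.IsNilpotent Q := hQ.isNilpotent
  obtain ⟨K, hK⟩ : ∃ K : Subgroup Q, K = (normalizer (L.J : Set G)).subgroupOf Q := ⟨_, rfl⟩
  have hKH : K.map Q.subtype ≤ L.φ.range := by
    rw [hK, L.norm]
    rintro _ ⟨y, hy, rfl⟩
    exact hy
  have hJK : L.J ≤ K.map Q.subtype := fun j hj =>
    ⟨⟨j, hJQ hj⟩, hK ▸ (Subgroup.le_normalizer hj : j ∈ normalizer (L.J : Set G)), rfl⟩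
  have htop : K = ⊤ := by
    refine normalizerCondition_iff_only_full_group_self_normalizing.1 Group.normalizerCondition_of_isNilpotent K
      (le_antisymm (fun g hg => ?_) Subgroup.le_normalizer)
    have hAK : L.J.map (MulAut.conj (g : G)).toMonoidHom ≤ K.map Q.subtype := by
      rintro _ ⟨j, hj, rfl⟩
      obtain ⟨y, hy, hyj⟩ := hJK hj
      refine ⟨g * y * g⁻¹, (mem_normalizer_iff.1 hg y).1 hy, ?_⟩
      simp only [Subgroup.coe_subtype, Subgroup.coe_mul, InvMemClass.coe_inv] at hyj ⊢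
      rw [hyj]; rfl
    have e := L.eq_J (hAK.trans hKH) (L.isPGroup_J.map _)
      (by rw [Subgroup.card_map_of_injective (MulAut.conj (g : G)).injective, L.card_J]) (by
        rintro _ ⟨a, ha, rfl⟩ _ ⟨b, hb, rfl⟩
        rw [← map_mul, ← map_mul, L.J_comm ha hb])
    rw [hK, mem_subgroupOf]
    exact Subgroup.mem_normalizer_iff_map_conj_eq.2 e
  intro x hx
  exact hKH ⟨⟨x, hx⟩, htop ▸ Subgroup.mem_top _, rfl⟩

end Loc

end Cfsg.Lib.AltNineLocal
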