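import Cfsg.Agent.LocalThree.AltNineLocal.Fusion

/-!
A copy of the alternating group of degree nine inside the group.
-/

set_option autoImplicit false
set_option linter.unusedSectionVars false
set_option synthInstance.maxSize 4096
set_option maxRecDepth 100000
set_option maxHeartbeats 1000000

namespace Cfsg.Lib.AltNineLocal

open Equiv Subgroup Cfsg.Lib.Monomial

-- Decide bounded quantifiers along the list, not along the finite type.
attribute [local instance 10000] List.decidableBAll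

universe u

/-- The alternating group. -/
abbrev A9 := alternatingGroup (Fin 9)

/-- An even permutation. -/
def e9 (σ : Perm (Fin 9)) (h : Perm.sign σ = 1 := by decide +kernel) : A9 := ⟨σ, Perm.mem_alternatingGroup.2 h⟩

/-- The generators of Moore. -/
def g9 : Fin (9 - 2) → A9 :=
  ![e9 (swap 0 1 * swap 1 2), e9 (swap 0 1 * swap 2 3), e9 (swap 0 1 * swap 3 4), e9 (swap 0 1 * swap 4 5),
    e9 (swap 0 1 * swap 5 6), e9 (swap 0 1 * swap 6 7), e9 (swap 0 1 * swap 7 8)]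

theorem g9_rels : ∀ r ∈ mrels (9 - 2), FreeGroup.lift g9 r = 1 :=
  mrels_of g9 (by decide +kernel) (by decide +kernel) (by decide +kernel) (by decide +kernel)

/-- The embedding attached to a block, into the alternating group. -/
def emA (i : Fin 3) : L9 →* A9 := (em i).codRestrict A9 fun p => by
  rw [Perm.mem_alternatingGroup, em_apply, map_mul, map_mul, map_inv, em0_sign, mul_one, mul_inv_cancel]

/-- The generators in the coordinates of the first block. -/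
def aW : Fin (9 - 2) → L9 :=
  ![aL, 1, tL, el (swap 0 1) (swap 1 2), el (swap 0 1) (swap 2 3), el (swap 0 1) (swap 3 4), el (swap 0 1) (swap 4 5)]

/-- The generators in the coordinates of the third block. -/
def bW : Fin (9 - 2) → L9 :=
  ![sndX B6, sndX s0, sndX t6, sndX (e6 (swap 0 1 * swap 4 5)), 1, tL, el (swap 1 2) (swap 0 1)]

theorem word_data : (∀ i : Fin (9 - 2), i ≠ 1 → emA 0 (aW i) = g9 i) ∧ (∀ i : Fin (9 - 2), i ≠ 4 → emA 2 (bW i) = g9 i) ∧
    ∀ i : Fin (9 - 2), i ≠ 1 → i ≠ 4 → ∃ k : Mon, ∀ x : Fin 9, pointMap k x = em 0 (aW i) x := by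
  decide +kernel

theorem word_rels :
    (∀ i : Fin (9 - 2), i.val = 0 → aW i ^ 3 = 1) ∧
    (∀ i : Fin (9 - 2), 1 ≤ i.val → i ≠ 1 ∧ aW i ^ 2 = 1 ∨ i = 1 ∧ bW i ^ 2 = 1) ∧
    (∀ i j : Fin (9 - 2), j.val = i.val + 1 →
      (i ≠ 1 ∧ j ≠ 1 ∧ (aW i * aW j) ^ 3 = 1) ∨ (i ≠ 4 ∧ j ≠ 4 ∧ (bW i * bW j) ^ 3 = 1)) ∧
    (∀ i j : Fin (9 - 2), i.val + 1 < j.val →
      (i = 1 ∧ j = 4) ∨ (i ≠ 1 ∧ j ≠ 1 ∧ (aW i * aW j) ^ 2 = 1) ∨ (i ≠ 4 ∧ j ≠ 4 ∧ (bW i * bW j) ^ 2 = 1)) ∧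
    sndX r1 * aW 6 = aW 4 ∧ bW 1 * bW 6 = bW 6 * bW 1 := by
  decide +kernel

/-- A subgroup with the three-cycle and lifts of the adjacent transpositions is everything. -/
theorem L9_top (K : Subgroup L9) (ha : aL ∈ K)
    (h : ∀ i : Fin 5, ∃ k ∈ K, (k : Pr).2 = swap i.castSucc i.succ) : K = ⊤ := by
  set p : L9 →* Perm (Fin 6) := (MonoidHom.snd _ _).comp L9.subtype with hp
  have htop : ∀ σ : Perm (Fin 6), σ ∈ K.map p := by
    intro σ
    have hmem : σ ∈ Submonoid.closure (Set.range fun i : Fin 5 => swap i.castSucc i.succ) := by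
      rw [Perm.mclosure_swap_castSucc_succ]; trivial
    refine (Submonoid.closure_le (S := (K.map p).toSubmonoid)).2 ?_ hmem
    rintro _ ⟨i, rfl⟩
    obtain ⟨k, hk, e⟩ := h i
    exact ⟨k, hk, e⟩
  refine (eq_top_iff' K).2 fun x => ?_
  obtain ⟨k, hk, hkx⟩ := htop (p x)
  have h1 : p (x * k⁻¹) = 1 := by rw [map_mul, map_inv, hkx, mul_inv_cancel]
  have hs : Perm.sign ((x * k⁻¹ : L9) : Pr).1 = 1 := by
    rw [← sign_eq, show ((x * k⁻¹ : L9) : Pr).2 = 1 from h1, Perm.sign_one]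
  obtain ⟨j, hj⟩ := (show ∀ σ : Perm (Fin 3), Perm.sign σ = 1 → ∃ j : Fin 3, σ = c3 ^ (j : ℕ) by decide +kernel) _ hs
  rw [show x = aL ^ (j : ℕ) * k by
    rw [← mul_inv_eq_iff_eq_mul]
    exact Subtype.ext (Prod.ext hj (h1.trans (one_pow (j : ℕ)).symm))]
  exact mul_mem (pow_mem ha _) hk

theorem top_zero (K : Subgroup L9) (h : ∀ i, i ≠ 1 → aW i ∈ K) : K = ⊤ := by
  refine L9_top K (h 0 (by decide)) fun i => ?_
  fin_cases i
  exacts [⟨_, h 2 (by decide), rfl⟩, ⟨_, h 3 (by decide), rfl⟩, ⟨_, h 4 (by decide), rfl⟩,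
    ⟨_, h 5 (by decide), rfl⟩, ⟨_, h 6 (by decide), rfl⟩]

theorem top_two (K : Subgroup L9) (h : ∀ i, i ≠ 4 → bW i ∈ K) : K = ⊤ := by
  refine L9_top K ?_ fun i => ?_
  · rw [show aL = bW 5 * bW 6 by decide +kernel]
    exact mul_mem (h 5 (by decide)) (h 6 (by decide))
  fin_cases i
  exacts [⟨_, h 5 (by decide), rfl⟩, ⟨_, mul_mem (h 5 (by decide)) (h 0 (by decide)), by decide +kernel⟩,
    ⟨_, mul_mem (h 5 (by decide)) (h 1 (by decide)), by decide +kernel⟩,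
    ⟨_, mul_mem (h 5 (by decide)) (h 2 (by decide)), by decide +kernel⟩,
    ⟨_, mul_mem (h 5 (by decide)) (h 3 (by decide)), by decide +kernel⟩]

/-- An element exchanging the first two blocks. -/
def wL : L9 := el (swap 0 1) (swap 0 3 * swap 1 4 * swap 2 5)

/-- Elements fixing the first block. -/
def Fix0 (k : Mon) : Prop := ∀ x : Fin 9, x.val < 3 → (pointMap k x).val < 3

instance : DecidablePred Fix0 := fun k => inferInstanceAs (Decidable (∀ x : Fin 9, x.val < 3 → (pointMap k x).val < 3))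

theorem blocks_data : ∃ w : Mon, (∀ x : Fin 9, pointMap w x = em 2 wL x) ∧ Fix0 rot ∧
    ∀ k : Mon, Fix0 k ∨ Fix0 (w⁻¹ * k) ∨ Fix0 (w⁻¹ * rot * k) := by
  decide +kernel

namespace Big

variable {G : Type u} [Group G] [Finite G] (L : Big G)

include L

/-- The images of the generators. -/
def imgs (i : Fin (9 - 2)) : G := if i = 1 then L.ψ 2 s0 else L.f 0 (aW i)

theorem imgs_a {i : Fin (9 - 2)} (hi : i ≠ 1) : L.imgs i = L.f 0 (aW i) := if_neg hi

theorem imgs_b {i : Fin (9 - 2)} (hi : i ≠ 4) : L.imgs i = L.f 2 (bW i) := by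
  by_cases h1 : i = 1
  · subst h1; rfl
  obtain ⟨k, hk⟩ := word_data.2.2 i h1 hi
  rw [L.imgs_a h1]
  exact L.link ((congrArg Subtype.val (word_data.1 i h1)).trans (congrArg Subtype.val (word_data.2.1 i hi)).symm) k hk

theorem imgs_rels : ∀ r ∈ mrels (9 - 2), FreeGroup.lift L.imgs r = 1 := by
  obtain ⟨h1, h2, h3, h4, h5, h6⟩ := word_rels
  have A : ∀ (i j : Fin (9 - 2)) (n : ℕ), i ≠ 1 → j ≠ 1 → (aW i * aW j) ^ n = 1 → (L.imgs i * L.imgs j) ^ n = 1 :=
    fun i j n hi hj h => by rw [L.imgs_a hi, L.imgs_a hj, ← map_mul, ← map_pow, h, map_one]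
  have B : ∀ (i j : Fin (9 - 2)) (n : ℕ), i ≠ 4 → j ≠ 4 → (bW i * bW j) ^ n = 1 → (L.imgs i * L.imgs j) ^ n = 1 :=
    fun i j n hi hj h => by rw [L.imgs_b hi, L.imgs_b hj, ← map_mul, ← map_pow, h, map_one]
  have hsq : ∀ i : Fin (9 - 2), 1 ≤ i.val → L.imgs i ^ 2 = 1 := fun i hi => by
    rcases h2 i hi with ⟨hn, h⟩ | ⟨rfl, h⟩
    · rw [L.imgs_a hn, ← map_pow, h, map_one]
    · rw [L.imgs_b (by decide), ← map_pow, h, map_one]
  refine mrels_of L.imgs (fun i hi => ?_) hsq (fun i j hij => ?_) fun i j hij => ?_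
  · rw [L.imgs_a (by intro e; subst e; simp at hi), ← map_pow, h1 i hi, map_one]
  · rcases h3 i j hij with ⟨a, b, h⟩ | ⟨a, b, h⟩
    exacts [A i j 3 a b h, B i j 3 a b h]
  · rcases h4 i j hij with ⟨rfl, rfl⟩ | ⟨a, b, h⟩ | ⟨a, b, h⟩
    · obtain ⟨⟨hs1, -⟩, -⟩ := L.cent_R.resolve_left L.cent_R_big
      have hc6 : Commute (L.ψ 2 s0) (L.imgs 6) := by
        rw [L.imgs_b (by decide)]
        show L.f 2 (bW 1) * L.f 2 (bW 6) = L.f 2 (bW 6) * L.f 2 (bW 1)
        rw [← map_mul, ← map_mul, h6]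
      have he : L.imgs 4 = L.ψ 0 r1 * L.imgs 6 := by
        rw [L.imgs_a (by decide), L.imgs_a (by decide), ← h5, map_mul]; rfl
      have hc : Commute (L.imgs 1) (L.imgs 4) := by
        rw [he]; exact (show Commute (L.ψ 2 s0) (L.ψ 0 r1) from hs1).mul_right hc6
      rw [hc.mul_pow, hsq 1 le_rfl, hsq 4 (by decide), one_mul]
    · exact A i j 2 a b h
    · exact B i j 2 a b h

/-- The map from the alternating group. -/
theorem exists_hom : ∃ Φ : A9 →* G, Function.Injective Φ ∧ ∀ i, Φ (g9 i) = L.imgs i := by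
  obtain ⟨e, he⟩ := moore_iso 9 (by norm_num) g9 0 (by decide +kernel) g9_rels
  refine ⟨(PresentedGroup.toGroup L.imgs_rels).comp e.symm.toMonoidHom, ?_, fun i => ?_⟩
  · rw [← MonoidHom.ker_eq_bot_iff]
    haveI : IsSimpleGroup A9 := alternatingGroup.isSimpleGroup (by simp)
    refine (MonoidHom.normal_ker _).eq_bot_or_eq_top.resolve_right fun h => ?_
    have h0 := h.ge (mem_top (g9 0))
    rw [MonoidHom.mem_ker, MonoidHom.comp_apply, MulEquiv.coe_toMonoidHom, ← he 0, e.symm_apply_apply,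
      PresentedGroup.toGroup.of, L.imgs_a (by decide)] at h0
    exact absurd (L.f_inj 0 (h0.trans (map_one (L.f 0)).symm)) (by decide +kernel)
  · rw [MonoidHom.comp_apply, MulEquiv.coe_toMonoidHom, ← he i, e.symm_apply_apply, PresentedGroup.toGroup.of]

/-- The copy. -/
noncomputable def Φ : A9 →* G := L.exists_hom.choose

theorem Φ_inj : Function.Injective L.Φ := L.exists_hom.choose_spec.1

theorem Φ_g9 (i : Fin (9 - 2)) : L.Φ (g9 i) = L.imgs i := L.exists_hom.choose_spec.2 i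

theorem Φ_zero (p : L9) : L.Φ (emA 0 p) = L.f 0 p :=
  (top_zero (MonoidHom.eqLocus (L.Φ.comp (emA 0)) (L.f 0)) fun i hi => by
    show L.Φ (emA 0 (aW i)) = L.f 0 (aW i)
    rw [word_data.1 i hi, L.Φ_g9, L.imgs_a hi]).ge (mem_top p)

theorem Φ_two (p : L9) : L.Φ (emA 2 p) = L.f 2 p :=
  (top_two (MonoidHom.eqLocus (L.Φ.comp (emA 2)) (L.f 2)) fun i hi => by
    show L.Φ (emA 2 (bW i)) = L.f 2 (bW i)
    rw [word_data.2.1 i hi, L.Φ_g9, L.imgs_b hi]).ge (mem_top p)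

/-- The copy extends the local data. -/
theorem Φ_mon (k : Mon) (h : toNine k ∈ A9) : L.Φ ⟨toNine k, h⟩ = L.φ k := by
  obtain ⟨K, hK⟩ : ∃ K : Subgroup Mon,
      K = MonoidHom.eqLocus (L.Φ.comp (toNine.codRestrict A9 fun k => (toNine_mem k).1)) L.φ := ⟨_, rfl⟩
  have hmem : ∀ (i : Fin 3) (p : L9) (k : Mon), toNine k = em i p → L.Φ (emA i p) = L.f i p → k ∈ K := by
    intro i p k hk he
    rw [hK]
    show L.Φ ⟨toNine k, _⟩ = L.φ k
    rw [← L.agree hk, ← he]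
    exact congrArg L.Φ (Subtype.ext hk)
  have h0 : ∀ k, Fix0 k → k ∈ K := by
    intro k hk
    obtain ⟨i, j, l, m, n, rfl⟩ := stab_block k hk
    have e0 : ∀ p, em 0 p = em0 p := fun p => by rw [em_apply, Fin.val_zero, pow_zero, one_mul, inv_one, mul_one]
    obtain ⟨⟨a, b, c⟩, r, t⟩ := images
    exact mul_mem (mul_mem (mul_mem (mul_mem (pow_mem (hmem 0 aL _ (a.trans (e0 _).symm) (L.Φ_zero _)) _)
      (pow_mem (hmem 0 bL _ (b.trans (e0 _).symm) (L.Φ_zero _)) _))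
      (pow_mem (hmem 0 cL _ (c.trans (e0 _).symm) (L.Φ_zero _)) _))
      (pow_mem (hmem 0 rL _ (r.trans (e0 _).symm) (L.Φ_zero _)) _))
      (pow_mem (hmem 0 tL _ (t.trans (e0 _).symm) (L.Φ_zero _)) _)
  obtain ⟨w, hw, hrot, hcov⟩ := blocks_data
  have hwK : w ∈ K := hmem 2 wL w (Equiv.ext fun x => by rw [toNine_apply, hw]) (L.Φ_two _)
  have hk : k ∈ K := by
    rcases hcov k with e | e | e
    · exact h0 k e
    · rw [show k = w * (w⁻¹ * k) by group]; exact mul_mem hwK (h0 _ e)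
    · rw [show k = rot⁻¹ * w * (w⁻¹ * rot * k) by group]
      exact mul_mem (mul_mem (inv_mem (h0 _ hrot)) hwK) (h0 _ e)
  rw [hK] at hk
  exact hk

/-- All three blocks. -/
theorem Φ_f (i : Fin 3) (p : L9) : L.Φ (emA i p) = L.f i p := by
  have hs : L.Φ ⟨toNine sh, (toNine_mem sh).1⟩ = L.φ sh := L.Φ_mon sh _
  rw [show emA i p = (⟨toNine sh, (toNine_mem sh).1⟩ : A9) ^ (i : ℕ) * emA 0 p *
      ((⟨toNine sh, (toNine_mem sh).1⟩ : A9) ^ (i : ℕ))⁻¹ from Subtype.ext (by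
        simp only [emA, MonoidHom.codRestrict_apply, Subgroup.coe_mul, Subgroup.coe_inv, SubmonoidClass.coe_pow]
        rw [em_apply, em_apply]; simp),
    map_mul, map_mul, map_inv, map_pow, hs, L.Φ_zero, L.f_apply i, L.f_apply 0, map_pow]
  simp

end Big

end Cfsg.Lib.AltNineLocal
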