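import Cfsg.Agent.LocalThree.AltNineLocal.Three
import Cfsg.Agent.LocalThree.NineSixMain
import Cfsg.Agent.Coprime.Generation

/-!
A self-centralising Sylow subgroup of order nine with cyclic automizer of order four is normal, or
the group is simple of order `360`.
-/

set_option autoImplicit false
set_option linter.unusedSectionVars false

namespace Cfsg.Lib.AltNineLocal

open Subgroup
open scoped Pointwise

universe u

variable {G : Type u} [Group G] [Finite G]

/-- The data. -/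
structure FourLine (G : Type u) [Group G] where
  P : Sylow 3 G
  b : G
  c : G
  r : G
  b_mem : b ∈ (P : Subgroup G)
  c_mem : c ∈ (P : Subgroup G)
  card9 : Nat.card (P : Subgroup G) = 9
  cube : ∀ s ∈ (P : Subgroup G), s * (s * s) = 1
  comm : ∀ s ∈ (P : Subgroup G), ∀ s' ∈ (P : Subgroup G), s * s' = s' * s
  b_ne : b ≠ 1
  c_sep : c ≠ b ∧ c ≠ b⁻¹
  rb : r * b * r⁻¹ = c
  rc : r * c * r⁻¹ = b⁻¹
  r_norm : r ∈ normalizer ((P : Subgroup G) : Set G)
  norm : ∀ g ∈ normalizer ((P : Subgroup G) : Set G), ∃ i < 4, (r ^ i)⁻¹ * g ∈ (P : Subgroup G)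
  cent : ∀ s ∈ (P : Subgroup G), s ≠ 1 → centralizer ({s} : Set G) = P

namespace FourLine

variable (S : FourLine G)

include S

theorem c_ne : S.c ≠ 1 := by
  intro e
  have h := S.rb
  rw [e, conj_eq_one_iff] at h
  exact S.b_ne h

theorem span : (S.P : Subgroup G) = closure {S.b, S.c} := by
  classical
  have : Fact (Nat.Prime 3) := ⟨Nat.prime_three⟩
  obtain ⟨C, hC⟩ : ∃ C : Subgroup G, C = closure {S.b, S.c} := ⟨_, rfl⟩
  have hle : C ≤ (S.P : Subgroup G) := hC ▸ (closure_le _).2 (by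
    rintro a (rfl | rfl)
    exacts [S.b_mem, S.c_mem])
  rw [← hC]
  refine (Subgroup.eq_of_le_of_card_ge hle ?_).symm
  rw [S.card9]
  by_contra hlt
  have h0 : S.b ∈ C := hC ▸ subset_closure (Set.mem_insert _ _)
  have h1 : S.c ∈ C := hC ▸ subset_closure (Set.mem_insert_of_mem _ rfl)
  obtain ⟨j, hj, hjc⟩ := (Nat.dvd_prime_pow Nat.prime_three).1
    (show Nat.card C ∣ 3 ^ 2 by rw [show 3 ^ 2 = 9 from rfl, ← S.card9]; exact card_dvd_of_le hle)
  have hb : orderOf S.b = 3 := orderOf_eq_prime (by rw [pow_succ', pow_two, S.cube _ S.b_mem]) S.b_ne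
  have hz : zpowers S.b = C := Subgroup.eq_of_le_of_card_ge (zpowers_le.2 h0) (by
    rw [Nat.card_zpowers, hb, hjc]
    interval_cases j
    · norm_num
    · norm_num
    · rw [hjc] at hlt; norm_num at hlt)
  rw [← hz, mem_zpowers_iff_mem_range_orderOf, hb] at h1
  simp only [Finset.mem_image, Finset.mem_range] at h1
  obtain ⟨i, hi, hie⟩ := h1
  interval_cases i
  · exact S.c_ne (by rw [← hie, pow_zero])
  · exact S.c_sep.1 (by rw [← hie, pow_one])
  · refine S.c_sep.2 ?_
    rw [← hie, pow_two]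
    exact (inv_eq_of_mul_eq_one_right (S.cube _ S.b_mem)).symm

theorem r2_inv : ∀ s ∈ (S.P : Subgroup G), S.r ^ 2 * s * (S.r ^ 2)⁻¹ = s⁻¹ := by
  intro s hs
  rw [S.span] at hs
  have hb : S.r ^ 2 * S.b * (S.r ^ 2)⁻¹ = S.b⁻¹ := by
    rw [← S.rc, ← S.rb, pow_two]; group
  have hc : S.r ^ 2 * S.c * (S.r ^ 2)⁻¹ = S.c⁻¹ := by
    calc S.r ^ 2 * S.c * (S.r ^ 2)⁻¹ = S.r * (S.r * S.c * S.r⁻¹) * S.r⁻¹ := by rw [pow_two]; group
      _ = (S.r * S.b * S.r⁻¹)⁻¹ := by rw [S.rc]; group
      _ = _ := by rw [S.rb]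
  have hP : closure {S.b, S.c} ≤ (S.P : Subgroup G) := S.span.ge
  induction hs using Subgroup.closure_induction with
  | mem x hx =>
    rcases hx with rfl | rfl
    exacts [hb, hc]
  | one => group
  | mul x y hx hy ihx ihy =>
    rw [show S.r ^ 2 * (x * y) * (S.r ^ 2)⁻¹ = (S.r ^ 2 * x * (S.r ^ 2)⁻¹) * (S.r ^ 2 * y * (S.r ^ 2)⁻¹) by group,
      ihx, ihy, mul_inv_rev, S.comm _ (inv_mem (hP hy)) _ (inv_mem (hP hx))]
  | inv x hx ih =>
    rw [show S.r ^ 2 * x⁻¹ * (S.r ^ 2)⁻¹ = (S.r ^ 2 * x * (S.r ^ 2)⁻¹)⁻¹ by group, ih]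

theorem images {g : G} (hg : g ∈ normalizer ((S.P : Subgroup G) : Set G)) :
    g * S.b * g⁻¹ = S.b ∨ g * S.b * g⁻¹ = S.c ∨ g * S.b * g⁻¹ = S.b⁻¹ ∨ g * S.b * g⁻¹ = S.c⁻¹ := by
  obtain ⟨i, hi, hgi⟩ := S.norm g hg
  have e : g * S.b * g⁻¹ = S.r ^ i * S.b * (S.r ^ i)⁻¹ := by
    calc g * S.b * g⁻¹ = S.r ^ i * (((S.r ^ i)⁻¹ * g) * S.b * ((S.r ^ i)⁻¹ * g)⁻¹) * (S.r ^ i)⁻¹ := by group
      _ = _ := by rw [mul_inv_eq_iff_eq_mul.2 (S.comm _ hgi _ S.b_mem)]
  interval_cases i
  · exact Or.inl (by rw [e]; group)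
  · exact Or.inr (Or.inl (by rw [e, pow_one, S.rb]))
  · exact Or.inr (Or.inr (Or.inl (by rw [e, S.r2_inv _ S.b_mem])))
  · refine Or.inr (Or.inr (Or.inr ?_))
    rw [e]
    calc S.r ^ 3 * S.b * (S.r ^ 3)⁻¹ = S.r * (S.r ^ 2 * S.b * (S.r ^ 2)⁻¹) * S.r⁻¹ := by
          rw [pow_succ S.r 2]; group
      _ = (S.r * S.b * S.r⁻¹)⁻¹ := by rw [S.r2_inv _ S.b_mem]; group
      _ = _ := by rw [S.rb]

theorem bc_facts : S.b * S.c ≠ 1 ∧ S.b * S.c ≠ S.b ∧ S.b * S.c ≠ S.c ∧ S.b * S.c ≠ S.b⁻¹ ∧ S.b * S.c ≠ S.c⁻¹ := by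
  have hb2 : S.b⁻¹ = S.b * S.b := inv_eq_of_mul_eq_one_right (S.cube _ S.b_mem)
  have hc2 : S.c⁻¹ = S.c * S.c := inv_eq_of_mul_eq_one_right (S.cube _ S.c_mem)
  refine ⟨fun e => S.c_sep.2 (eq_inv_of_mul_eq_one_right e), fun e => S.c_ne (mul_eq_left.1 e),
    fun e => S.b_ne (mul_eq_right.1 e), fun e => ?_, fun e => ?_⟩
  · rw [hb2] at e
    exact S.c_sep.1 (mul_left_cancel e)
  · rw [hc2] at e
    exact S.c_sep.1 (mul_right_cancel e).symm

theorem not_isConj : ¬ IsConj S.b (S.b * S.c) := by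
  intro h
  obtain ⟨g, hg⟩ := isConj_iff.1 h
  have hbc : S.b * S.c ∈ (S.P : Subgroup G) := mul_mem S.b_mem S.c_mem
  have hgN : g ∈ normalizer ((S.P : Subgroup G) : Set G) := by
    refine Subgroup.mem_normalizer_iff_map_conj_eq.2 (Subgroup.eq_of_le_of_card_ge ?_
      (by rw [Subgroup.card_map_of_injective (MulAut.conj g).injective]))
    rintro _ ⟨s, hs, rfl⟩
    rw [← S.cent _ hbc S.bc_facts.1, mem_centralizer_singleton_iff, ← hg]
    show g * s * g⁻¹ * (g * S.b * g⁻¹) = g * S.b * g⁻¹ * (g * s * g⁻¹)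
    rw [show g * s * g⁻¹ * (g * S.b * g⁻¹) = g * (s * S.b) * g⁻¹ by group, S.comm _ hs _ S.b_mem]
    group
  obtain ⟨-, h1, h2, h3, h4⟩ := S.bc_facts
  rcases S.images hgN with e | e | e | e <;> rw [hg] at e
  exacts [h1 e, h2 e, h3 e, h4 e]

theorem three_eq_bot {M : Subgroup G} (hM : ∀ s ∈ (S.P : Subgroup G), ∀ m ∈ M, s * m * s⁻¹ ∈ M)
    (h3 : (Nat.card M).Coprime 3) : M = ⊥ := by
  haveI : IsMulCommutative (S.P : Subgroup G) := ⟨⟨fun x y => Subtype.ext (S.comm _ x.2 _ y.2)⟩⟩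
  have hnc : ¬ IsCyclic (S.P : Subgroup G) := by
    rintro ⟨⟨a, ha⟩⟩
    have h1 : orderOf a ∣ 3 := orderOf_dvd_of_pow_eq_one (Subtype.ext (by
      push_cast; rw [pow_succ', pow_two, S.cube _ a.2]))
    have h2 := (orderOf_eq_card_of_forall_mem_zpowers ha).trans S.card9
    rw [h2] at h1
    norm_num at h1
  have hcop : (Nat.card (S.P : Subgroup G)).Coprime (Nat.card M) := by
    rw [S.card9, show (9 : ℕ) = 3 ^ 2 from rfl]
    exact h3.symm.pow_left 2
  have hn : (S.P : Subgroup G) ≤ normalizer (M : Set G) := fun s hs => mem_normalizer_iff.2 fun m =>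
    ⟨hM s hs m, fun h => by simpa [mul_assoc] using hM _ (inv_mem hs) _ h⟩
  rw [← Cfsg.Lib.Coprime.centralizerJoin_eq hnc hn hcop, eq_bot_iff]
  refine iSup₂_le fun a ha => ?_
  obtain ⟨haP, ha1⟩ := (show a ∈ (S.P : Subgroup G) ∧ a ≠ 1 from ha)
  rw [S.cent a haP ha1, inf_comm]
  intro x hx
  obtain ⟨hxP, hxM⟩ := mem_inf.1 hx
  have d1 : orderOf x ∣ Nat.card (S.P : Subgroup G) := orderOf_mk x hxP ▸ orderOf_dvd_natCard _
  have d2 : orderOf x ∣ Nat.card M := orderOf_mk x hxM ▸ orderOf_dvd_natCard _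
  exact Subgroup.mem_bot.2 (orderOf_eq_one_iff.1 (Nat.eq_one_of_dvd_coprimes hcop d1 d2))

theorem main : normalizer ((S.P : Subgroup G) : Set G) = ⊤ ∨ (IsSimpleGroup G ∧ Nat.card G = 360) := by
  classical
  have : Fact (Nat.Prime 3) := ⟨Nat.prime_three⟩
  obtain ⟨L, hL⟩ : ∃ L : Subgroup G, L = normalClosure ((S.P : Subgroup G) : Set G) := ⟨_, rfl⟩
  haveI : L.Normal := hL ▸ inferInstance
  have hPL : (S.P : Subgroup G) ≤ L := hL ▸ fun s hs => subset_normalClosure hs
  let PL : Sylow 3 L := S.P.subtype hPL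
  have hfr : normalizer ((S.P : Subgroup G) : Set G) ⊔ L = ⊤ := by
    have := Sylow.normalizer_sup_eq_top (N := L) PL
    convert this using 3
    simp only [PL, Sylow.coe_subtype]
    rw [Subgroup.map_subgroupOf_eq_of_le hPL]
  have hnormL : ∀ {g : L}, g ∈ normalizer ((PL : Subgroup L) : Set L) →
      (g : G) ∈ normalizer ((S.P : Subgroup G) : Set G) := by
    intro g hg
    refine mem_normalizer_iff.2 fun s => ⟨fun hs => (mem_normalizer_iff.1 hg ⟨s, hPL hs⟩).1 hs, fun hs => ?_⟩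
    have hsL : s ∈ L := by
      have := mul_mem (mul_mem (inv_mem g.2) (hPL hs)) g.2
      simpa [mul_assoc] using this
    exact (mem_normalizer_iff.1 hg ⟨s, hsL⟩).2 hs
  have coreL : Cfsg.pPrimeCore 3 L = ⊥ := by
    have hcp := Cfsg.Lib.Components.coprime_card_pPrimeCore (G := L) 3
    have h := S.three_eq_bot (M := (Cfsg.pPrimeCore 3 L).map L.subtype) (fun s hs m hm => by
      obtain ⟨m', hm', rfl⟩ := hm
      exact ⟨⟨s, hPL hs⟩ * m' * ⟨s, hPL hs⟩⁻¹, (inferInstance : (Cfsg.pPrimeCore 3 L).Normal).conj_mem _ hm' _, rfl⟩)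
      (by rw [Subgroup.card_map_of_injective L.subtype_injective]; exact hcp)
    rwa [Subgroup.map_eq_bot_iff, Subgroup.ker_subtype, le_bot_iff] at h
  -- the Sylow subgroup is normal as soon as it is normal in the normal closure
  have hdown : normalizer ((PL : Subgroup L) : Set L) = ⊤ → normalizer ((S.P : Subgroup G) : Set G) = ⊤ := by
    intro h
    rw [← hfr, eq_comm, sup_eq_left]
    intro g hg
    exact hnormL (g := ⟨g, hg⟩) (h ▸ Subgroup.mem_top _)
  by_cases hr : S.r ∈ L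
  · right
    have hNL : normalizer ((S.P : Subgroup G) : Set G) ≤ L := fun g hg => by
      obtain ⟨i, -, h⟩ := S.norm g hg
      simpa using mul_mem (pow_mem hr i) (hPL h)
    have htop : L = ⊤ := by rw [← hfr, sup_eq_right.2 hNL]
    have hsimple : IsSimpleGroup G := by
      have : Nontrivial G := ⟨S.b, 1, S.b_ne⟩
      refine IsSimpleGroup.mk fun M hM => ?_
      by_cases h3 : 3 ∣ Nat.card M
      · right
        obtain ⟨w, hw⟩ := exists_prime_orderOf_dvd_card' (G := M) 3 h3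
        have hpg : IsPGroup 3 (zpowers (w : G)) := IsPGroup.of_card (n := 1) (by
          rw [Nat.card_zpowers, orderOf_coe, hw, pow_one])
        obtain ⟨Q, hQ⟩ := hpg.exists_le_sylow
        obtain ⟨k, hk⟩ := MulAction.exists_smul_eq G Q S.P
        obtain ⟨s, hs⟩ : ∃ s, s = k * (w : G) * k⁻¹ := ⟨_, rfl⟩
        have hsP : s ∈ (S.P : Subgroup G) := by
          rw [hs, ← hk, Sylow.coe_subgroup_smul]; exact ⟨_, hQ (mem_zpowers _), rfl⟩
        have hsM : s ∈ M := hs ▸ hM.conj_mem _ w.2 k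
        have hs1 : s ≠ 1 := by
          rw [hs]
          intro e
          have e' := conj_eq_one_iff.1 e
          rw [← orderOf_eq_one_iff, orderOf_coe, hw] at e'
          exact absurd e' (by norm_num)
        have hs' : S.r * s * S.r⁻¹ ∈ M := hM.conj_mem _ hsM _
        have hs'P : S.r * s * S.r⁻¹ ∈ (S.P : Subgroup G) := (mem_normalizer_iff.1 S.r_norm s).1 hsP
        have hne : S.r * s * S.r⁻¹ ∉ zpowers s := by
          intro h
          have ho : orderOf s = 3 := orderOf_eq_prime (by rw [pow_succ', pow_two, S.cube _ hsP]) hs1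
          rw [mem_zpowers_iff_mem_range_orderOf, ho] at h
          simp only [Finset.mem_image, Finset.mem_range] at h
          obtain ⟨i, hi, hie⟩ := h
          have hfix : S.r ^ 2 * s * (S.r ^ 2)⁻¹ = s := by
            interval_cases i
            · rw [pow_zero, eq_comm, conj_eq_one_iff] at hie; exact absurd hie hs1
            · rw [pow_one] at hie
              rw [show S.r ^ 2 * s * (S.r ^ 2)⁻¹ = S.r * (S.r * s * S.r⁻¹) * S.r⁻¹ by rw [pow_two]; group,
                ← hie, ← hie]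
            · rw [show S.r ^ 2 * s * (S.r ^ 2)⁻¹ = S.r * (S.r * s * S.r⁻¹) * S.r⁻¹ by rw [pow_two]; group,
                ← hie, ← conj_pow, ← hie, ← pow_mul, show (2 : ℕ) * 2 = 3 + 1 from rfl, pow_succ,
                show s ^ 3 = 1 by rw [pow_succ', pow_two, S.cube _ hsP], one_mul]
          rw [S.r2_inv s hsP] at hfix
          refine hs1 ?_
          have h2 : s * s = 1 := by nth_rw 1 [← hfix]; exact inv_mul_cancel s
          have h3' := S.cube _ hsP
          rwa [h2, mul_one] at h3'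
        have hPM : (S.P : Subgroup G) ≤ M := by
          obtain ⟨C, hC⟩ : ∃ C : Subgroup G, C = (S.P : Subgroup G) ⊓ M := ⟨_, rfl⟩
          have hzC : zpowers s ≤ C := hC ▸ zpowers_le.2 (mem_inf.2 ⟨hsP, hsM⟩)
          have hcard : Nat.card C = 9 := by
            obtain ⟨j, hj, hjc⟩ := (Nat.dvd_prime_pow Nat.prime_three).1
              (show Nat.card C ∣ 3 ^ 2 by rw [show 3 ^ 2 = 9 from rfl, ← S.card9]; exact card_dvd_of_le (hC ▸ inf_le_left))
            rw [hjc]
            by_contra hne9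
            refine hne ?_
            have hle3 : Nat.card C ≤ Nat.card (zpowers s) := by
              rw [Nat.card_zpowers, orderOf_eq_prime (by rw [pow_succ', pow_two, S.cube _ hsP]) hs1, hjc]
              interval_cases j <;> simp_all
            rw [Subgroup.eq_of_le_of_card_ge hzC hle3, hC]
            exact mem_inf.2 ⟨hs'P, hs'⟩
          have e : C = (S.P : Subgroup G) :=
            Subgroup.eq_of_le_of_card_ge (hC ▸ inf_le_left) (by rw [hcard, S.card9])
          exact fun x hx => by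
            rw [← e, hC] at hx
            exact (mem_inf.1 hx).2
        rw [eq_top_iff, ← htop, hL]
        exact normalClosure_le_normal hPM
      · exact Or.inl (S.three_eq_bot (fun s _ m hm => hM.conj_mem m hm s)
          ((Nat.prime_three.coprime_iff_not_dvd.2 h3).symm))
    refine ⟨hsimple, Cfsg.Lib.NineTI.order_three_sixty S.P _ rfl ⟨⟨fun x y => Subtype.ext (S.comm _ x.2 _ y.2)⟩⟩
      (fun a ha => by rw [pow_succ', pow_two, S.cube a ha]) S.card9 ⟨S.b, S.b * S.c, ?_, ?_, fun g e =>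
        S.not_isConj (isConj_iff.2 ⟨g, e⟩)⟩ S.cent⟩
    · exact orderOf_eq_prime (by rw [pow_succ', pow_two, S.cube _ S.b_mem]) S.b_ne
    · exact orderOf_eq_prime (by rw [pow_succ', pow_two, S.cube _ (mul_mem S.b_mem S.c_mem)]) S.bc_facts.1
  left
  refine hdown ?_
  have hPLmem : ∀ {x : L}, x ∈ (PL : Subgroup L) ↔ (x : G) ∈ (S.P : Subgroup G) := Iff.rfl
  have hcard : Nat.card (PL : Subgroup L) = 9 := by
    rw [← S.card9]; exact Nat.card_congr (subgroupOfEquivOfLe hPL).toEquiv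
  have hcent : ∀ x : L, (x : G) ∈ (S.P : Subgroup G) → x ≠ 1 → centralizer ({x} : Set L) = (PL : Subgroup L) := by
    intro x hx h1
    ext y
    rw [mem_centralizer_singleton_iff, hPLmem, ← S.cent _ hx (fun e => h1 (Subtype.ext e)),
      mem_centralizer_singleton_iff]
    exact ⟨congrArg Subtype.val, fun h => Subtype.ext h⟩
  have odd_out : ∀ g : L, g ∈ normalizer ((PL : Subgroup L) : Set L) →
      (g : G) ∈ (S.P : Subgroup G) ∨ (S.r ^ 2)⁻¹ * g ∈ (S.P : Subgroup G) := by
    intro g hg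
    obtain ⟨i, hi, h⟩ := S.norm _ (hnormL hg)
    interval_cases i
    · exact Or.inl (by simpa using h)
    · exact absurd (by simpa using mul_mem g.2 (inv_mem (hPL h)) : S.r ∈ L) hr
    · exact Or.inr h
    · exfalso
      have h3 : S.r ^ 3 ∈ L := by simpa using mul_mem g.2 (inv_mem (hPL h))
      have h4 : S.r ^ 4 ∈ (S.P : Subgroup G) := by
        rw [← S.cent S.b S.b_mem S.b_ne, mem_centralizer_singleton_iff]
        have e : S.r ^ 4 * S.b * (S.r ^ 4)⁻¹ = S.b := by
          calc S.r ^ 4 * S.b * (S.r ^ 4)⁻¹ = S.r ^ 2 * (S.r ^ 2 * S.b * (S.r ^ 2)⁻¹) * (S.r ^ 2)⁻¹ := by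
                rw [show (4 : ℕ) = 2 + 2 from rfl, pow_add]; group
            _ = _ := by rw [S.r2_inv _ S.b_mem, S.r2_inv _ (inv_mem S.b_mem), inv_inv]
        exact mul_inv_eq_iff_eq_mul.1 e
      refine hr ?_
      have := mul_mem (inv_mem h3) (hPL h4)
      rwa [pow_succ S.r 3, inv_mul_cancel_left] at this
  by_cases hr2 : S.r ^ 2 ∈ L
  · let rr : Fin 3 → L := ![⟨S.b, hPL S.b_mem⟩, ⟨S.c, hPL S.c_mem⟩, ⟨S.b * S.c, hPL (mul_mem S.b_mem S.c_mem)⟩]
    have hrm : ∀ i, (rr i : G) ∈ (S.P : Subgroup G) := by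
      intro i; fin_cases i
      exacts [S.b_mem, S.c_mem, mul_mem S.b_mem S.c_mem]
    have hrn : ∀ i, rr i ≠ 1 := by
      intro i; fin_cases i
      exacts [fun e => S.b_ne (congrArg Subtype.val e), fun e => S.c_ne (congrArg Subtype.val e),
        fun e => S.bc_facts.1 (congrArg Subtype.val e)]
    let T : Three L :=
      { P := PL
        r := rr
        r_two := Subtype.ext rfl
        r_mem := hrm
        card9 := hcard
        cube := fun s hs => Subtype.ext (S.cube _ hs)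
        comm := fun s hs s' hs' => Subtype.ext (S.comm _ hs _ hs')
        r_ne := hrn
        r_sep := by
          obtain ⟨h0, h1, h2, h3, h4⟩ := S.bc_facts
          have hinj : ∀ {u v : L}, (u : G) ≠ v → u ≠ v := fun h e => h (congrArg Subtype.val e)
          intro i j hij
          fin_cases i <;> fin_cases j <;> first
            | exact absurd rfl hij
            | exact ⟨hinj S.c_sep.1, hinj S.c_sep.2⟩
            | exact ⟨hinj S.c_sep.1.symm, hinj fun e => S.c_sep.2 (by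
                change S.b = S.c⁻¹ at e
                rw [e, inv_inv])⟩
            | exact ⟨hinj h1, hinj h3⟩
            | exact ⟨hinj h2, hinj h4⟩
            | exact ⟨hinj h1.symm, hinj fun e => h3 (by
                change S.b = (S.b * S.c)⁻¹ at e
                rw [e, inv_inv, ← e])⟩
            | exact ⟨hinj h2.symm, hinj fun e => h4 (by
                change S.c = (S.b * S.c)⁻¹ at e
                rw [e, inv_inv, ← e])⟩
        cent := fun i => hcent _ (hrm i) (hrn i)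
        t := ⟨S.r ^ 2, hr2⟩
        inv := fun s hs => Subtype.ext (S.r2_inv _ hs)
        norm := fun g hg => (odd_out g hg).imp id id
        core := coreL }
    exact T.normal
  · -- self-normalising
    have hNC : normalizer ((PL : Subgroup L) : Set L) ≤ centralizer ((PL : Subgroup L) : Set L) := by
      intro g hg
      rcases odd_out g hg with h | h
      · rw [mem_centralizer_iff]
        exact fun s hs => Subtype.ext (S.comm _ hs _ h)
      · exact absurd (by simpa using mul_mem g.2 (inv_mem (hPL h)) : S.r ^ 2 ∈ L) hr2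
    obtain ⟨τ, hτ⟩ : ∃ τ, τ = MonoidHom.transferSylow PL hNC := ⟨_, rfl⟩
    have hcompl := MonoidHom.ker_transferSylow_isComplement' PL hNC
    rw [← hτ] at hcompl
    have hk : (Nat.card τ.ker).Coprime 3 := by
      refine Nat.Coprime.symm (Nat.prime_three.coprime_iff_not_dvd.2 fun h => ?_)
      have h9 := PL.not_dvd_index
      rw [hcompl.index_eq_card] at h9
      exact h9 h
    have hkb : τ.ker = ⊥ := eq_bot_iff.2 (coreL ▸ Cfsg.Lib.Components.le_pPrimeCore hk)
    rw [hkb] at hcompl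
    rw [Subgroup.isComplement'_bot_left.1 hcompl]
    exact normalizer_eq_top_iff.2 inferInstance

end FourLine

end Cfsg.Lib.AltNineLocal
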