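import Cfsg.Agent.LocalThree.AltNineLocal.Cents
import Cfsg.Agent.LocalThree.AltNineLocal.FourLine

/-!
The centraliser of an element with one nonzero coordinate, modulo that element.
-/

set_option autoImplicit false
set_option linter.unusedSectionVars false
set_option maxRecDepth 8000

namespace Cfsg.Lib.AltNineLocal

open Subgroup Cfsg.Lib.Monomial
open scoped Pointwise

universe u

/-- The element of order four. -/
def rot : Mon := ⟨0, 5⟩

theorem rot_spec : rot * tv 1 = tv 1 * rot ∧ rot * tv 3 * rot⁻¹ = tv 9 ∧ rot * tv 9 * rot⁻¹ = (tv 3)⁻¹ ∧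
    rot ^ 4 = 1 := by decide +kernel

theorem one_data : (∀ k : Mon, nine k → k * tv 1 = tv 1 * k → InV k) ∧
    (∀ k : Mon, k * tv 1 = tv 1 * k → ∃ i : Fin 4, InV ((rot ^ (i : ℕ))⁻¹ * k)) ∧
    (∀ k : Mon, k * tv 1 = tv 1 * k → ∀ w : Fin 27, (∀ j : Fin 3, tv w ≠ tv 1 ^ (j : ℕ)) →
      k * tv w = tv w * k → InV k) := by decide +kernel

set_option synthInstance.maxSize 2000 in
set_option synthInstance.maxHeartbeats 400000 in
theorem coset_data : ∀ v : Fin 27, (∀ j : Fin 3, tv v ≠ tv 1 ^ (j : ℕ)) → ∃ u w : Fin 27, ∃ j₁ j₂ j₃ : Fin 3,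
    tv v * tv 1 ^ (j₁ : ℕ) = tv u ∧ tv v * tv 1 ^ (j₂ : ℕ) = tv w ∧ tv w = tv u * tv 1 ^ (j₃ : ℕ) ∧
    (cls (tv w) = 12 ∨ cls (tv w) = 13) ∧ (∀ j : Fin 3, tv w ≠ tv 1 ^ (j : ℕ)) ∧
    ∀ j : Fin 3, cls (tv u * tv 1 ^ (j : ℕ)) = cls (tv u) → tv u * tv 1 ^ (j : ℕ) = tv u := by decide +kernel

theorem two_three : ∀ w : Fin 27, (cls (tv w) = 12 → ∃ k : Mon, k * tv 4 * k⁻¹ = tv w) ∧
    (cls (tv w) = 13 → ∃ k : Mon, k * tv 13 * k⁻¹ = tv w) := by decide +kernel

theorem sep_data : (∀ j : Fin 3, tv 3 ≠ tv 1 ^ (j : ℕ)) ∧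
    (∀ j : Fin 3, (tv 3)⁻¹ * tv 9 ≠ tv 1 ^ (j : ℕ) ∧ tv 3 * tv 9 ≠ tv 1 ^ (j : ℕ)) := by decide +kernel

namespace Loc

variable {G : Type u} [Group G] [Finite G] (L : Loc G)

include L

theorem cent_conj {k : Mon} {v w : Fin 27} (h : k * tv v * k⁻¹ = tv w)
    (hv : centralizer ({L.tr v} : Set G) ≤ L.φ.range) : centralizer ({L.tr w} : Set G) ≤ L.φ.range := by
  intro g hg
  rw [mem_centralizer_singleton_iff] at hg
  have hr : L.φ k ∈ L.φ.range := ⟨k, rfl⟩
  have e : L.tr v = (L.φ k)⁻¹ * L.tr w * L.φ k := by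
    show L.φ (tv v) = _ * L.φ (tv w) * _
    rw [← h, map_mul, map_mul, map_inv]; group
  have := hv (x := (L.φ k)⁻¹ * g * L.φ k) (mem_centralizer_singleton_iff.2 (by
    rw [e, show (L.φ k)⁻¹ * g * L.φ k * ((L.φ k)⁻¹ * L.tr w * L.φ k) = (L.φ k)⁻¹ * (g * L.tr w) * L.φ k by group, hg]
    group))
  have := mul_mem (mul_mem hr this) (inv_mem hr)
  simpa [mul_assoc] using this

/-- Centralisers of the elements with at least two nonzero coordinates. -/
theorem cent_big {w : Fin 27} (h : cls (tv w) = 12 ∨ cls (tv w) = 13) :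
    centralizer ({L.tr w} : Set G) ≤ L.φ.range := by
  rcases h with h | h
  · obtain ⟨k, hk⟩ := (two_three w).1 h
    exact L.cent_conj hk L.cent_two
  · obtain ⟨k, hk⟩ := (two_three w).2 h
    exact L.cent_conj hk L.cent_z

/-- The quotient of the centraliser of the first element. -/
theorem cent_one : centralizer ({L.tr 1} : Set G) ≤ L.φ.range ∨
    ∃ (hn : (zpowers (⟨L.tr 1, mem_centralizer_singleton_iff.2 rfl⟩ : centralizer ({L.tr 1} : Set G))).Normal),
      IsSimpleGroup ((centralizer ({L.tr 1} : Set G)) ⧸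
        zpowers (⟨L.tr 1, mem_centralizer_singleton_iff.2 rfl⟩ : centralizer ({L.tr 1} : Set G))) ∧
      Nat.card ((centralizer ({L.tr 1} : Set G)) ⧸
        zpowers (⟨L.tr 1, mem_centralizer_singleton_iff.2 rfl⟩ : centralizer ({L.tr 1} : Set G))) = 360 := by
  classical
  have : Fact (Nat.Prime 3) := ⟨Nat.prime_three⟩
  obtain ⟨hmemC, hJC⟩ : (∀ {g : G}, g ∈ centralizer ({L.tr 1} : Set G) → g * L.tr 1 = L.tr 1 * g) ∧
      L.J ≤ centralizer ({L.tr 1} : Set G) :=
    ⟨fun hg => mem_centralizer_singleton_iff.1 hg, fun a ha => mem_centralizer_singleton_iff.2 (L.J_comm ha (L.tr_mem 1))⟩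
  let C : Subgroup G := centralizer ({L.tr 1} : Set G)
  obtain ⟨T, hT⟩ := (L.isPGroup_J.comap_of_injective C.subtype C.subtype_injective).exists_le_sylow
  have hTeq : (T : Subgroup C) = L.J.comap C.subtype := by
    refine le_antisymm (fun x hx => ?_) hT
    have hle := L.pgroup_le (T.2.map C.subtype) (fun a ha => ⟨⟨a, hJC ha⟩, hT ha, rfl⟩)
    obtain ⟨k, hk⟩ := hle ⟨x, hx, rfl⟩
    show (x : G) ∈ L.J
    rw [show (x : G) = L.φ k from hk.symm]
    exact (L.memJ k).2 (one_data.1 k (L.nine_pgroup (T.2.map C.subtype) (hk ▸ ⟨x, hx, rfl⟩))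
      (L.inj (by rw [map_mul, map_mul, hk]; exact hmemC x.2)))
  let d : C := ⟨L.tr 1, mem_centralizer_singleton_iff.2 rfl⟩
  have hdc : ∀ z ∈ zpowers d, ∀ g : C, z * g = g * z := by
    intro z hz g
    obtain ⟨i, rfl⟩ := mem_zpowers_iff.1 hz
    exact ((show Commute d g from Subtype.ext (hmemC g.2).symm).zpow_left i).eq
  haveI hZn : (zpowers d).Normal := ⟨fun z hz g => by rw [← hdc z hz g, mul_inv_cancel_right]; exact hz⟩
  have hd3 : d ^ 3 = 1 := Subtype.ext (by
    push_cast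
    rw [pow_succ', pow_two, L.J_cube (L.tr_mem 1)])
  have hdord : orderOf d = 3 := orderOf_eq_prime hd3 (fun e => L.tr_ne (by decide) (congrArg Subtype.val e))
  let π : C →* C ⧸ zpowers d := QuotientGroup.mk' _
  let e : Fin 27 → C := fun v => ⟨L.tr v, hJC (L.tr_mem v)⟩
  have hker : ∀ x : C, π x = 1 ↔ ∃ j : Fin 3, (x : G) = L.φ (tv 1 ^ (j : ℕ)) := by
    intro x
    rw [show π x = 1 ↔ x ∈ zpowers d from QuotientGroup.eq_one_iff x, mem_zpowers_iff_mem_range_orderOf, hdord]
    simp only [Finset.mem_image, Finset.mem_range]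
    constructor
    · rintro ⟨i, hi, rfl⟩
      exact ⟨⟨i, hi⟩, by rw [map_pow]; rfl⟩
    · rintro ⟨j, hj⟩
      exact ⟨j, j.2, Subtype.ext (by rw [hj, map_pow]; rfl)⟩
  have hsurj := QuotientGroup.mk'_surjective (zpowers d)
  let P : Sylow 3 (C ⧸ zpowers d) := T.mapSurjective hsurj
  have hPmem : ∀ x : C, π x ∈ (P : Subgroup (C ⧸ zpowers d)) ↔ (x : G) ∈ L.J := by
    intro x
    constructor
    · rintro ⟨y, hy, hyx⟩
      rw [hTeq] at hy
      obtain ⟨j, hj⟩ := (hker (y⁻¹ * x)).1 (by rw [map_mul, map_inv]; exact (inv_mul_eq_one).2 hyx)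
      have : (x : G) = (y : G) * L.φ (tv 1 ^ (j : ℕ)) := by
        rw [← hj]; push_cast; group
      rw [this]
      exact mul_mem hy ((L.memJ _).2 ((show ∀ j : Fin 3, InV (tv 1 ^ (j : ℕ)) by decide +kernel) j))
    · intro hx
      exact ⟨x, hTeq ▸ hx, rfl⟩
  have hne : ∀ {v : Fin 27}, (∀ j : Fin 3, tv v ≠ tv 1 ^ (j : ℕ)) → π (e v) ≠ 1 := by
    intro v hv h
    obtain ⟨j, hj⟩ := (hker _).1 h
    exact hv j (L.inj hj)
  have hJlift : ∀ g : C, π g ∈ normalizer ((P : Subgroup (C ⧸ zpowers d)) : Set (C ⧸ zpowers d)) →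
      (g : G) ∈ normalizer (L.J : Set G) := by
    intro g hg
    refine Subgroup.mem_normalizer_iff_map_conj_eq.2 (Subgroup.eq_of_le_of_card_ge ?_
      (by rw [Subgroup.card_map_of_injective (MulAut.conj (g : G)).injective]))
    rintro _ ⟨a, ha, rfl⟩
    have := (mem_normalizer_iff.1 hg (π ⟨a, hJC ha⟩)).1 ((hPmem _).2 ha)
    rw [← map_inv, ← map_mul, ← map_mul, hPmem] at this
    exact this
  have hcent : ∀ s ∈ (P : Subgroup (C ⧸ zpowers d)), s ≠ 1 →
      centralizer ({s} : Set (C ⧸ zpowers d)) = (P : Subgroup (C ⧸ zpowers d)) := by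
    intro s hs hs1
    obtain ⟨x, rfl⟩ := hsurj s
    obtain ⟨v, hv⟩ := L.exists_tr ((hPmem x).1 hs)
    obtain rfl : x = e v := Subtype.ext hv.symm
    have hv1 : ∀ j : Fin 3, tv v ≠ tv 1 ^ (j : ℕ) := fun j hj => hs1 ((hker _).2 ⟨j, by rw [← hj]⟩)
    ext q
    obtain ⟨g, rfl⟩ := hsurj q
    constructor
    · intro hg
      rw [mem_centralizer_singleton_iff] at hg
      obtain ⟨u, w, j₁, j₂, j₃, hu, hw, huw, hwc, hw1, huniq⟩ := coset_data v hv1
      have hπu : π (e u) = π (e v) := by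
        have : e u = e v * d ^ (j₁ : ℕ) := Subtype.ext (by
          show L.φ (tv u) = _
          rw [← hu, map_mul, map_pow]; rfl)
        rw [this, map_mul, map_pow, show π d = 1 from (QuotientGroup.eq_one_iff d).2 (mem_zpowers d), one_pow, mul_one]
      obtain ⟨j, hj⟩ := (hker ((e u)⁻¹ * (g * e u * g⁻¹))).1 (by
        rw [map_mul, map_mul, map_mul, map_inv, map_inv, hπu]
        rw [show π g * π (e v) = π (e v) * π g from hg]; group)
      push_cast at hj
      have hgu : (g : G) * L.tr u * (g : G)⁻¹ = L.φ (tv u * tv 1 ^ (j : ℕ)) := by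
        rw [map_mul, ← hj]
        show (g : G) * L.φ (tv u) * (g : G)⁻¹ =
          L.φ (tv u) * ((L.φ (tv u))⁻¹ * ((g : G) * L.φ (tv u) * (g : G)⁻¹))
        rw [mul_inv_cancel_left]
      have hin := (show ∀ u : Fin 27, ∀ j : Fin 3, InV (tv u * tv 1 ^ (j : ℕ)) by decide +kernel) u j
      rw [inV_eq _ hin] at hgu
      have hc := L.cls_eq hgu
      rw [← inV_eq _ hin] at hgu hc
      rw [huniq j hc.symm] at hgu
      have hgu' : (g : G) * L.tr u = L.tr u * g := mul_inv_eq_iff_eq_mul.1 hgu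
      have hgw : (g : G) * L.tr w = L.tr w * g := by
        show (g : G) * L.φ (tv w) = L.φ (tv w) * g
        rw [huw, map_mul, map_pow]
        exact ((show Commute (g : G) (L.φ (tv u)) from hgu').mul_right
          ((show Commute (g : G) (L.φ (tv 1)) from hmemC g.2).pow_right _)).eq
      obtain ⟨k, hk⟩ := L.cent_big hwc (mem_centralizer_singleton_iff.2 hgw)
      rw [hPmem, ← hk]
      refine (L.memJ k).2 (one_data.2.2 k (L.inj ?_) w hw1 (L.inj ?_))
      · rw [map_mul, map_mul, hk]; exact hmemC g.2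
      · rw [map_mul, map_mul, hk]; exact hgw
    · intro hg
      rw [mem_centralizer_singleton_iff, ← map_mul, ← map_mul]
      exact congrArg π (Subtype.ext (L.J_comm ((hPmem g).1 hg) (L.tr_mem _)))
  have hrC : L.φ rot ∈ C := mem_centralizer_singleton_iff.2 (by rw [← map_mul, rot_spec.1, map_mul])
  have hrN : π ⟨_, hrC⟩ ∈ normalizer ((P : Subgroup (C ⧸ zpowers d)) : Set (C ⧸ zpowers d)) := by
    refine mem_normalizer_iff.2 fun q => ?_
    obtain ⟨g, rfl⟩ := hsurj q
    rw [← map_inv, ← map_mul, ← map_mul, hPmem, hPmem]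
    exact mem_normalizer_iff.1 (L.norm ▸ (⟨rot, rfl⟩ : L.φ rot ∈ L.φ.range) :
      L.φ rot ∈ normalizer (L.J : Set G)) (g : G)
  let S : FourLine (C ⧸ zpowers d) :=
    { P := P
      b := π (e 3)
      c := π (e 9)
      r := π ⟨_, hrC⟩
      b_mem := (hPmem _).2 (L.tr_mem 3)
      c_mem := (hPmem _).2 (L.tr_mem 9)
      card9 := by
        have hmap : Nat.card ((T : Subgroup C).map π) * Nat.card (zpowers d) = Nat.card (T : Subgroup C) := by
          have hle : zpowers d ≤ (T : Subgroup C) := zpowers_le.2 (hTeq ▸ L.tr_mem 1)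
          rw [← Subgroup.relIndex_ker, show π.ker = zpowers d from QuotientGroup.ker_mk' _,
            ← Nat.card_congr (subgroupOfEquivOfLe hle).toEquiv, Subgroup.relIndex, Subgroup.index_mul_card]
        rw [Nat.card_zpowers, hdord] at hmap
        have hT27 : Nat.card (T : Subgroup C) = 27 := by
          rw [hTeq, ← L.card_J]
          exact Nat.card_congr
            { toFun := fun x => ⟨((x : C) : G), x.2⟩
              invFun := fun a => ⟨⟨a.1, hJC a.2⟩, a.2⟩
              left_inv := fun _ => rfl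
              right_inv := fun _ => rfl }
        show Nat.card ((T : Subgroup C).map π) = 9
        omega
      cube := fun s hs => by
        obtain ⟨g, rfl⟩ := hsurj s
        rw [← map_mul, ← map_mul, show g * (g * g) = 1 from Subtype.ext (L.J_cube ((hPmem g).1 hs)), map_one]
      comm := fun s hs s' hs' => by
        obtain ⟨g, rfl⟩ := hsurj s
        obtain ⟨g', rfl⟩ := hsurj s'
        rw [← map_mul, ← map_mul]
        exact congrArg π (Subtype.ext (L.J_comm ((hPmem g).1 hs) ((hPmem g').1 hs')))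
      b_ne := hne sep_data.1
      c_sep := by
        constructor
        · intro h
          obtain ⟨j, hj⟩ := (hker ((e 3)⁻¹ * e 9)).1 (by rw [map_mul, map_inv, h, inv_mul_cancel])
          refine (sep_data.2 j).1 (L.inj ?_)
          rw [← hj, map_mul, map_inv]; rfl
        · intro h
          obtain ⟨j, hj⟩ := (hker (e 3 * e 9)).1 (by rw [map_mul, h, mul_inv_cancel])
          refine (sep_data.2 j).2 (L.inj ?_)
          rw [← hj, map_mul]; rfl
      rb := by
        rw [← map_inv, ← map_mul, ← map_mul]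
        refine congrArg π (Subtype.ext ?_)
        show L.φ rot * L.φ (tv 3) * (L.φ rot)⁻¹ = L.φ (tv 9)
        rw [← map_inv, ← map_mul, ← map_mul, rot_spec.2.1]
      rc := by
        rw [← map_inv, ← map_mul, ← map_mul, ← map_inv]
        refine congrArg π (Subtype.ext ?_)
        show L.φ rot * L.φ (tv 9) * (L.φ rot)⁻¹ = (L.φ (tv 3))⁻¹
        rw [← map_inv, ← map_mul, ← map_mul, rot_spec.2.2.1, map_inv]
      r_norm := hrN
      norm := fun s hs => by
        obtain ⟨g, rfl⟩ := hsurj s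
        have h := hJlift g hs
        rw [← L.norm] at h
        obtain ⟨k, hk⟩ := h
        obtain ⟨i, hi⟩ := one_data.2.1 k (L.inj (by rw [map_mul, map_mul, hk]; exact hmemC g.2))
        refine ⟨i, i.2, ?_⟩
        rw [← map_pow, ← map_inv, ← map_mul, hPmem]
        push_cast
        rw [← hk, ← map_pow, ← map_inv, ← map_mul]
        exact (L.memJ _).2 hi
      cent := hcent }
  rcases S.main with h | h
  · refine Or.inl fun x hx => ?_
    rw [L.norm]
    refine hJlift ⟨x, hx⟩ ?_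
    rw [show normalizer ((P : Subgroup (C ⧸ zpowers d)) : Set (C ⧸ zpowers d)) = ⊤ from h]
    exact Subgroup.mem_top _
  · exact Or.inr ⟨hZn, h⟩

end Loc

end Cfsg.Lib.AltNineLocal
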