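import Mathlib.Algebra.BigOperators.Fin
import Mathlib.Algebra.Order.BigOperators.Ring.Finset
import Mathlib.Tactic

/-!
Three congruent columns of norm eight and inner product minus one.
-/

set_option autoImplicit false

namespace Cfsg.Lib.AltNineLocal

/-- The five rows. -/
def pat : Fin 5 → Fin 3 → ℤ :=
  ![![-2, 1, 1], ![1, -2, 1], ![1, 1, -2], ![1, 1, 1], ![1, 1, 1]]

/-- The indicator of a row. -/
def supp (a : ℤ) : ℤ := if a = 0 then 0 else 1

/-- The indicator of an entry of absolute value two. -/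
def big (a : ℤ) : ℤ := if a = 2 ∨ a = -2 then 1 else 0

theorem entry_mul {a b : ℤ} (ha : a * a ≤ 8) (hb : b * b ≤ 8) (h : (3 : ℤ) ∣ a - b) :
    a * a = supp a + 3 * big a ∧ supp a = supp b ∧
      a * b = supp a - 3 * big a - 3 * big b + 9 * (big a * big b) := by
  have a1 : -2 ≤ a := by nlinarith
  have a2 : a ≤ 2 := by nlinarith
  have b1 : -2 ≤ b := by nlinarith
  have b2 : b ≤ 2 := by nlinarith
  interval_cases a <;> interval_cases b <;> simp [supp, big] at h ⊢ <;> omega

theorem three_columns {ι : Type*} [Fintype ι] (u : ι → Fin 3 → ℤ)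
    (hc : ∀ x i j, (3 : ℤ) ∣ u x i - u x j)
    (hn : ∀ i j, ∑ x, u x i * u x j = if i = j then 8 else -1) :
    ∃ (L : Fin 5 → ι) (σ : Fin 5 → ℤ), Function.Injective L ∧ (∀ k, σ k = 1 ∨ σ k = -1) ∧
      (∀ k i, u (L k) i = σ k * pat k i) ∧ ∀ x, (∀ k, L k ≠ x) → ∀ i, u x i = 0 := by
  classical
  have hb : ∀ x i, u x i * u x i ≤ 8 := fun x i => by
    have := hn i i
    rw [if_pos rfl] at this
    rw [← this]
    exact Finset.single_le_sum (f := fun y => u y i * u y i) (fun y _ => mul_self_nonneg _) (Finset.mem_univ x)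
  have e := fun x i j => entry_mul (hb x i) (hb x j) (hc x i j)
  let T : Finset ι := Finset.univ.filter fun x => u x 0 ≠ 0
  let B : Fin 3 → Finset ι := fun i => Finset.univ.filter fun x => u x i = 2 ∨ u x i = -2
  have hT : ∀ x i, supp (u x i) = if x ∈ T then 1 else 0 := fun x i => by
    rw [(e x i 0).2.1]; simp [T, supp]
  have hB : ∀ x i, big (u x i) = if x ∈ B i then 1 else 0 := fun x i => by simp [B, big]
  have hBT : ∀ i, B i ⊆ T := fun i x hx => by
    by_contra hxT
    have h := hT x i
    rw [if_neg hxT] at h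
    have h' : u x i = 0 := by by_contra hne; simp [supp, hne] at h
    simp [B, h'] at hx
  have cnt : ∀ s : Finset ι, ∑ x, (if x ∈ s then (1 : ℤ) else 0) = s.card := fun s => by simp
  have diag : ∀ i, (T.card : ℤ) + 3 * (B i).card = 8 := fun i => by
    have := hn i i
    rw [if_pos rfl, Finset.sum_congr rfl fun x _ => (e x i i).1] at this
    simp only [hT, hB, Finset.sum_add_distrib, ← Finset.mul_sum, cnt] at this
    exact this
  have cross : ∀ i j, i ≠ j → (T.card : ℤ) - 3 * (B i).card - 3 * (B j).card + 9 * (B i ∩ B j).card = -1 := by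
    intro i j hij
    have := hn i j
    rw [if_neg hij, Finset.sum_congr rfl fun x _ => (e x i j).2.2] at this
    have hm : ∀ x, ((if x ∈ B i then (1 : ℤ) else 0) * if x ∈ B j then 1 else 0) = if x ∈ B i ∩ B j then 1 else 0 := by
      intro x; by_cases x ∈ B i <;> by_cases x ∈ B j <;> simp [*]
    simp only [hT, hB, hm, Finset.sum_add_distrib, Finset.sum_sub_distrib, ← Finset.mul_sum, cnt] at this
    exact this
  have sub : ∀ i j, (B i ∩ B j).card ≤ (B i).card := fun i j => Finset.card_le_card Finset.inter_subset_left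
  have tle : ∀ i, (B i).card ≤ T.card := fun i => Finset.card_le_card (hBT i)
  have hB1 : ∀ i, (B i).card = 1 := by
    intro i
    obtain ⟨j, hij⟩ : ∃ j : Fin 3, i ≠ j := ⟨i + 1, (show ∀ i : Fin 3, i ≠ i + 1 by decide) i⟩
    have d1 := diag i; have d2 := diag j; have c := cross i j hij
    have := sub i j; have := tle i
    by_contra hne
    have hbi : (B i).card = 2 ∧ T.card = 2 := by omega
    have hbj : (B j).card = 2 := by omega
    have ei : B i = T := Finset.eq_of_subset_of_card_le (hBT i) (by omega)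
    have ej : B j = T := Finset.eq_of_subset_of_card_le (hBT j) (by omega)
    rw [ei, ej, Finset.inter_self] at c
    omega
  have hT5 : T.card = 5 := by have := diag 0; have := hB1 0; omega
  have hB1' : ∀ i, ∃ a, B i = {a} := fun i => Finset.card_eq_one.1 (hB1 i)
  choose b hb1 using hB1'
  have hbne : Function.Injective b := by
    intro i j hij
    by_contra hne
    have c := cross i j hne
    rw [hB1, hB1, hT5, hb1 i, hb1 j, hij, Finset.inter_self, Finset.card_singleton] at c
    omega
  obtain ⟨c1, c2, hc12, hrest⟩ := Finset.card_eq_two.1 (show (T \ Finset.univ.image b).card = 2 by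
    rw [Finset.card_sdiff_of_subset (by
      intro x hx
      obtain ⟨i, -, rfl⟩ := Finset.mem_image.1 hx
      exact hBT i (by rw [hb1 i]; exact Finset.mem_singleton_self _)), Finset.card_image_of_injective _ hbne, hT5]
    simp)
  let L : Fin 5 → ι := ![b 0, b 1, b 2, c1, c2]
  have hc1m : c1 ∈ T \ Finset.univ.image b := hrest ▸ Finset.mem_insert_self _ _
  have hc2m : c2 ∈ T \ Finset.univ.image b := hrest ▸ Finset.mem_insert_of_mem (Finset.mem_singleton_self _)
  simp only [Finset.mem_sdiff, Finset.mem_image, Finset.mem_univ, true_and, not_exists] at hc1m hc2m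
  have row : ∀ x, x ∈ T → ∃ s : ℤ, (s = 1 ∨ s = -1) ∧
      ∀ j, u x j = s * if x ∈ B j then -2 else 1 := by
    intro x hx
    have key : ∀ a c : ℤ, a * a ≤ 8 → c * c ≤ 8 → (3 : ℤ) ∣ a - c → a ≠ 0 →
        c = (if a = 1 ∨ a = -2 then 1 else -1) * if c = 2 ∨ c = -2 then -2 else 1 := by
      intro a c ha hc h h0
      have a1 : -2 ≤ a := by nlinarith
      have a2 : a ≤ 2 := by nlinarith
      have b1 : -2 ≤ c := by nlinarith
      have b2 : c ≤ 2 := by nlinarith
      interval_cases a <;> interval_cases c <;> simp at h h0 ⊢ <;> omega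
    refine ⟨if u x 0 = 1 ∨ u x 0 = -2 then 1 else -1, by split_ifs <;> simp, fun j => ?_⟩
    have := key _ _ (hb x 0) (hb x j) (hc x 0 j) (Finset.mem_filter.1 hx).2
    simpa [B] using this
  have hLT : ∀ k, L k ∈ T := by
    intro k; fin_cases k
    exacts [hBT 0 (hb1 0 ▸ Finset.mem_singleton_self _), hBT 1 (hb1 1 ▸ Finset.mem_singleton_self _),
      hBT 2 (hb1 2 ▸ Finset.mem_singleton_self _), hc1m.1, hc2m.1]
  have hrow' : ∀ k, ∃ s : ℤ, (s = 1 ∨ s = -1) ∧ ∀ j, u (L k) j = s * if L k ∈ B j then -2 else 1 :=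
    fun k => row (L k) (hLT k)
  choose σ hσ hrow using hrow'
  refine ⟨L, σ, ?_, hσ, fun k i => ?_, fun x hx i => ?_⟩
  · intro k l h
    fin_cases k <;> fin_cases l <;> simp [L] at h ⊢
    all_goals first
      | exact absurd (hbne h) (by decide)
      | exact absurd h hc12
      | exact absurd h.symm hc12
      | exact absurd h (hc1m.2 _)
      | exact absurd h (hc2m.2 _)
      | exact absurd h.symm (hc1m.2 _)
      | exact absurd h.symm (hc2m.2 _)
  · rw [hrow k i]
    congr 1
    rw [hb1 i]
    simp only [Finset.mem_singleton]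
    fin_cases k <;> fin_cases i <;> simp [L, pat, hbne.eq_iff, hc1m.2, hc2m.2, Ne.symm (hc1m.2 _), Ne.symm (hc2m.2 _)]
  · by_contra hne
    have hxT : x ∈ T := by
      by_contra hxT
      have := hT x i
      rw [if_neg hxT] at this
      simp [supp, hne] at this
    have hxb : x ∉ Finset.univ.image b := fun h => by
      obtain ⟨j, -, rfl⟩ := Finset.mem_image.1 h
      fin_cases j
      exacts [hx 0 rfl, hx 1 rfl, hx 2 rfl]
    have : x ∈ T \ Finset.univ.image b := Finset.mem_sdiff.2 ⟨hxT, hxb⟩
    rw [hrest, Finset.mem_insert, Finset.mem_singleton] at this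
    rcases this with rfl | rfl
    exacts [hx 3 rfl, hx 4 rfl]

end Cfsg.Lib.AltNineLocal
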