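import Cfsg.Agent.LocalThree.AltNineLocal.Tri
import Cfsg.Agent.LocalThree.AltNineLocal.Rows
import Cfsg.Agent.SelfCentThree.Exceptional
import Cfsg.Agent.Components.Cores
import Mathlib.GroupTheory.Transfer

/-!
A Sylow subgroup of order nine with inverting automizer, three of whose lines are self-centralising,
is normal when the group has no core.
-/

set_option autoImplicit false
set_option linter.unusedSectionVars false

namespace Cfsg.Lib.AltNineLocal

open Subgroup Cfsg.Lib.Chars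
open scoped ComplexConjugate Pointwise

universe u

variable {G : Type u} [Group G] [Finite G]

/-- The data. -/
structure Three (G : Type u) [Group G] where
  P : Sylow 3 G
  r : Fin 3 → G
  r_two : r 2 = r 0 * r 1
  r_mem : ∀ i, r i ∈ (P : Subgroup G)
  card9 : Nat.card (P : Subgroup G) = 9
  cube : ∀ s ∈ (P : Subgroup G), s * (s * s) = 1
  comm : ∀ s ∈ (P : Subgroup G), ∀ s' ∈ (P : Subgroup G), s * s' = s' * s
  r_ne : ∀ i, r i ≠ 1
  r_sep : ∀ i j, i ≠ j → r i ≠ r j ∧ r i ≠ (r j)⁻¹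
  cent : ∀ i, centralizer ({r i} : Set G) = P
  t : G
  inv : ∀ s ∈ (P : Subgroup G), t * s * t⁻¹ = s⁻¹
  norm : ∀ g ∈ normalizer ((P : Subgroup G) : Set G), g ∈ (P : Subgroup G) ∨ t⁻¹ * g ∈ (P : Subgroup G)
  core : Cfsg.pPrimeCore 3 G = ⊥

namespace Three

variable (S : Three G)

include S

theorem ordR (i : Fin 3) : orderOf (S.r i) = 3 := by
  have : Fact (Nat.Prime 3) := ⟨Nat.prime_three⟩
  exact orderOf_eq_prime (by rw [pow_succ', pow_two, S.cube _ (S.r_mem i)]) (S.r_ne i)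

theorem conj_self_inv (i : Fin 3) : IsConj (S.r i) (S.r i)⁻¹ := isConj_iff.2 ⟨S.t, S.inv _ (S.r_mem i)⟩

theorem conj_conj (g : G) {s : G} (hs : s ∈ (S.P : Subgroup G))
    (hg : g ∈ normalizer ((S.P : Subgroup G) : Set G)) : g * s * g⁻¹ = s ∨ g * s * g⁻¹ = s⁻¹ := by
  rcases S.norm g hg with h | h
  · exact Or.inl (mul_inv_eq_iff_eq_mul.2 (S.comm _ h _ hs))
  · refine Or.inr ?_
    calc g * s * g⁻¹ = S.t * ((S.t⁻¹ * g) * s * (S.t⁻¹ * g)⁻¹) * S.t⁻¹ := by group
      _ = s⁻¹ := by rw [mul_inv_eq_iff_eq_mul.2 (S.comm _ h _ hs), S.inv s hs]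

/-- Fusion of the three lines. -/
theorem fusion {i : Fin 3} {u : G} (hu : u ∈ (S.P : Subgroup G)) (h : IsConj (S.r i) u) :
    u = S.r i ∨ u = (S.r i)⁻¹ := by
  obtain ⟨g, rfl⟩ := isConj_iff.1 h
  have hle : (S.P : Subgroup G) ≤ centralizer ({g * S.r i * g⁻¹} : Set G) := fun s hs =>
    mem_centralizer_singleton_iff.2 (S.comm _ hs _ hu)
  have hcard : Nat.card (centralizer ({g * S.r i * g⁻¹} : Set G)) = 9 := by
    rw [← S.card9, ← S.cent i]
    refine (Nat.card_congr (Equiv.subtypeEquiv (MulAut.conj g).toEquiv fun x => ?_)).symm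
    rw [mem_centralizer_singleton_iff, mem_centralizer_singleton_iff]
    show _ ↔ g * x * g⁻¹ * (g * S.r i * g⁻¹) = g * S.r i * g⁻¹ * (g * x * g⁻¹)
    rw [show g * x * g⁻¹ * (g * S.r i * g⁻¹) = g * (x * S.r i) * g⁻¹ by group,
      show g * S.r i * g⁻¹ * (g * x * g⁻¹) = g * (S.r i * x) * g⁻¹ by group]
    simp
  have heq := Subgroup.eq_of_le_of_card_ge hle (by rw [hcard, S.card9])
  have hmap : (S.P : Subgroup G).map (MulAut.conj g).toMonoidHom ≤ (S.P : Subgroup G) := by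
    rintro _ ⟨s, hs, rfl⟩
    rw [heq]
    refine mem_centralizer_singleton_iff.2 ?_
    show g * s * g⁻¹ * (g * S.r i * g⁻¹) = g * S.r i * g⁻¹ * (g * s * g⁻¹)
    rw [show g * s * g⁻¹ * (g * S.r i * g⁻¹) = g * (s * S.r i) * g⁻¹ by group, S.comm _ hs _ (S.r_mem i)]
    group
  exact S.conj_conj g (S.r_mem i) (Subgroup.mem_normalizer_iff_map_conj_eq.2
    (Subgroup.eq_of_le_of_card_ge hmap (by rw [Subgroup.card_map_of_injective (MulAut.conj g).injective])))

theorem not_isConj {i j : Fin 3} (hij : i ≠ j) : ¬ IsConj (S.r i) (S.r j) ∧ ¬ IsConj (S.r i) (S.r j)⁻¹ := by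
  constructor
  · intro h
    rcases S.fusion (S.r_mem j) h with e | e
    · exact (S.r_sep j i (Ne.symm hij)).1 e
    · exact (S.r_sep j i (Ne.symm hij)).2 e
  · intro h
    rcases S.fusion (inv_mem (S.r_mem j)) h with e | e
    · exact (S.r_sep i j hij).2 e.symm
    · exact (S.r_sep j i (Ne.symm hij)).1 (inv_injective e)

theorem no_pairs : Nat.card {p : G × G // IsConj (S.r 0) p.1 ∧ IsConj (S.r 0) p.2 ∧ p.1 * p.2 = S.r 1} = 0 := by
  have : Fact (Nat.Prime 3) := ⟨Nat.prime_three⟩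
  rw [Nat.card_eq_zero]
  refine Or.inl ⟨fun ⟨⟨x, y⟩, hx, hy, hxy⟩ => ?_⟩
  simp only at hx hy hxy
  have hcube : ∀ {w : G}, IsConj (S.r 0) w → w * (w * w) = 1 := by
    intro w hw
    obtain ⟨g, rfl⟩ := isConj_iff.1 hw
    calc _ = g * (S.r 0 * (S.r 0 * S.r 0)) * g⁻¹ := by group
      _ = 1 := by rw [S.cube _ (S.r_mem 0)]; group
  obtain ⟨p, hp3, hp1, hpx, hpy⟩ := exists_central (hcube hx) (hcube hy) (by rw [hxy]; exact S.cube _ (S.r_mem 1))
    (fun h => (S.not_isConj (show (0 : Fin 3) ≠ 1 by decide)).2 (hx.trans (hxy ▸ h)))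
  have hpP : p ∈ (S.P : Subgroup G) := by
    rw [← S.cent 1, mem_centralizer_singleton_iff, ← hxy]; exact (hpx.mul_right hpy).eq
  obtain ⟨Z, hZ⟩ : ∃ Z : Subgroup G, Z = centralizer ({p} : Set G) := ⟨_, rfl⟩
  have hPZ : (S.P : Subgroup G) ≤ Z := hZ ▸ fun s hs => mem_centralizer_singleton_iff.2 (S.comm _ hs _ hpP)
  let PZ : Sylow 3 Z := S.P.subtype hPZ
  have hNC : normalizer ((PZ : Subgroup Z) : Set Z) ≤ centralizer ((PZ : Subgroup Z) : Set Z) := by
    intro g hg
    have hgN : (g : G) ∈ normalizer ((S.P : Subgroup G) : Set G) := mem_normalizer_iff.2 fun s => by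
      constructor
      · intro hs
        exact (mem_normalizer_iff.1 hg ⟨s, hPZ hs⟩).1 hs
      · intro hs
        have hsZ : s ∈ Z := by
          have := mul_mem (mul_mem (inv_mem g.2) (hPZ hs)) g.2
          simpa [mul_assoc] using this
        exact (mem_normalizer_iff.1 hg ⟨s, hsZ⟩).2 hs
    rw [mem_centralizer_iff]
    intro s hs
    refine Subtype.ext ?_
    rcases S.norm _ hgN with h | h
    · exact S.comm _ hs _ h
    · exfalso
      have hg' := mem_centralizer_singleton_iff.1 (hZ ▸ g.2 : (g : G) ∈ centralizer ({p} : Set G))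
      have e : (g : G) * p * (g : G)⁻¹ = p⁻¹ := by
        calc (g : G) * p * (g : G)⁻¹ = S.t * ((S.t⁻¹ * g) * p * (S.t⁻¹ * g)⁻¹) * S.t⁻¹ := by group
          _ = _ := by rw [mul_inv_eq_iff_eq_mul.2 (S.comm _ h _ hpP), S.inv p hpP]
      rw [hg', mul_inv_cancel_right] at e
      refine hp1 ?_
      have h2 : p * p = 1 := by nth_rw 2 [e]; exact mul_inv_cancel p
      rwa [h2, mul_one] at hp3
  let τ := MonoidHom.transferSylow PZ hNC
  have hinj : ∀ s : Z, (s : G) ∈ (S.P : Subgroup G) → τ s = 1 → s = 1 := fun s hs h1 => by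
    have hd := (MonoidHom.ker_transferSylow_isComplement' PZ hNC).disjoint
    exact Subgroup.disjoint_def.1 hd (MonoidHom.mem_ker.2 h1) hs
  have himg : ∀ w : Z, IsConj (S.r 0) (w : G) → τ w = τ ⟨_, hPZ (S.r_mem 0)⟩ ∨ τ w = (τ ⟨_, hPZ (S.r_mem 0)⟩)⁻¹ := by
    intro w hw
    have hw3 : w ^ (3 ^ 1) = 1 := Subtype.ext (by rw [SubmonoidClass.coe_pow, OneMemClass.coe_one, show (3 : ℕ) ^ 1 = 3 from rfl, pow_succ', pow_two, hcube hw])
    have hpg : IsPGroup 3 (zpowers w) := IsPGroup.of_card (n := 1) (by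
      rw [Nat.card_zpowers, pow_one, orderOf_eq_prime (by simpa using hw3) (fun e => by
        rw [e] at hw; exact S.r_ne 0 (isConj_one_left.1 hw))])
    obtain ⟨Q, hQ⟩ := hpg.exists_le_sylow
    obtain ⟨k, hk⟩ := MulAction.exists_smul_eq Z Q PZ
    have hm : k * w * k⁻¹ ∈ (PZ : Subgroup Z) := by
      rw [← hk, Sylow.coe_subgroup_smul]; exact ⟨_, hQ (mem_zpowers _), rfl⟩
    have e : τ (k * w * k⁻¹) = τ w := by
      rw [map_mul, map_mul, map_inv, show τ k * τ w = τ w * τ k from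
        Subtype.ext (Subtype.ext (S.comm _ (τ k).2 _ (τ w).2)), mul_inv_cancel_right]
    rcases S.fusion (i := 0) (u := ((k * w * k⁻¹ : Z) : G)) hm (hw.trans (isConj_iff.2 ⟨(k : G), rfl⟩)) with h | h
    · exact Or.inl (e ▸ congrArg τ (Subtype.ext h))
    · refine Or.inr (e ▸ ?_)
      rw [← map_inv]
      exact congrArg τ (Subtype.ext h)
  have hxZ : x ∈ Z := hZ ▸ mem_centralizer_singleton_iff.2 hpx.eq.symm
  have hyZ : y ∈ Z := hZ ▸ mem_centralizer_singleton_iff.2 hpy.eq.symm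
  obtain ⟨R, hR⟩ : ∃ R : Z, R = ⟨_, hPZ (S.r_mem 0)⟩ := ⟨_, rfl⟩
  have hprod : τ ⟨_, hPZ (S.r_mem 1)⟩ = τ ⟨x, hxZ⟩ * τ ⟨y, hyZ⟩ := by
    rw [← map_mul]; exact congrArg τ (Subtype.ext hxy.symm)
  have hR3 : R * (R * R) = 1 := Subtype.ext (by rw [hR]; exact S.cube _ (S.r_mem 0))
  obtain ⟨W, hWmem, hW, hW0⟩ : ∃ W : Z, (W : G) ∈ (S.P : Subgroup G) ∧ τ ⟨_, hPZ (S.r_mem 1)⟩ = τ W ∧
      ((W : G) = 1 ∨ (W : G) = S.r 0 ∨ (W : G) = (S.r 0)⁻¹) := by
    rcases himg ⟨x, hxZ⟩ hx with e1 | e1 <;> rcases himg ⟨y, hyZ⟩ hy with e2 | e2 <;> rw [e1, e2, ← hR] at hprod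
    · refine ⟨R⁻¹, inv_mem (hR ▸ S.r_mem 0), ?_, Or.inr (Or.inr (by rw [hR]; rfl))⟩
      rw [hprod, ← map_mul, eq_inv_of_mul_eq_one_right hR3]
    · exact ⟨1, one_mem _, by rw [hprod, mul_inv_cancel, map_one], Or.inl rfl⟩
    · exact ⟨1, one_mem _, by rw [hprod, inv_mul_cancel, map_one], Or.inl rfl⟩
    · refine ⟨R, hR ▸ S.r_mem 0, ?_, Or.inr (Or.inl (by rw [hR]))⟩
      rw [hprod, ← map_inv, ← map_mul, inv_eq_of_mul_eq_one_right hR3,
        show R * R * (R * R) = R * (R * (R * R)) by group, hR3, mul_one]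
  have hd := hinj (⟨_, hPZ (S.r_mem 1)⟩ * W⁻¹) (mul_mem (S.r_mem 1) (inv_mem hWmem))
    (by rw [map_mul, map_inv, hW, mul_inv_cancel])
  have e : S.r 1 = (W : G) := mul_inv_eq_one.1 (congrArg Subtype.val hd)
  rcases hW0 with h | h | h <;> rw [h] at e
  · exact S.r_ne 1 e
  · exact (S.r_sep 1 0 (by decide)).1 e
  · exact (S.r_sep 1 0 (by decide)).2 e

/-- The principal character is not the only linear one. -/
theorem exists_linear [Fintype G] : ∃ f : G →* ℂˣ, (∃ g, f g ≠ 1) ∧ f (S.r 0) = 1 ∧ f (S.r 1) = 1 := by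
  classical
  let o : Cfsg.IrrCharacter G := ⟨_, isIrrCharacter_one⟩
  choose z hz using fun (χ : Cfsg.IrrCharacter G) (i : Fin 3) =>
    (Cfsg.Lib.SelfCentThree.value_three (S.ordR i) (S.conj_self_inv i) χ)
  choose F hval hF using hz
  have hzo : ∀ i, z o i = 1 := fun i => by
    apply Int.cast_injective (α := ℂ); rw [← hval o i]; simp [o]
  have horth : ∀ i j, ∑ χ, z χ i * z χ j = if i = j then 9 else 0 := by
    intro i j
    apply Int.cast_injective (α := ℂ)
    have h := second_orthogonality (S.r i) (S.r j)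
    rw [Finset.sum_congr rfl fun χ _ => by rw [hval χ i, hval χ j, map_intCast]] at h
    push_cast
    rw [h]
    split_ifs with h1 h2 h2
    · rw [S.cent i, S.card9]; norm_num
    · exact absurd h1 (S.not_isConj h2).1
    · exact absurd (h2 ▸ IsConj.refl (S.r i)) h1
    · simp
  have hdeg : ∀ i, ∑ χ : Cfsg.IrrCharacter G, (deg (χ : G → ℂ) : ℤ) * z χ i = 0 := by
    intro i
    apply Int.cast_injective (α := ℂ)
    have h := second_orthogonality (S.r i) (1 : G)
    rw [if_neg (fun h => S.r_ne i (isConj_one_left.1 h)),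
      Finset.sum_congr rfl fun χ _ => by rw [hval χ i, irr_apply_one_eq_deg, map_natCast]] at h
    push_cast
    rw [← h]
    exact Finset.sum_congr rfl fun χ _ => mul_comm _ _
  obtain ⟨L, σ, hinj, hσ, hL, hrest⟩ := three_columns (ι := {χ : Cfsg.IrrCharacter G // χ ≠ o}) (fun x i => z x i)
    (fun x i j => by have := hF x i; have := hF x j; omega)
    (fun i j => by
      have h := horth i j
      rw [← Finset.add_sum_erase _ _ (Finset.mem_univ o), hzo, hzo,
        Finset.sum_subtype (Finset.univ.erase o) (p := fun χ => χ ≠ o) (by simp) (fun χ => z χ i * z χ j)] at h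
      split_ifs at h ⊢ <;> omega)
  have split : ∀ {M : Type} [AddCommMonoid M] (f : Cfsg.IrrCharacter G → M),
      (∀ χ, χ ≠ o → (∀ i, z χ i = 0) → f χ = 0) → ∑ χ, f χ = f o + ∑ k, f (L k) := by
    intro M _ f hf
    rw [← Finset.add_sum_erase _ _ (Finset.mem_univ o),
      Finset.sum_subtype (Finset.univ.erase o) (p := fun χ => χ ≠ o) (by simp) f]
    congr 1
    rw [← Finset.sum_subset (Finset.subset_univ (Finset.univ.image L)) fun x _ hx => hf x x.2 (hrest x (by simpa using hx)),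
      Finset.sum_image fun a _ b _ h => hinj h]
  obtain ⟨d, hd⟩ : ∃ d : Fin 5 → ℤ, ∀ k, d k = σ k * deg ((L k).1 : G → ℂ) := ⟨_, fun _ => rfl⟩
  have hd0 : ∀ k, d k ≠ 0 := fun k => by
    rw [hd]; have := deg_irr_pos (L k).1; rcases hσ k with e | e <;> rw [e] <;> omega
  have hlin : ∀ i, 1 + ∑ k, d k * pat k i = 0 := by
    intro i
    have h := hdeg i
    rw [split (fun χ => (deg (χ : G → ℂ) : ℤ) * z χ i) (fun χ _ hz => by simp [hz i]), hzo] at h
    have h1 : (deg (o : G → ℂ) : ℤ) = 1 := by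
      have := irr_apply_one_eq_deg o
      have h1 : (deg (o : G → ℂ) : ℂ) = 1 := this.symm.trans rfl
      exact_mod_cast h1
    rw [h1] at h
    rw [← h, one_mul]
    congr 1
    exact Finset.sum_congr rfl fun k _ => by rw [hd, hL k i]; ring
  have hE : (1 : ℂ) + ∑ k, ((pat k 0 * pat k 0 * pat k 1 : ℤ) : ℂ) / (d k : ℂ) = 0 := by
    have h := class_mult_formula (G := G) (S.r 0) (S.r 0) (S.r 1)
    rw [S.no_pairs, Nat.cast_zero] at h
    have h' := (mul_eq_zero.1 h.symm).resolve_left (div_ne_zero (mul_ne_zero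
      (Nat.cast_ne_zero.2 (card_isConj_pos _).ne') (Nat.cast_ne_zero.2 (card_isConj_pos _).ne'))
      (Nat.cast_ne_zero.2 Nat.card_pos.ne'))
    rw [split _ (fun χ _ hz => by simp [hval, hz])] at h'
    rw [← h']
    congr 1
    · simp [o]
    · refine Finset.sum_congr rfl fun k _ => ?_
      rw [hval, hval, hL k 0, hL k 1, irr_apply_one_eq_deg, hd, map_intCast]
      rcases hσ k with e | e <;> rw [e] <;> push_cast <;> ring
  simp only [Fin.sum_univ_five, pat, Matrix.cons_val_zero, Matrix.cons_val_one, Matrix.cons_val_two,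
    Matrix.cons_val_three, Matrix.cons_val_four, Matrix.head_cons, Matrix.tail_cons, Matrix.cons_val] at hlin hE
  have g0 := hlin 0; have g1 := hlin 1; have g2 := hlin 2
  simp [Matrix.cons_val_two] at g0 g1 g2
  have e1 : d 1 = d 0 := by omega
  have e2 : d 2 = d 0 := by omega
  have e4 : d 4 = -1 - d 3 := by omega
  rw [e1, e2, e4] at hE
  have hne4 : -1 - d 3 ≠ 0 := e4 ▸ hd0 4
  have c0 : (d 0 : ℂ) ≠ 0 := Int.cast_ne_zero.2 (hd0 0)
  have c3 : (d 3 : ℂ) ≠ 0 := Int.cast_ne_zero.2 (hd0 3)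
  have c4 : (-1 - (d 3 : ℂ)) ≠ 0 := by exact_mod_cast hne4
  push_cast at hE
  field_simp at hE
  have key : d 3 * (-1 - d 3) * (d 0 + 3) = d 0 := by
    apply Int.cast_injective (α := ℂ); push_cast; linear_combination hE
  have hcases : d 3 = 1 ∨ d 4 = 1 := by
    obtain ⟨m, hm⟩ : ∃ m, m = d 3 * (-1 - d 3) := ⟨_, rfl⟩
    rw [← hm] at key
    have hm2 : m ≤ -2 := by
      have h3 := hd0 3
      rcases le_or_gt 1 (d 3) with h | h
      · nlinarith
      · have : d 3 ≤ -2 := by omega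
        nlinarith
    have hdvd : d 0 + 3 ∣ (3 : ℤ) := ⟨1 - m, by linear_combination key⟩
    have hb1 := Int.le_of_dvd (by norm_num) hdvd
    have hb2 := Int.le_of_dvd (by norm_num) (Int.neg_dvd.2 hdvd)
    have hr : d 0 + 3 = -3 ∨ d 0 + 3 = -2 ∨ d 0 + 3 = -1 ∨ d 0 + 3 = 0 ∨ d 0 + 3 = 1 ∨ d 0 + 3 = 2 ∨ d 0 + 3 = 3 := by omega
    have hm' : m = -2 := by
      rcases hr with e | e | e | e | e | e | e <;> rw [e] at key <;> omega
    rw [hm'] at hm
    rw [e4]
    have h3 := hd0 3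
    rcases le_or_gt 1 (d 3) with h | h
    · left; nlinarith only [hm, h]
    · right
      have h' : d 3 ≤ -2 := by omega
      nlinarith only [hm, h']
  obtain ⟨k, hk, hkd⟩ : ∃ k : Fin 5, (∀ i, pat k i = 1) ∧ d k = 1 := by
    rcases hcases with h | h
    · exact ⟨3, by decide, h⟩
    · exact ⟨4, by decide, h⟩
  rw [hd] at hkd
  have hpos := deg_irr_pos (L k).1
  have hs : σ k = 1 ∧ deg ((L k).1 : G → ℂ) = 1 := by
    rcases hσ k with e | e <;> rw [e] at hkd ⊢ <;> omega
  obtain ⟨f, hf⟩ := exists_hom_of_deg_one (isCharacter_of_irr (L k).1.2)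
    (by rw [irr_apply_one_eq_deg, hs.2, Nat.cast_one])
  refine ⟨f, ?_, ?_, ?_⟩
  · by_contra! h
    refine (L k).2 (Subtype.ext (hf.trans (funext fun g => ?_)))
    simp [h g, o]
  all_goals
    refine Units.ext ?_
    rw [Units.val_one]
  · have := hval (L k).1 0
    rw [hL k 0, hs.1, hk 0, hf] at this
    simpa using this
  · have := hval (L k).1 1
    rw [hL k 1, hs.1, hk 1, hf] at this
    simpa using this

/-- The Sylow subgroup is normal. -/
theorem normal : normalizer ((S.P : Subgroup G) : Set G) = ⊤ := by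
  classical
  have : Fact (Nat.Prime 3) := ⟨Nat.prime_three⟩
  have := Fintype.ofFinite G
  obtain ⟨f, ⟨g0, hg0⟩, hf0, hf1⟩ := S.exists_linear
  obtain ⟨N, hN⟩ : ∃ N : Subgroup G, N = f.ker := ⟨_, rfl⟩
  haveI : N.Normal := hN ▸ f.normal_ker
  have hgen : (S.P : Subgroup G) = closure {S.r 0, S.r 1} := by
    refine (Subgroup.eq_of_le_of_card_ge ((closure_le _).2 ?_) ?_).symm
    · rintro a (rfl | rfl) <;> exact S.r_mem _
    · rw [S.card9]
      obtain ⟨C, hC⟩ : ∃ C : Subgroup G, C = closure {S.r 0, S.r 1} := ⟨_, rfl⟩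
      rw [← hC]
      by_contra hlt
      have h0 : S.r 0 ∈ C := hC ▸ subset_closure (Set.mem_insert _ _)
      have h1 : S.r 1 ∈ C := hC ▸ subset_closure (Set.mem_insert_of_mem _ rfl)
      have hdvd : Nat.card C ∣ 3 ^ 2 := by
        rw [show 3 ^ 2 = 9 from rfl, ← S.card9]
        refine card_dvd_of_le (hC ▸ (closure_le _).2 ?_)
        rintro a (rfl | rfl) <;> exact S.r_mem _
      obtain ⟨j, hj, hjc⟩ := (Nat.dvd_prime_pow Nat.prime_three).1 hdvd
      have h3 : Nat.card C = 3 := by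
        have : j = 1 := by
          interval_cases j
          · have := (Subgroup.card_eq_one (H := C)).1 hjc
            exact absurd (Subgroup.mem_bot.1 (this ▸ h0)) (S.r_ne 0)
          · rfl
          · rw [hjc] at hlt; omega
        rw [hjc, this]; norm_num
      have hz : zpowers (S.r 0) = C := Subgroup.eq_of_le_of_card_ge (zpowers_le.2 h0)
        (by rw [h3, Nat.card_zpowers, S.ordR 0])
      rw [← hz, mem_zpowers_iff_mem_range_orderOf, S.ordR 0] at h1
      simp only [Finset.mem_image, Finset.mem_range] at h1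
      obtain ⟨i, hi, hie⟩ := h1
      interval_cases i
      · exact S.r_ne 1 (by rw [← hie, pow_zero])
      · exact (S.r_sep 1 0 (by decide)).1 (by rw [← hie, pow_one])
      · refine (S.r_sep 1 0 (by decide)).2 ?_
        rw [← hie, pow_two]
        exact (inv_eq_of_mul_eq_one_right (S.cube _ (S.r_mem 0))).symm
  have hPN : (S.P : Subgroup G) ≤ N := by
    rw [hgen, hN]
    exact (closure_le _).2 (by rintro a (rfl | rfl) <;> simp [MonoidHom.mem_ker, hf0, hf1])
  let PN : Sylow 3 N := S.P.subtype hPN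
  have hfr : normalizer ((S.P : Subgroup G) : Set G) ⊔ N = ⊤ := by
    have := Sylow.normalizer_sup_eq_top (N := N) PN
    convert this using 3
    simp only [PN, Sylow.coe_subtype]
    rw [Subgroup.map_subgroupOf_eq_of_le hPN]
  have ht : S.t ∉ N := by
    intro h
    have hle : normalizer ((S.P : Subgroup G) : Set G) ≤ N := fun g hg => by
      rcases S.norm g hg with e | e
      · exact hPN e
      · simpa using mul_mem h (hPN e)
    rw [sup_eq_right.2 hle, hN] at hfr
    exact hg0 (MonoidHom.mem_ker.1 (hfr ▸ Subgroup.mem_top g0))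
  have hNC : normalizer ((PN : Subgroup N) : Set N) ≤ centralizer ((PN : Subgroup N) : Set N) := by
    intro g hg
    have hgN : (g : G) ∈ normalizer ((S.P : Subgroup G) : Set G) := mem_normalizer_iff.2 fun s => by
      constructor
      · intro hs
        exact (mem_normalizer_iff.1 hg ⟨s, hPN hs⟩).1 hs
      · intro hs
        have hsN : s ∈ N := by
          have := mul_mem (mul_mem (inv_mem g.2) (hPN hs)) g.2
          simpa [mul_assoc] using this
        exact (mem_normalizer_iff.1 hg ⟨s, hsN⟩).2 hs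
    rw [mem_centralizer_iff]
    intro s hs
    refine Subtype.ext ?_
    rcases S.norm _ hgN with h | h
    · exact S.comm _ hs _ h
    · exact absurd (by simpa using mul_mem g.2 (inv_mem (hPN h)) : S.t ∈ N) ht
  obtain ⟨τ, hτ⟩ : ∃ τ, τ = MonoidHom.transferSylow PN hNC := ⟨_, rfl⟩
  have hcompl := MonoidHom.ker_transferSylow_isComplement' PN hNC
  rw [← hτ] at hcompl
  have hcop : ∀ k : N, k ∈ τ.ker ↔ ¬ 3 ∣ orderOf k := by
    intro k
    constructor
    · intro h h3
      have h9 := PN.not_dvd_index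
      rw [hcompl.index_eq_card] at h9
      exact h9 (h3.trans (orderOf_dvd_natCard (G := τ.ker) ⟨k, h⟩ |> (orderOf_mk k h ▸ ·)))
    · intro h
      have h1 := orderOf_map_dvd τ k
      have h2 : orderOf (τ k) ∣ 3 ^ 2 := by
        rw [show 3 ^ 2 = 9 from rfl, ← S.card9, ← Nat.card_congr (subgroupOfEquivOfLe hPN).toEquiv]
        exact orderOf_dvd_natCard _
      obtain ⟨j, -, hj⟩ := (Nat.dvd_prime_pow Nat.prime_three).1 h2
      rw [MonoidHom.mem_ker, ← orderOf_eq_one_iff, hj]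
      rcases j with _ | j
      · rfl
      · exact absurd ((dvd_pow_self 3 (Nat.succ_ne_zero j)).trans (hj ▸ h1)) h
  obtain ⟨K, hK⟩ : ∃ K : Subgroup G, K = τ.ker.map N.subtype := ⟨_, rfl⟩
  haveI : K.Normal := ⟨fun k hk g => by
    rw [hK] at hk ⊢
    obtain ⟨k', hk', rfl⟩ := hk
    refine ⟨⟨g * k' * g⁻¹, ‹N.Normal›.conj_mem _ k'.2 g⟩, (hcop _).2 ?_, rfl⟩
    have : orderOf (g * (k' : G) * g⁻¹) = orderOf (k' : G) := MulEquiv.orderOf_eq (MulAut.conj g) _
    rw [orderOf_mk, this, orderOf_coe]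
    exact (hcop k').1 hk'⟩
  have hKc : (Nat.card K).Coprime 3 := by
    rw [hK, Subgroup.card_map_of_injective N.subtype_injective]
    refine Nat.Coprime.symm ((Nat.prime_three.coprime_iff_not_dvd).2 fun h => ?_)
    have h9 := PN.not_dvd_index
    rw [hcompl.index_eq_card] at h9
    exact h9 h
  have hKb : K = ⊥ := eq_bot_iff.2 (S.core ▸ Cfsg.Lib.Components.le_pPrimeCore hKc)
  rw [hK, Subgroup.map_eq_bot_iff, Subgroup.ker_subtype, le_bot_iff] at hKb
  have hPtop : (PN : Subgroup N) = ⊤ := by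
    rw [hKb] at hcompl
    exact Subgroup.isComplement'_bot_left.1 hcompl
  have hNP : N = (S.P : Subgroup G) := by
    refine le_antisymm (fun g hg => ?_) hPN
    exact (hPtop.symm ▸ Subgroup.mem_top (⟨g, hg⟩ : N) : (⟨g, hg⟩ : N) ∈ (PN : Subgroup N))
  rw [← hNP]
  exact Subgroup.normalizer_eq_top_iff.2 inferInstance

end Three

end Cfsg.Lib.AltNineLocal
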