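import Cfsg.Agent.LocalThree.AltNineLocal.Basic
import Cfsg.Agent.LocalThree.AltNineLocal.Three
import Cfsg.Agent.ExtClosedOdd.Main

/-!
Fusion in the elementary group, and the centralisers of its elements with two or three nonzero
coordinates.
-/

set_option autoImplicit false
set_option linter.unusedSectionVars false
set_option maxRecDepth 8000

namespace Cfsg.Lib.AltNineLocal

open Subgroup Cfsg.Lib.Monomial
open scoped Pointwise

universe u

theorem cent_z_nine : ∀ k : Mon, k * tv 13 = tv 13 * k → k * k * k * (k * k * k) * (k * k * k) = 1 := by decide +kernel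

theorem abelian_free : ∀ k : Mon, nine k → (∀ v : Fin 27, k * tv v = tv v * k) → InV k := fun k _ h => cent_trans k h

/-- The translations meeting the diagonal cosets. -/
theorem two_data : (∀ k : Mon, nine k → k * tv 4 = tv 4 * k → InV k) ∧
    (∀ k : Mon, k * tv 4 = tv 4 * k → ∀ w ∈ ([13, 14, 23] : List (Fin 27)), k * tv w = tv w * k → InV k) ∧
    (∀ k : Mon, k * tv 4 = tv 4 * k → InV k ∨ InV ((⟨0, (Finset.univ.filter fun a : Fin 24 =>
      a ≠ oneA ∧ actV a 4 = 4).min.getD 0⟩ : Mon)⁻¹ * k)) := by decide +kernel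

/-- An element of the stabiliser of the second kind. -/
def invTwo : Mon := ⟨0, (Finset.univ.filter fun a : Fin 24 => a ≠ oneA ∧ actV a 4 = 4).min.getD 0⟩

theorem invTwo_spec : invTwo * tv 4 = tv 4 * invTwo ∧
    (∀ v : Fin 27, ∃ j : Fin 3, (invTwo * tv v * invTwo⁻¹) * tv v = tv 4 ^ (j : ℕ)) := by decide +kernel

/-- The three chosen cosets of the line of `tv 4`. -/
def cos : Fin 3 → Fin 27 := ![9, 10, 19]

theorem cos_facts : tv 9 * tv 10 = tv 19 ∧ (∀ i, cos i ≠ 0) ∧
    (∀ i, ∀ j : Fin 3, tv (cos i) * tv 4 ^ (j : ℕ) ≠ 1) ∧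
    ∀ i, ∃ u w : Fin 27, (∃ j : Fin 3, tv (cos i) * tv 4 ^ (j : ℕ) = tv u) ∧
      (∃ j : Fin 3, tv (cos i) * tv 4 ^ (j : ℕ) = tv w) ∧ w ∈ ([13, 14, 23] : List (Fin 27)) ∧
      ∀ j : Fin 3, cls (tv u * tv 4 ^ (j : ℕ)) = cls (tv u) → tv u * tv 4 ^ (j : ℕ) = tv u := by decide +kernel

theorem cos_sep : ∀ i l : Fin 3, i ≠ l → ∀ j : Fin 3,
    (tv (cos i))⁻¹ * tv (cos l) ≠ tv 4 ^ (j : ℕ) ∧ tv (cos i) * tv (cos l) ≠ tv 4 ^ (j : ℕ) := by decide +kernel

theorem cos_prod : ∃ j : Fin 3, (tv (cos 2))⁻¹ * (tv (cos 0) * tv (cos 1)) = tv 4 ^ (j : ℕ) := by decide +kernel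

/-- A central subgroup of prime power order with quotient of order prime to it, under trivial core. -/
theorem core_quot {C : Type u} [Group C] [Finite C] {p : ℕ} [Fact p.Prime] (Z : Subgroup C) [Z.Normal]
    (hp : IsPGroup p Z) (hZ : ∀ z ∈ Z, ∀ g : C, z * g = g * z) (hcore : Cfsg.pPrimeCore p C = ⊥) :
    Cfsg.pPrimeCore p (C ⧸ Z) = ⊥ := by
  set π := QuotientGroup.mk' Z
  set M := (Cfsg.pPrimeCore p (C ⧸ Z)).comap π
  have hZM : Z ≤ M := fun z hz => by
    rw [mem_comap, show π z = 1 from (QuotientGroup.eq_one_iff z).2 hz]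
    exact one_mem _
  have hle : M ≤ Z := by
    refine Cfsg.Lib.ExtOdd.eq_of_core_bot hp hZM hZ ?_ hcore
    have e : Z.relIndex M = Nat.card (Cfsg.pPrimeCore p (C ⧸ Z)) := by
      conv_rhs => rw [← map_comap_eq_self_of_surjective (QuotientGroup.mk'_surjective Z)
        (Cfsg.pPrimeCore p (C ⧸ Z)), ← relIndex_ker, QuotientGroup.ker_mk']
    rw [e]
    exact Cfsg.Lib.Components.coprime_card_pPrimeCore p
  refine le_bot_iff.1 fun y hy => ?_
  obtain ⟨z, rfl⟩ := QuotientGroup.mk'_surjective Z y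
  exact mem_bot.2 ((QuotientGroup.eq_one_iff z).2 (hle hy))

namespace Loc

variable {G : Type u} [Group G] [Finite G] (L : Loc G)

include L

theorem exists_sylow : ∃ T : Sylow 3 G, L.J ≤ (T : Subgroup G) ∧ (T : Subgroup G) ≤ L.φ.range := by
  obtain ⟨T, hT⟩ := L.isPGroup_J.exists_le_sylow
  exact ⟨T, hT, L.pgroup_le T.2 hT⟩

/-- `J` is weakly closed. -/
theorem weak {Q : Subgroup G} (hQ : IsPGroup 3 Q) (hJQ : L.J ≤ Q) {g : G} (hg : ∀ j ∈ L.J, g * j * g⁻¹ ∈ Q) :
    g ∈ L.φ.range := by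
  rw [L.norm]
  refine Subgroup.mem_normalizer_iff_map_conj_eq.2 (L.eq_J ?_ (L.isPGroup_J.map _)
    (by rw [Subgroup.card_map_of_injective (MulAut.conj g).injective, L.card_J]) ?_)
  · rintro _ ⟨j, hj, rfl⟩
    exact L.pgroup_le hQ hJQ (hg j hj)
  · rintro _ ⟨a, ha, rfl⟩ _ ⟨b, hb, rfl⟩
    rw [← map_mul, ← map_mul, L.J_comm ha hb]

/-- Fusion in `J` is controlled by the normaliser. -/
theorem fusion {g j : G} (hj : j ∈ L.J) (hgj : g * j * g⁻¹ ∈ L.J) :
    ∃ h ∈ L.φ.range, h * j * h⁻¹ = g * j * g⁻¹ := by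
  have : Fact (Nat.Prime 3) := ⟨Nat.prime_three⟩
  obtain ⟨C, hC⟩ : ∃ C : Subgroup G, C = centralizer ({j} : Set G) := ⟨_, rfl⟩
  have hJC : L.J ≤ C := hC ▸ fun a ha => mem_centralizer_singleton_iff.2 (L.J_comm ha hj)
  have hJ'C : L.J.map (MulAut.conj g⁻¹).toMonoidHom ≤ C := by
    rintro _ ⟨a, ha, rfl⟩
    rw [hC, mem_centralizer_singleton_iff]
    show g⁻¹ * a * g⁻¹⁻¹ * j = j * (g⁻¹ * a * g⁻¹⁻¹)
    calc g⁻¹ * a * g⁻¹⁻¹ * j = g⁻¹ * (a * (g * j * g⁻¹)) * g := by group
      _ = g⁻¹ * (g * j * g⁻¹ * a) * g := by rw [L.J_comm ha hgj]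
      _ = _ := by group
  obtain ⟨P, hP⟩ := (L.isPGroup_J.comap_of_injective C.subtype C.subtype_injective).exists_le_sylow
  obtain ⟨P', hP'⟩ := ((L.isPGroup_J.map (MulAut.conj g⁻¹).toMonoidHom).comap_of_injective C.subtype
    C.subtype_injective).exists_le_sylow
  obtain ⟨c, hc⟩ := MulAction.exists_smul_eq C P' P
  obtain ⟨Q, hQ⟩ : ∃ Q : Subgroup G, Q = (P : Subgroup C).map C.subtype := ⟨_, rfl⟩
  have hJQ : L.J ≤ Q := fun a ha => hQ ▸ ⟨⟨a, hJC ha⟩, hP ha, rfl⟩
  have hmem : ∀ a ∈ L.J, ((c : G) * g⁻¹) * a * ((c : G) * g⁻¹)⁻¹ ∈ Q := by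
    intro a ha
    have hm : g⁻¹ * a * g⁻¹⁻¹ ∈ L.J.map (MulAut.conj g⁻¹).toMonoidHom := ⟨a, ha, rfl⟩
    refine hQ ▸ ⟨c * ⟨_, hJ'C hm⟩ * c⁻¹, ?_, ?_⟩
    · rw [← hc, Sylow.coe_subgroup_smul]; exact ⟨_, hP' hm, rfl⟩
    · simp only [Subgroup.coe_subtype, Subgroup.coe_mul, InvMemClass.coe_inv]; group
  have hw := L.weak (hQ ▸ P.2.map _) hJQ hmem
  refine ⟨((c : G) * g⁻¹)⁻¹, inv_mem hw, ?_⟩
  have hcj : (c : G) * j = j * c := mem_centralizer_singleton_iff.1 (hC ▸ c.2 : (c : G) ∈ centralizer ({j} : Set G))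
  calc ((c : G) * g⁻¹)⁻¹ * j * ((c : G) * g⁻¹)⁻¹⁻¹ = g * ((c : G)⁻¹ * (j * c)) * g⁻¹ := by group
    _ = _ := by rw [← hcj, inv_mul_cancel_left]

theorem cls_eq {g : G} {v w : Fin 27} (h : g * L.tr v * g⁻¹ = L.tr w) : cls (tv v) = cls (tv w) := by
  obtain ⟨x, ⟨k, rfl⟩, hx⟩ := L.fusion (L.tr_mem v) (h.symm ▸ L.tr_mem w)
  rw [h, ← map_inv, ← map_mul, ← map_mul] at hx
  rw [← L.inj hx, cls_conj]

/-- The centraliser of a diagonal element is the Sylow subgroup. -/
theorem cent_z : centralizer ({L.tr 13} : Set G) ≤ L.φ.range := by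
  have : Fact (Nat.Prime 3) := ⟨Nat.prime_three⟩
  obtain ⟨C, hC⟩ : ∃ C : Subgroup G, C = centralizer ({L.tr 13} : Set G) := ⟨_, rfl⟩
  rw [← hC]
  have hJC : L.J ≤ C := hC ▸ fun a ha => mem_centralizer_singleton_iff.2 (L.J_comm ha (L.tr_mem 13))
  obtain ⟨T, hT⟩ := (L.isPGroup_J.comap_of_injective C.subtype C.subtype_injective).exists_le_sylow
  have hJT : L.J ≤ (T : Subgroup C).map C.subtype := fun a ha => ⟨⟨a, hJC ha⟩, hT ha, rfl⟩
  have hTH := L.pgroup_le (T.2.map C.subtype) hJT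
  -- the centre of the Thompson subgroup
  let J' : Subgroup (T : Subgroup C) := ((L.J.comap C.subtype).subgroupOf (T : Subgroup C))
  have hJ'mem : ∀ x, x ∈ J' ↔ ((x : C) : G) ∈ L.J := fun x => Iff.rfl
  have hmapJ : ∀ B : Subgroup (T : Subgroup C), 27 ≤ Nat.card B → (∀ a ∈ B, ∀ b ∈ B, a * b = b * a) → B = J' := by
    intro B hB hcB
    have hinj : Function.Injective (C.subtype.comp (T : Subgroup C).subtype) :=
      C.subtype_injective.comp (T : Subgroup C).subtype_injective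
    have e := L.eq_J (A := B.map (C.subtype.comp (T : Subgroup C).subtype)) (by
        rintro _ ⟨b, -, rfl⟩; exact hTH ⟨b.1, b.2, rfl⟩) ((T.2.to_subgroup B).map _)
      (by rw [Subgroup.card_map_of_injective hinj]; exact hB) (by
        rintro _ ⟨a, ha, rfl⟩ _ ⟨b, hb, rfl⟩
        rw [← map_mul, ← map_mul, hcB a ha b hb])
    ext x
    rw [hJ'mem, ← e]
    exact ⟨fun h => ⟨x, h, rfl⟩, fun ⟨y, hy, hyx⟩ => hinj hyx ▸ hy⟩
  have hJ'c : Nat.card J' = 27 := by
    rw [← L.card_J]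
    exact Nat.card_congr
      { toFun := fun x => ⟨((x.1 : C) : G), x.2⟩
        invFun := fun a => ⟨⟨⟨a.1, hJC a.2⟩, hT a.2⟩, a.2⟩
        left_inv := fun _ => rfl
        right_inv := fun _ => rfl }
  have hJ'comm : ∀ a ∈ J', ∀ b ∈ J', a * b = b * a := fun a ha b hb =>
    Subtype.ext (Subtype.ext (L.J_comm ha hb))
  have hJ'e : Cfsg.IsElementaryAbelian 3 J' := ⟨⟨⟨fun a b => Subtype.ext (hJ'comm _ a.2 _ b.2)⟩⟩, fun a ha =>
    Subtype.ext (Subtype.ext (by push_cast; rw [pow_succ', pow_two]; exact L.J_cube ha))⟩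
  have hmax : Cfsg.maxElementaryAbelianSubgroups 3 (T : Subgroup C) = {J'} := by
    ext A
    refine ⟨fun ⟨hA, hA'⟩ => hmapJ A (hJ'c ▸ hA' J' hJ'e) fun a ha b hb =>
      congrArg Subtype.val (hA.1.is_comm.comm ⟨a, ha⟩ ⟨b, hb⟩), ?_⟩
    rintro rfl
    refine ⟨hJ'e, fun B hB => ?_⟩
    by_contra hlt
    have := hmapJ B (by omega) fun a ha b hb => congrArg Subtype.val (hB.1.is_comm.comm ⟨a, ha⟩ ⟨b, hb⟩)
    rw [this] at hlt
    omega
  have hTJ : Cfsg.thompsonSubgroupOf 3 (T : Subgroup C) = L.J.comap C.subtype := by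
    rw [Cfsg.thompsonSubgroupOf, Cfsg.thompsonSubgroup, hmax, sSup_singleton]
    exact Subgroup.map_subgroupOf_eq_of_le hT
  have hzj : Cfsg.centerThompsonOf 3 (T : Subgroup C) = L.J.comap C.subtype := by
    rw [Cfsg.centerThompsonOf, hTJ, inf_eq_left]
    exact fun a ha => mem_centralizer_iff.2 fun b hb => Subtype.ext (L.J_comm hb ha)
  have hloc : IsPGroup 3 (normalizer ((L.J.comap C.subtype : Subgroup C) : Set C)) := by
    intro x
    have hxn : ((x : C) : G) ∈ normalizer (L.J : Set G) := by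
      refine mem_normalizer_iff.2 fun a => ⟨fun ha => (mem_normalizer_iff.1 x.2 ⟨a, hJC ha⟩).1 ha, fun ha => ?_⟩
      have haC : a ∈ C := by
        have := mul_mem (mul_mem (inv_mem (x : C).2) (hJC ha)) (x : C).2
        simpa [mul_assoc] using this
      exact (mem_normalizer_iff.1 x.2 ⟨a, haC⟩).2 ha
    rw [← L.norm] at hxn
    obtain ⟨k, hk⟩ := hxn
    have hk' : k * tv 13 = tv 13 * k := L.inj (by
      rw [map_mul, map_mul, hk]
      exact mem_centralizer_singleton_iff.1 (hC ▸ (x : C).2 : ((x : C) : G) ∈ centralizer ({L.tr 13} : Set G)))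
    refine ⟨2, Subtype.ext (Subtype.ext ?_)⟩
    push_cast
    norm_num
    rw [← hk, ← map_pow,
      show k ^ 9 = k * k * k * (k * k * k) * (k * k * k) by simp only [pow_succ, pow_zero, one_mul, mul_assoc],
      cent_z_nine k hk', map_one]
  have hnpc : Cfsg.HasNormalPComplement 3 C := by
    refine (Cfsg.Agent.S0117.result (by norm_num) T).2 ?_
    rw [hzj]
    obtain ⟨P⟩ : Nonempty (Sylow 3 (normalizer ((L.J.comap C.subtype : Subgroup C) : Set C))) := inferInstance
    refine ⟨P, ⊥, inferInstance, ?_⟩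
    rw [show (P : Subgroup (normalizer ((L.J.comap C.subtype : Subgroup C) : Set C))) = ⊤ from
      (P.3 (hloc.to_subgroup ⊤) le_top).symm]
    exact Subgroup.isComplement'_bot_top
  obtain ⟨P, N, hN, hcompl⟩ := hnpc
  haveI := hN
  have hNc : (Nat.card N).Coprime 3 := by
    refine Nat.Coprime.symm (Nat.prime_three.coprime_iff_not_dvd.2 fun h => ?_)
    have h9 := P.not_dvd_index
    rw [hcompl.index_eq_card] at h9
    exact h9 h
  have hN1 : N = ⊥ := eq_bot_iff.2 ((hC ▸ L.core 13 (by decide) : Cfsg.pPrimeCore 3 C = ⊥) ▸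
    Cfsg.Lib.Components.le_pPrimeCore hNc)
  rw [hN1, Subgroup.isComplement'_bot_left] at hcompl
  have hTtop : (T : Subgroup C) = ⊤ := (T.3 (hcompl ▸ P.2) le_top).symm
  exact fun x hx => hTH ⟨⟨x, hx⟩, hTtop ▸ Subgroup.mem_top _, rfl⟩

/-- The centraliser of an element with two nonzero coordinates lies in the normaliser. -/
theorem cent_two : centralizer ({L.tr 4} : Set G) ≤ L.φ.range := by
  classical
  have : Fact (Nat.Prime 3) := ⟨Nat.prime_three⟩
  obtain ⟨C, hC⟩ : ∃ C : Subgroup G, C = centralizer ({L.tr 4} : Set G) := ⟨_, rfl⟩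
  rw [← hC]
  have hmemC : ∀ {g : G}, g ∈ C → g * L.tr 4 = L.tr 4 * g := fun hg => mem_centralizer_singleton_iff.1 (hC ▸ hg)
  have hJC : L.J ≤ C := hC ▸ fun a ha => mem_centralizer_singleton_iff.2 (L.J_comm ha (L.tr_mem 4))
  obtain ⟨T, hT⟩ := (L.isPGroup_J.comap_of_injective C.subtype C.subtype_injective).exists_le_sylow
  have hTeq : (T : Subgroup C) = L.J.comap C.subtype := by
    refine le_antisymm (fun x hx => ?_) hT
    have hle := L.pgroup_le (T.2.map C.subtype) (fun a ha => ⟨⟨a, hJC ha⟩, hT ha, rfl⟩)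
    obtain ⟨k, hk⟩ := hle ⟨x, hx, rfl⟩
    show (x : G) ∈ L.J
    rw [show (x : G) = L.φ k from hk.symm]
    exact (L.memJ k).2 (two_data.1 k (L.nine_pgroup (T.2.map C.subtype) (hk ▸ ⟨x, hx, rfl⟩))
      (L.inj (by rw [map_mul, map_mul, hk]; exact hmemC x.2)))
  let d : C := ⟨L.tr 4, hJC (L.tr_mem 4)⟩
  have hdc : ∀ z ∈ zpowers d, ∀ g : C, z * g = g * z := by
    intro z hz g
    obtain ⟨i, rfl⟩ := mem_zpowers_iff.1 hz
    exact ((show Commute d g from Subtype.ext (hmemC g.2).symm).zpow_left i).eq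
  haveI hZn : (zpowers d).Normal := ⟨fun z hz g => by rw [← hdc z hz g, mul_inv_cancel_right]; exact hz⟩
  have hd3 : d ^ 3 = 1 := Subtype.ext (by
    push_cast
    rw [pow_succ', pow_two, L.J_cube (L.tr_mem 4)])
  have hZp : IsPGroup 3 (zpowers d) := IsPGroup.of_card (n := 1) (by
    rw [Nat.card_zpowers, pow_one, orderOf_eq_prime hd3 (fun e => L.tr_ne (by decide) (congrArg Subtype.val e))])
  let π : C →* C ⧸ zpowers d := QuotientGroup.mk' _
  let e : Fin 27 → C := fun v => ⟨L.tr v, hJC (L.tr_mem v)⟩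
  have hker : ∀ x : C, π x = 1 ↔ ∃ j : Fin 3, (x : G) = L.φ (tv 4 ^ (j : ℕ)) := by
    intro x
    rw [show π x = 1 ↔ x ∈ zpowers d from QuotientGroup.eq_one_iff x, mem_zpowers_iff_mem_range_orderOf,
      orderOf_eq_prime hd3 (fun e => L.tr_ne (by decide) (congrArg Subtype.val e))]
    simp only [Finset.mem_image, Finset.mem_range]
    constructor
    · rintro ⟨i, hi, rfl⟩
      exact ⟨⟨i, hi⟩, by rw [map_pow]; rfl⟩
    · rintro ⟨j, hj⟩
      exact ⟨j, j.2, Subtype.ext (by rw [hj, map_pow]; rfl)⟩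
  have hPsyl : ((T : Subgroup C).map π) ≤ (T.mapSurjective (QuotientGroup.mk'_surjective (zpowers d)) : Subgroup (C ⧸ zpowers d)) :=
    le_rfl
  let P : Sylow 3 (C ⧸ zpowers d) := T.mapSurjective (QuotientGroup.mk'_surjective (zpowers d))
  have hPmem : ∀ x : C, π x ∈ (P : Subgroup (C ⧸ zpowers d)) ↔ (x : G) ∈ L.J := by
    intro x
    constructor
    · rintro ⟨y, hy, hyx⟩
      rw [hTeq] at hy
      obtain ⟨j, hj⟩ := (hker (y⁻¹ * x)).1 (by rw [map_mul, map_inv]; exact (inv_mul_eq_one).2 hyx)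
      have : (x : G) = (y : G) * L.φ (tv 4 ^ (j : ℕ)) := by
        rw [← hj]; push_cast; group
      rw [this]
      exact mul_mem hy ((L.memJ _).2 ((show ∀ j : Fin 3, InV (tv 4 ^ (j : ℕ)) by decide +kernel) j))
    · intro hx
      exact ⟨x, hTeq ▸ hx, rfl⟩
  have hsurj := QuotientGroup.mk'_surjective (zpowers d)
  have hrm : ∀ i, π (e (cos i)) ∈ (P : Subgroup (C ⧸ zpowers d)) := fun i => (hPmem _).2 (L.tr_mem _)
  have hcent : ∀ i, centralizer ({π (e (cos i))} : Set (C ⧸ zpowers d)) = (P : Subgroup (C ⧸ zpowers d)) := by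
    intro i
    ext q
    obtain ⟨g, rfl⟩ := hsurj q
    constructor
    · intro hg
      rw [mem_centralizer_singleton_iff] at hg
      obtain ⟨u, w, ⟨j₁, hu⟩, ⟨j₂, hw⟩, hwl, huniq⟩ := cos_facts.2.2.2 i
      have hπu : ∀ {v : Fin 27} {j : Fin 3}, tv (cos i) * tv 4 ^ (j : ℕ) = tv v → π (e v) = π (e (cos i)) := by
        intro v j hv
        have : e v = e (cos i) * d ^ (j : ℕ) := Subtype.ext (by
          show L.φ (tv v) = _
          rw [← hv, map_mul, map_pow]; rfl)
        rw [this, map_mul, map_pow, show π d = 1 from (QuotientGroup.eq_one_iff d).2 (mem_zpowers d), one_pow, mul_one]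
      obtain ⟨j, hj⟩ := (hker ((e u)⁻¹ * (g * e u * g⁻¹))).1 (by
        rw [map_mul, map_mul, map_mul, map_inv, map_inv, hπu hu]
        rw [show π g * π (e (cos i)) = π (e (cos i)) * π g from hg]; group)
      push_cast at hj
      have hgu : (g : G) * L.tr u * (g : G)⁻¹ = L.φ (tv u * tv 4 ^ (j : ℕ)) := by
        rw [map_mul, ← hj]
        show (g : G) * L.φ (tv u) * (g : G)⁻¹ =
          L.φ (tv u) * ((L.φ (tv u))⁻¹ * ((g : G) * L.φ (tv u) * (g : G)⁻¹))
        rw [mul_inv_cancel_left]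
      have hin := (show ∀ u : Fin 27, ∀ j : Fin 3, InV (tv u * tv 4 ^ (j : ℕ)) by decide +kernel) u j
      rw [inV_eq _ hin] at hgu
      have hc := L.cls_eq hgu
      rw [← inV_eq _ hin] at hgu hc
      rw [huniq j hc.symm] at hgu
      have hgu' : (g : G) * L.tr u = L.tr u * g := mul_inv_eq_iff_eq_mul.1 hgu
      have hgw : (g : G) * L.tr w = L.tr w * g := by
        obtain ⟨j₃, hj₃⟩ : ∃ j₃ : Fin 3, tv w = tv u * tv 4 ^ (j₃ : ℕ) :=
          (show ∀ i : Fin 3, ∀ j₁ j₂ : Fin 3, ∃ j₃ : Fin 3, tv (cos i) * tv 4 ^ (j₂ : ℕ) =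
            tv (cos i) * tv 4 ^ (j₁ : ℕ) * tv 4 ^ (j₃ : ℕ) by decide +kernel) i j₁ j₂ |>.imp fun _ h => by
              rw [← hw, ← hu]; exact h
        show (g : G) * L.φ (tv w) = L.φ (tv w) * g
        rw [hj₃, map_mul, map_pow]
        exact ((show Commute (g : G) (L.φ (tv u)) from hgu').mul_right
          ((show Commute (g : G) (L.φ (tv 4)) from hmemC g.2).pow_right _)).eq
      have hz : (g : G) ∈ L.φ.range := by
        obtain ⟨h, hh⟩ := (show ∀ w ∈ ([13, 14, 23] : List (Fin 27)), ∃ k : Mon, k * tv 13 * k⁻¹ = tv w by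
          decide +kernel) w hwl
        have : (L.φ h)⁻¹ * g * L.φ h ∈ L.φ.range := L.cent_z (mem_centralizer_singleton_iff.2 (by
          have e13 : L.tr 13 = (L.φ h)⁻¹ * L.tr w * L.φ h := by
            show L.φ (tv 13) = _ * L.φ (tv w) * _
            rw [← hh, map_mul, map_mul, map_inv]; group
          rw [e13, show (L.φ h)⁻¹ * g * L.φ h * ((L.φ h)⁻¹ * L.tr w * L.φ h) = (L.φ h)⁻¹ * (g * L.tr w) * L.φ h by group,
            hgw]
          group))
        have hr : L.φ h ∈ L.φ.range := ⟨h, rfl⟩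
        have := mul_mem (mul_mem hr this) (inv_mem hr)
        simpa [mul_assoc] using this
      obtain ⟨k, hk⟩ := hz
      rw [hPmem, ← hk]
      refine (L.memJ k).2 (two_data.2.1 k (L.inj ?_) w hwl (L.inj ?_))
      · rw [map_mul, map_mul, hk]; exact hmemC g.2
      · rw [map_mul, map_mul, hk]; exact hgw
    · intro hg
      rw [mem_centralizer_singleton_iff, ← map_mul, ← map_mul]
      exact congrArg π (Subtype.ext (L.J_comm ((hPmem g).1 hg) (L.tr_mem _)))
  have hJlift : ∀ g : C, π g ∈ normalizer ((P : Subgroup (C ⧸ zpowers d)) : Set (C ⧸ zpowers d)) →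
      (g : G) ∈ normalizer (L.J : Set G) := by
    intro g hg
    refine Subgroup.mem_normalizer_iff_map_conj_eq.2 (Subgroup.eq_of_le_of_card_ge ?_
      (by rw [Subgroup.card_map_of_injective (MulAut.conj (g : G)).injective]))
    rintro _ ⟨a, ha, rfl⟩
    have := (mem_normalizer_iff.1 hg (π ⟨a, hJC ha⟩)).1 ((hPmem _).2 ha)
    rw [← map_inv, ← map_mul, ← map_mul, hPmem] at this
    exact this
  have ht : L.φ invTwo ∈ C := hC ▸ mem_centralizer_singleton_iff.2 (by rw [← map_mul, invTwo_spec.1, map_mul])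
  have hne : ∀ {v : Fin 27}, (∀ j : Fin 3, tv v ≠ tv 4 ^ (j : ℕ)) → π (e v) ≠ 1 := by
    intro v hv h
    obtain ⟨j, hj⟩ := (hker _).1 h
    exact hv j (L.inj hj)
  let S : Three (C ⧸ zpowers d) :=
    { P := P
      r := fun i => π (e (cos i))
      r_two := by
        obtain ⟨j, hj⟩ := cos_prod
        rw [← map_mul, ← inv_mul_eq_one, ← map_inv, ← map_mul]
        exact (hker _).2 ⟨j, by push_cast; rw [← hj, map_mul, map_mul, map_inv]⟩
      r_mem := hrm
      card9 := by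
        have h := Subgroup.card_mul_index ((T : Subgroup C).map π)
        have hmap : Nat.card ((T : Subgroup C).map π) * Nat.card (zpowers d) = Nat.card (T : Subgroup C) := by
          have hle : zpowers d ≤ (T : Subgroup C) := zpowers_le.2 (hTeq ▸ L.tr_mem 4)
          rw [← Subgroup.relIndex_ker, show π.ker = zpowers d from QuotientGroup.ker_mk' _,
            ← Nat.card_congr (subgroupOfEquivOfLe hle).toEquiv, Subgroup.relIndex, Subgroup.index_mul_card]
        rw [Nat.card_zpowers, orderOf_eq_prime hd3 (fun e => L.tr_ne (by decide) (congrArg Subtype.val e))] at hmap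
        have hT27 : Nat.card (T : Subgroup C) = 27 := by
          rw [hTeq, ← L.card_J]
          exact Nat.card_congr
            { toFun := fun x => ⟨((x : C) : G), x.2⟩
              invFun := fun a => ⟨⟨a.1, hJC a.2⟩, a.2⟩
              left_inv := fun _ => rfl
              right_inv := fun _ => rfl }
        show Nat.card ((T : Subgroup C).map π) = 9
        omega
      cube := fun s hs => by
        obtain ⟨g, rfl⟩ := hsurj s
        rw [← map_mul, ← map_mul, show g * (g * g) = 1 from Subtype.ext (L.J_cube ((hPmem g).1 hs)), map_one]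
      comm := fun s hs s' hs' => by
        obtain ⟨g, rfl⟩ := hsurj s
        obtain ⟨g', rfl⟩ := hsurj s'
        rw [← map_mul, ← map_mul]
        exact congrArg π (Subtype.ext (L.J_comm ((hPmem g).1 hs) ((hPmem g').1 hs')))
      r_ne := fun i => hne ((show ∀ i j, tv (cos i) ≠ tv 4 ^ ((j : Fin 3) : ℕ) by decide +kernel) i)
      r_sep := fun i l hil => by
        constructor
        · intro h
          obtain ⟨j, hj⟩ := (hker ((e (cos i))⁻¹ * e (cos l))).1 (by rw [map_mul, map_inv, h, inv_mul_cancel])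
          refine (cos_sep i l hil j).1 (L.inj ?_)
          rw [← hj, map_mul, map_inv]; rfl
        · intro h
          obtain ⟨j, hj⟩ := (hker (e (cos i) * e (cos l))).1 (by rw [map_mul, h, inv_mul_cancel])
          refine (cos_sep i l hil j).2 (L.inj ?_)
          rw [← hj, map_mul]; rfl
      cent := hcent
      t := π ⟨_, ht⟩
      inv := fun s hs => by
        obtain ⟨g, rfl⟩ := hsurj s
        obtain ⟨v, hv⟩ := L.exists_tr ((hPmem g).1 hs)
        obtain ⟨j, hj⟩ := invTwo_spec.2 v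
        rw [← map_inv, ← map_mul, ← map_mul, eq_comm, ← map_inv, eq_comm, ← mul_inv_eq_one, ← map_inv, ← map_mul, inv_inv]
        refine (hker _).2 ⟨j, ?_⟩
        push_cast
        rw [← hj, ← hv, map_mul, map_mul, map_mul, map_inv]
      norm := fun s hs => by
        obtain ⟨g, rfl⟩ := hsurj s
        have h := hJlift g hs
        rw [← L.norm] at h
        obtain ⟨k, hk⟩ := h
        rcases two_data.2.2 k (L.inj (by rw [map_mul, map_mul, hk]; exact hmemC g.2)) with h' | h'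
        · exact Or.inl ((hPmem g).2 (hk ▸ (L.memJ k).2 h'))
        · refine Or.inr ?_
          rw [← map_inv, ← map_mul, hPmem]
          push_cast
          rw [← hk, ← map_inv, ← map_mul]
          exact (L.memJ _).2 h'
      core := core_quot _ hZp hdc (hC ▸ L.core 4 (by decide)) }
  intro x hx
  rw [L.norm]
  refine hJlift ⟨x, hx⟩ ?_
  rw [show normalizer ((P : Subgroup (C ⧸ zpowers d)) : Set (C ⧸ zpowers d)) = ⊤ from S.normal]
  exact Subgroup.mem_top _

end Loc

end Cfsg.Lib.AltNineLocal
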