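import Cfsg.Agent.LocalThree.AltNineLocal.Frame

/-!
The embeddings attached to the three blocks.
-/

set_option autoImplicit false
set_option linter.unusedSectionVars false
set_option synthInstance.maxSize 4096
set_option maxRecDepth 100000
set_option maxHeartbeats 1000000

namespace Cfsg.Lib.AltNineLocal

open Equiv Subgroup Cfsg.Lib.Monomial

universe u

/-- The translations of the three blocks. -/
def blockv : Fin 3 → Fin 27 := ![1, 3, 9]

theorem block_conj : ∀ i : Fin 3, sh ^ (i : ℕ) * tv 1 * (sh ^ (i : ℕ))⁻¹ = tv (blockv i) := by decide +kernel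

/-- A pair commuting with the first three-cycle. -/
theorem comm_aL : ∀ σ : Perm (Fin 3), σ * c3 = c3 * σ → ∃ i : Fin 3, σ = c3 ^ (i : ℕ) := by decide +kernel

theorem c3_pow : (∀ i : Fin 3, Perm.sign (c3 ^ (i : ℕ)) = 1) ∧ c3 ^ 3 = 1 ∧
    ∀ i : Fin 3, c3 ^ (i : ℕ) = 1 → i = 0 := by decide +kernel

/-- The second component as a homomorphism. -/
def sndX : A6 →* L9 where
  toFun x := ⟨(1, (x : Perm (Fin 6))), mem_L9.2 (by rw [Perm.sign_one, one_mul]; exact Perm.mem_alternatingGroup.1 x.2)⟩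
  map_one' := rfl
  map_mul' x y := Subtype.ext (Prod.ext (one_mul _).symm rfl)

theorem sndX_inj : Function.Injective sndX := fun x y h => Subtype.ext (congrArg (fun p : L9 => (p : Pr).2) h)

/-- Decomposition of the pairs commuting with the first three-cycle. -/
theorem split_aL {p : L9} (h : p * aL = aL * p) : ∃ (i : Fin 3) (x : A6), p = aL ^ (i : ℕ) * sndX x := by
  obtain ⟨i, hi⟩ := comm_aL (p : Pr).1 (congrArg (fun q : L9 => (q : Pr).1) h)
  have hs : Perm.sign (p : Pr).2 = 1 := by rw [sign_eq, hi]; exact c3_pow.1 i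
  refine ⟨i, ⟨(p : Pr).2, Perm.mem_alternatingGroup.2 hs⟩, Subtype.ext (Prod.ext ?_ ?_)⟩
  · show _ = c3 ^ (i : ℕ) * 1
    rw [mul_one, hi]
  · show _ = ((1 : Perm (Fin 6)) ^ (i : ℕ)) * _
    rw [one_pow, one_mul]
    rfl

theorem sndX_comm (x : A6) : sndX x * aL = aL * sndX x :=
  Subtype.ext (Prod.ext (by show 1 * c3 = c3 * 1; rw [one_mul, mul_one])
    (by show (x : Perm (Fin 6)) * 1 = 1 * _; rw [one_mul, mul_one]; rfl))

theorem card_L9_dvd : Nat.card L9 ∣ 4320 := by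
  have h := Subgroup.card_subgroup_dvd_card L9
  rwa [Nat.card_prod, Nat.card_perm, Nat.card_perm, Nat.card_fin, Nat.card_fin] at h

namespace Big

variable {G : Type u} [Group G] (L : Big G)

/-- The embedding attached to a block. -/
def f (i : Fin 3) : L9 →* G := (MulAut.conj (L.φ (sh ^ (i : ℕ)))).toMonoidHom.comp L.f0

include L

theorem f_apply (i : Fin 3) (p : L9) : L.f i p = L.φ (sh ^ (i : ℕ)) * L.f0 p * (L.φ (sh ^ (i : ℕ)))⁻¹ := rfl

theorem f_inj (i : Fin 3) : Function.Injective (L.f i) := (MulAut.conj _).injective.comp L.f0_inj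

theorem agree {i : Fin 3} {p : L9} {k : Mon} (h : toNine k = em i p) : L.f i p = L.φ k := by
  have h0 : toNine ((sh ^ (i : ℕ))⁻¹ * k * sh ^ (i : ℕ)) = em0 p := by
    rw [map_mul, map_mul, map_inv, map_pow, h, em_apply]; group
  rw [f_apply, L.f0_agree _ _ h0, map_mul, map_mul, map_inv]; group

theorem link {i j : Fin 3} {p q : L9} (h : em i p = em j q) (k : Mon) (hk : ∀ x : Fin 9, pointMap k x = em i p x) :
    L.f i p = L.f j q := by
  have hk' : toNine k = em i p := Equiv.ext fun x => by rw [toNine_apply, hk]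
  rw [L.agree hk', L.agree (hk'.trans h)]

theorem f_aL (i : Fin 3) : L.f i aL = L.tr (blockv i) := by
  rw [f_apply, L.f0_agree (tv 1) aL images.1.1, ← map_inv, ← map_mul, ← map_mul, block_conj]

theorem f_norm {i : Fin 3} {g : G} (h : g * L.f i aL * g⁻¹ = L.f i aL ∨ g * L.f i aL * g⁻¹ = (L.f i aL)⁻¹) :
    g ∈ (L.f i).range := by
  obtain ⟨s, hs⟩ : ∃ s, s = L.φ (sh ^ (i : ℕ)) := ⟨_, rfl⟩
  rw [f_apply, L.f0_agree (tv 1) aL images.1.1, ← hs] at h
  obtain ⟨p, hp⟩ := L.f0_norm (s⁻¹ * g * s) (by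
    rcases h with e | e
    · left
      calc s⁻¹ * g * s * L.φ (tv 1) * (s⁻¹ * g * s)⁻¹ = s⁻¹ * (g * (s * L.φ (tv 1) * s⁻¹) * g⁻¹) * s := by group
        _ = _ := by rw [e]; group
    · right
      calc s⁻¹ * g * s * L.φ (tv 1) * (s⁻¹ * g * s)⁻¹ = s⁻¹ * (g * (s * L.φ (tv 1) * s⁻¹) * g⁻¹) * s := by group
        _ = _ := by rw [e]; group)
  exact ⟨p, by rw [f_apply, ← hs, hp]; group⟩

theorem comm_iff {i : Fin 3} {p q : L9} : L.f i p * L.f i q = L.f i q * L.f i p ↔ p * q = q * p := by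
  rw [← map_mul, ← map_mul]; exact (L.f_inj i).eq_iff

/-- The centraliser of a three-cycle. -/
theorem cent {i : Fin 3} {g : G} (h : g * L.f i aL = L.f i aL * g) :
    ∃ (j : Fin 3) (x : A6), g = L.f i (aL ^ (j : ℕ) * sndX x) := by
  obtain ⟨p, rfl⟩ := L.f_norm (Or.inl (mul_inv_eq_iff_eq_mul.2 h))
  obtain ⟨j, x, rfl⟩ := split_aL (L.comm_iff.1 h)
  exact ⟨j, x, rfl⟩

theorem card_cent_dvd [Finite G] (i : Fin 3) :
    Nat.card (centralizer ({L.f i aL} : Set G)) ∣ 4320 := by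
  refine dvd_trans ?_ card_L9_dvd
  rw [Nat.card_congr (MonoidHom.ofInjective (L.f_inj i)).toEquiv]
  exact Subgroup.card_dvd_of_le fun g hg => L.f_norm (Or.inl (mul_inv_eq_iff_eq_mul.2 (mem_centralizer_singleton_iff.1 hg)))

end Big

end Cfsg.Lib.AltNineLocal
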