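import Cfsg.Agent.LocalThree.MonomialModel

/-!
Computations in the monomial group of order `648`.
-/

set_option autoImplicit false
set_option maxRecDepth 8000

namespace Cfsg.Lib.AltNineLocal

open Cfsg.Lib.Monomial

/-- A translation. -/
def tv (v : Fin 27) : Mon := ⟨v, oneA⟩

theorem inV_tv (v : Fin 27) : InV (tv v) := rfl

/-- A power by repeated multiplication. -/
def nine (k : Mon) : Prop :=
  k * k * k * (k * k * k) * (k * k * k) = 1

instance : DecidablePred nine := fun k => inferInstanceAs (Decidable (_ = _))

theorem nine_of {k : Mon} (h : k ^ 9 = 1) : nine k := by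
  show k * k * k * (k * k * k) * (k * k * k) = 1
  rw [← h]; simp only [pow_succ, pow_zero, one_mul, mul_assoc]

theorem small_cent : ∀ k : Mon, nine k → ¬ InV k →
    (Finset.univ.filter fun l : Mon => l * k = k * l ∧ nine l).card < 27 := by decide +kernel

theorem cent_trans : ∀ k : Mon, (∀ v : Fin 27, k * tv v = tv v * k) → InV k := by decide +kernel

theorem trans_cube : ∀ k : Mon, InV k → k * (k * k) = 1 := by decide +kernel

theorem trans_comm : ∀ v w : Fin 27, tv v * tv w = tv w * tv v := by decide +kernel

theorem inV_eq : ∀ k : Mon, InV k → k = tv k.v := fun k h => Mon.ext rfl h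

theorem card_trans : (Finset.univ.filter fun k : Mon => InV k).card = 27 := by decide +kernel

theorem trans_normal : ∀ k : Mon, ∀ v : Fin 27, InV (k * tv v * k⁻¹) := by
  intro k v
  show mulA (mulA k.a oneA) (invA k.a) = oneA
  rw [(mulA_one _).2.1]
  exact (show ∀ a, mulA a (invA a) = oneA by decide +kernel) k.a

end Cfsg.Lib.AltNineLocal
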