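import Cfsg.Agent.Presentations.Carmichael
import Mathlib.GroupTheory.SpecificGroups.Alternating.Simple
import Mathlib.GroupTheory.Perm.Fin

/-!
Finite facts on the alternating groups of degree five and six.
-/

set_option autoImplicit false
set_option synthInstance.maxSize 4096
set_option maxRecDepth 100000
set_option maxHeartbeats 1000000

namespace Cfsg.Lib.AltNineLocal

open Equiv Subgroup

/-- The relations of Moore. -/
def mrels (m : ℕ) : Set (FreeGroup (Fin m)) :=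
  {g : FreeGroup (Fin m) | ∃ i : Fin m, i.val = 0 ∧ g = FreeGroup.of i ^ 3} ∪
  {g | ∃ i : Fin m, 1 ≤ i.val ∧ g = FreeGroup.of i ^ 2} ∪
  {g | ∃ i j : Fin m, j.val = i.val + 1 ∧ g = (FreeGroup.of i * FreeGroup.of j) ^ 3} ∪
  {g | ∃ i j : Fin m, i.val + 1 < j.val ∧ g = (FreeGroup.of i * FreeGroup.of j) ^ 2}

theorem mrels_of {m : ℕ} {K : Type*} [Group K] (x : Fin m → K) (h1 : ∀ i : Fin m, i.val = 0 → x i ^ 3 = 1)
    (h2 : ∀ i : Fin m, 1 ≤ i.val → x i ^ 2 = 1)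
    (h3 : ∀ i j : Fin m, j.val = i.val + 1 → (x i * x j) ^ 3 = 1)
    (h4 : ∀ i j : Fin m, i.val + 1 < j.val → (x i * x j) ^ 2 = 1) :
    ∀ r ∈ mrels m, FreeGroup.lift x r = 1 := by
  rintro r (((⟨i, hi, rfl⟩ | ⟨i, hi, rfl⟩) | ⟨i, j, hj, rfl⟩) | ⟨i, j, hj, rfl⟩) <;>
    simp only [map_pow, map_mul, FreeGroup.lift_apply_of]
  exacts [h1 i hi, h2 i hi, h3 i j hj, h4 i j hj]

/-- Generators satisfying the relations give the presentation. -/
theorem moore_iso (n : ℕ) (hn : 5 ≤ n) (g : Fin (n - 2) → alternatingGroup (Fin n)) (i0 : Fin (n - 2))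
    (h0 : g i0 ≠ 1) (hr : ∀ r ∈ mrels (n - 2), FreeGroup.lift g r = 1) :
    ∃ e : PresentedGroup (mrels (n - 2)) ≃* alternatingGroup (Fin n), ∀ i, e (PresentedGroup.of i) = g i := by
  obtain ⟨e0⟩ : Nonempty (PresentedGroup (mrels (n - 2)) ≃* alternatingGroup (Fin n)) :=
    Cfsg.Lib.Presentations.Carmichael.presentation n (by omega)
  set φ := PresentedGroup.toGroup hr with hφ
  haveI : IsSimpleGroup (alternatingGroup (Fin n)) := alternatingGroup.isSimpleGroup (by simpa using hn)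
  haveI : IsSimpleGroup (PresentedGroup (mrels (n - 2))) := e0.isSimpleGroup
  have hinj : Function.Injective φ := by
    rw [← MonoidHom.ker_eq_bot_iff]
    refine φ.normal_ker.eq_bot_or_eq_top.resolve_right fun h => h0 ?_
    have h1 : φ (PresentedGroup.of i0) = 1 := h.ge (mem_top _)
    rwa [hφ, PresentedGroup.toGroup.of] at h1
  haveI : Finite (PresentedGroup (mrels (n - 2))) := Finite.of_equiv _ e0.symm.toEquiv
  exact ⟨MulEquiv.ofBijective φ ((Nat.bijective_iff_injective_and_card φ).2 ⟨hinj, Nat.card_congr e0.toEquiv⟩),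
    fun i => PresentedGroup.toGroup.of hr⟩

theorem moore_top {n : ℕ} (hn : 5 ≤ n) (g : Fin (n - 2) → alternatingGroup (Fin n)) (i0 : Fin (n - 2))
    (h0 : g i0 ≠ 1) (hr : ∀ r ∈ mrels (n - 2), FreeGroup.lift g r = 1) (K : Subgroup (alternatingGroup (Fin n)))
    (hK : ∀ i, g i ∈ K) : K = ⊤ := by
  obtain ⟨e, he⟩ := moore_iso n hn g i0 h0 hr
  rw [eq_top_iff]
  intro x _
  have hle : (⊤ : Subgroup (PresentedGroup (mrels (n - 2)))) ≤ K.comap e.toMonoidHom := by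
    rw [← PresentedGroup.closure_range_of, closure_le]
    rintro _ ⟨i, rfl⟩
    show e (PresentedGroup.of i) ∈ K
    rw [he i]
    exact hK i
  simpa using hle (mem_top (e.symm x))

/-! ### Six points -/

/-- The alternating group. -/
abbrev A6 := alternatingGroup (Fin 6)

/-- An even permutation. -/
def e6 (σ : Perm (Fin 6)) (h : Perm.sign σ = 1 := by decide +kernel) : A6 := ⟨σ, Perm.mem_alternatingGroup.2 h⟩

def B6 : A6 := e6 (swap 0 1 * swap 1 2)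
def C6 : A6 := e6 (swap 3 4 * swap 4 5)
/-- The element of order four. -/
def R6 : A6 := e6 (swap 0 3 * (swap 1 4 * swap 4 2 * swap 2 5))
def Q6 : A6 := e6 (swap 1 2 * swap 2 3)

def g6 : Fin (6 - 2) → A6 :=
  ![B6, e6 (swap 0 1 * swap 2 3), e6 (swap 0 1 * swap 3 4), e6 (swap 0 1 * swap 4 5)]

theorem g6_rels : ∀ r ∈ mrels (6 - 2), FreeGroup.lift g6 r = 1 :=
  mrels_of g6 (by decide +kernel) (by decide +kernel) (by decide +kernel) (by decide +kernel)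

/-- The images of the outer automorphism. -/
def w6 : Fin (6 - 2) → A6 :=
  ![e6 (swap 0 1 * swap 1 2 * (swap 3 4 * swap 4 5)), e6 (swap 1 3 * swap 2 4), e6 (swap 0 1 * swap 4 5),
    e6 (swap 1 2 * swap 3 4)]

theorem w6_rels : ∀ r ∈ mrels (6 - 2), FreeGroup.lift w6 r = 1 :=
  mrels_of w6 (by decide +kernel) (by decide +kernel) (by decide +kernel) (by decide +kernel)

theorem rel6 : C6 * B6 = B6 * C6 ∧ R6 * B6 * R6⁻¹ = C6 ∧ R6 * C6 * R6⁻¹ = B6⁻¹ ∧ R6 ^ 4 = 1 ∧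
    B6 ^ 3 = 1 ∧ C6 ^ 3 = 1 := by decide +kernel

theorem three_six : ∀ b : A6, b ^ 3 = 1 → b ≠ 1 → ∃ σ : Perm (Fin 6),
    σ * (B6 : Perm (Fin 6)) * σ⁻¹ = b ∨ σ * (w6 0 : Perm (Fin 6)) * σ⁻¹ = b := by decide +kernel

theorem second_six : ∀ c : A6, c * B6 = B6 * c → c ^ 3 = 1 → c ≠ 1 → c ≠ B6 → c ≠ B6⁻¹ →
    (∃ r : A6, r * B6 * r⁻¹ = c) → ∃ σ : Perm (Fin 6),
    σ * (B6 : Perm (Fin 6)) * σ⁻¹ = B6 ∧ σ * (C6 : Perm (Fin 6)) * σ⁻¹ = c := by decide +kernel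

theorem third_six : ∀ r : A6, r * B6 * r⁻¹ = C6 → r * C6 * r⁻¹ = B6⁻¹ → r ^ 4 = 1 →
    ∃ i j : Fin 3, B6 ^ (i : ℕ) * C6 ^ (j : ℕ) * R6 * (B6 ^ (i : ℕ) * C6 ^ (j : ℕ))⁻¹ = r := by decide +kernel

theorem unique_six : ∀ q : A6, q ^ 3 = 1 → (B6 * q) ^ 2 = 1 → (R6 * q) ^ 4 = 1 → (R6 * q) ^ 2 ≠ 1 →
    (q * R6 * q⁻¹ * B6) ^ 5 = 1 → q = Q6 := by decide +kernel

theorem q6_spec : Q6 ^ 3 = 1 ∧ (B6 * Q6) ^ 2 = 1 ∧ (R6 * Q6) ^ 4 = 1 ∧ (R6 * Q6) ^ 2 ≠ 1 ∧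
    (Q6 * R6 * Q6⁻¹ * B6) ^ 5 = 1 := by decide +kernel

theorem words6 : g6 0 = B6 ∧ g6 1 = B6 * Q6 ∧ g6 2 = B6 * C6 * R6 * R6 ∧ g6 3 = B6 * R6 * R6 := by
  decide +kernel

/-- An automorphism fixing three elements fixes all. -/
theorem fixed_six (γ : A6 ≃* A6) (hB : γ B6 = B6) (hC : γ C6 = C6) (hR : γ R6 = R6) : ∀ x, γ x = x := by
  have hQ : γ Q6 = Q6 := by
    obtain ⟨q1, q2, q3, q4, q5⟩ := q6_spec
    refine unique_six _ (by rw [← map_pow, q1, map_one]) ?_ ?_ ?_ ?_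
    · rw [← hB, ← map_mul, ← map_pow, q2, map_one]
    · rw [← hR, ← map_mul, ← map_pow, q3, map_one]
    · rw [← hR, ← map_mul, ← map_pow]
      exact fun e => q4 (γ.map_eq_one_iff.1 e)
    · rw [← hR, ← hB, ← map_inv, ← map_mul, ← map_mul, ← map_mul, ← map_pow, q5, map_one]
  obtain ⟨w0, w1, w2, w3⟩ := words6
  have h := moore_top (by norm_num) g6 0 (by decide +kernel) g6_rels (γ.toMonoidHom.eqLocus (MonoidHom.id A6))
    (fun i => by
      show γ (g6 i) = g6 i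
      fin_cases i
      · show γ (g6 0) = g6 0
        rw [w0, hB]
      · show γ (g6 1) = g6 1
        rw [w1, map_mul, hB, hQ]
      · show γ (g6 2) = g6 2
        rw [w2, map_mul, map_mul, map_mul, hB, hC, hR]
      · show γ (g6 3) = g6 3
        rw [w3, map_mul, map_mul, hB, hR])
  exact fun x => (h ▸ mem_top x : x ∈ γ.toMonoidHom.eqLocus (MonoidHom.id A6))

/-- An automorphism adjusting three elements. -/
theorem adjust_six {b c r : A6} (hb : b ^ 3 = 1) (hb1 : b ≠ 1) (hc : c ^ 3 = 1) (hcb : c * b = b * c)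
    (hc1 : c ≠ b) (hc2 : c ≠ b⁻¹) (hrb : r * b * r⁻¹ = c) (hrc : r * c * r⁻¹ = b⁻¹) (hr : r ^ 4 = 1) :
    ∃ α : A6 ≃* A6, α B6 = b ∧ α C6 = c ∧ α R6 = r := by
  obtain ⟨e, he⟩ := moore_iso 6 (by norm_num) g6 0 (by decide +kernel) g6_rels
  obtain ⟨e', he'⟩ := moore_iso 6 (by norm_num) w6 0 (by decide +kernel) w6_rels
  have hω : (e.symm.trans e') B6 = w6 0 := by
    show e' (e.symm (g6 0)) = _
    rw [← he 0, e.symm_apply_apply, he']
  obtain ⟨α₁, hα₁⟩ : ∃ α : A6 ≃* A6, α B6 = b := by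
    obtain ⟨σ, h | h⟩ := three_six b hb hb1
    · exact ⟨MulAut.conjNormal σ, Subtype.ext (by simpa using h)⟩
    · exact ⟨(e.symm.trans e').trans (MulAut.conjNormal σ),
        Subtype.ext (by rw [MulEquiv.trans_apply, hω]; simpa using h)⟩
  have hsym : α₁.symm b = B6 := by rw [← hα₁, α₁.symm_apply_apply]
  obtain ⟨σ, hσB, hσC⟩ := second_six (α₁.symm c) (by rw [← hsym, ← map_mul, ← map_mul, hcb])
    (by rw [← map_pow, hc, map_one])
    (fun e => hb1 (by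
      rw [map_eq_one_iff α₁.symm α₁.symm.injective] at e
      rw [e] at hrc
      simpa using hrc.symm))
    (fun e => hc1 (α₁.symm.injective (by rw [e, hsym])))
    (fun e => hc2 (α₁.symm.injective (by rw [e, map_inv, hsym])))
    ⟨α₁.symm r, by rw [← hsym, ← map_inv, ← map_mul, ← map_mul, hrb]⟩
  obtain ⟨α₂, h2⟩ : ∃ α : A6 ≃* A6, α = (MulAut.conjNormal σ : A6 ≃* A6).trans α₁ := ⟨_, rfl⟩
  have hB : α₂ B6 = b := by
    rw [h2, MulEquiv.trans_apply, show MulAut.conjNormal σ B6 = B6 from Subtype.ext (by simpa using hσB), hα₁]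
  have hC : α₂ C6 = c := by
    rw [h2, MulEquiv.trans_apply, show MulAut.conjNormal σ C6 = α₁.symm c from Subtype.ext (by simpa using hσC),
      α₁.apply_symm_apply]
  have hbs : α₂.symm b = B6 := by rw [← hB, α₂.symm_apply_apply]
  have hcs : α₂.symm c = C6 := by rw [← hC, α₂.symm_apply_apply]
  obtain ⟨i, j, hij⟩ := third_six (α₂.symm r)
    (by rw [← hbs, ← hcs, ← map_inv, ← map_mul, ← map_mul, hrb])
    (by rw [← hbs, ← hcs, ← map_inv, ← map_mul, ← map_mul, hrc, map_inv])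
    (by rw [← map_pow, hr, map_one])
  refine ⟨(MulAut.conj (B6 ^ (i : ℕ) * C6 ^ (j : ℕ))).trans α₂, ?_, ?_, ?_⟩
  · rw [MulEquiv.trans_apply, MulAut.conj_apply, ← hB]
    congr 1
    have h : Commute (B6 ^ (i : ℕ) * C6 ^ (j : ℕ)) B6 :=
      ((Commute.refl B6).pow_left _).mul_left ((show Commute C6 B6 from rel6.1).pow_left _)
    rw [h.eq, mul_inv_cancel_right]
  · rw [MulEquiv.trans_apply, MulAut.conj_apply, ← hC]
    congr 1
    have h : Commute (B6 ^ (i : ℕ) * C6 ^ (j : ℕ)) C6 :=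
      ((show Commute B6 C6 from rel6.1.symm).pow_left _).mul_left ((Commute.refl C6).pow_left _)
    rw [h.eq, mul_inv_cancel_right]
  · rw [MulEquiv.trans_apply, MulAut.conj_apply, hij, α₂.apply_symm_apply]

/-- The four-group on the fixed triple. -/
def V6 : List A6 :=
  [1, e6 (swap 0 1 * swap 2 5), e6 (swap 0 2 * swap 1 5), e6 (swap 0 5 * swap 1 2)]

def t6 : A6 := e6 (swap 0 1 * swap 3 4)

/-- Short products of conjugates. -/
def zwords (z : A6) : List A6 :=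
  [z * z * (B6 * z * B6⁻¹) * (B6 * (B6 * z * B6⁻¹) * B6⁻¹),
   z * z * (B6 * (B6 * z * B6⁻¹) * B6⁻¹) * (B6 * z * B6⁻¹),
   z * (B6 * z * B6⁻¹) * z * (B6 * (B6 * z * B6⁻¹) * B6⁻¹),
   z * (t6 * z * t6⁻¹) * (B6 * z * B6⁻¹) * (t6 * (B6 * z * B6⁻¹) * t6⁻¹),
   z * (t6 * (B6 * z * B6⁻¹) * t6⁻¹)]

theorem z_six : ∀ z : A6, z ∈ V6 ∨ ∃ w ∈ zwords z, w ≠ 1 ∧ (w * (w * w) = 1 ∨ w * B6 = B6 * w) := by
  decide +kernel

theorem x_six : ∀ x : A6, x ^ 3 = 1 → x ≠ 1 → t6 * x * t6⁻¹ = x⁻¹ → (B6 * x) ^ 5 = 1 → B6 * x ≠ 1 →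
    (B6⁻¹ * x) ^ 5 = 1 → e6 (swap 0 1 * swap 2 3) = x * t6 ∨ e6 (swap 0 1 * swap 2 3) = t6 * x := by
  decide +kernel

/-! ### Five points -/

/-- The alternating group. -/
abbrev A5 := alternatingGroup (Fin 5)

/-- An even permutation. -/
def e5 (σ : Perm (Fin 5)) (h : Perm.sign σ = 1 := by decide +kernel) : A5 := ⟨σ, Perm.mem_alternatingGroup.2 h⟩

def B5 : A5 := e5 (swap 0 1 * swap 1 2)
def Q5 : A5 := e5 (swap 2 3 * swap 3 4)

def g5 : Fin (5 - 2) → A5 := ![B5, e5 (swap 0 1 * swap 2 3), e5 (swap 0 1 * swap 3 4)]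

theorem g5_rels : ∀ r ∈ mrels (5 - 2), FreeGroup.lift g5 r = 1 :=
  mrels_of g5 (by decide +kernel) (by decide +kernel) (by decide +kernel) (by decide +kernel)

theorem words5 : g5 0 = B5 ∧ g5 1 = B5 * Q5 * B5 * B5 * Q5 * Q5 * B5 ∧
    g5 2 = B5 * Q5 * B5 * B5 * Q5 * Q5 * B5 * Q5 := by decide +kernel

theorem cand_five : ∀ q : A5, q ^ 3 = 1 → q ≠ 1 → (B5 * q) ^ 5 = 1 → B5 * q ≠ 1 → ∃ i : Fin 3,
    q = B5 ^ (i : ℕ) * Q5 * (B5 ^ (i : ℕ))⁻¹ ∨ q = B5 ^ (i : ℕ) * Q5⁻¹ * (B5 ^ (i : ℕ))⁻¹ := by decide +kernel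

theorem q5_spec : Q5 ^ 3 = 1 ∧ Q5 ≠ 1 ∧ (B5 * Q5) ^ 5 = 1 ∧ B5 * Q5 ≠ 1 ∧ B5 ^ 3 = 1 ∧ Q5 ≠ Q5⁻¹ := by
  decide +kernel

/-- An automorphism of order dividing three fixing a three-cycle. -/
theorem auto_five (γ : A5 ≃* A5) (hB : γ B5 = B5) (h3 : ∀ x, γ (γ (γ x)) = x) :
    ∃ i : Fin 3, ∀ x, γ x = B5 ^ (i : ℕ) * x * (B5 ^ (i : ℕ))⁻¹ := by
  obtain ⟨q1, q2, q3, q4, q5, q6⟩ := q5_spec
  obtain ⟨i, hi | hi⟩ := cand_five (γ Q5) (by rw [← map_pow, q1, map_one]) (fun e => q2 (γ.map_eq_one_iff.1 e))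
    (by rw [← hB, ← map_mul, ← map_pow, q3, map_one])
    (by rw [← hB, ← map_mul]; exact fun e => q4 (γ.map_eq_one_iff.1 e))
  · refine ⟨i, ?_⟩
    obtain ⟨c, hc⟩ : ∃ c, c = B5 ^ (i : ℕ) := ⟨_, rfl⟩
    rw [← hc] at hi ⊢
    have hcB : c * B5 * c⁻¹ = B5 := by
      rw [hc, ((Commute.refl B5).pow_left _).eq, mul_inv_cancel_right]
    obtain ⟨w0, w1, w2⟩ := words5
    have h := moore_top (by norm_num) g5 0 (by decide +kernel) g5_rels
      (γ.toMonoidHom.eqLocus (MulAut.conj c).toMonoidHom) (fun j => by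
        have hB' : γ B5 = c * B5 * c⁻¹ := hB.trans hcB.symm
        show γ (g5 j) = c * g5 j * c⁻¹
        fin_cases j
        · show γ (g5 0) = c * g5 0 * c⁻¹
          rw [w0, hB']
        · show γ (g5 1) = c * g5 1 * c⁻¹
          rw [w1]; simp only [map_mul, hB', hi]; group
        · show γ (g5 2) = c * g5 2 * c⁻¹
          rw [w2]; simp only [map_mul, hB', hi]; group)
    exact fun x => (h ▸ mem_top x : x ∈ γ.toMonoidHom.eqLocus (MulAut.conj c).toMonoidHom)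
  · exfalso
    have h := h3 Q5
    rw [hi] at h
    simp only [map_mul, map_inv, map_pow, hB, hi] at h
    have key : ∀ i : Fin 3, B5 ^ (i : ℕ) * (B5 ^ (i : ℕ) * (B5 ^ (i : ℕ) * Q5⁻¹ * (B5 ^ (i : ℕ))⁻¹) *
        (B5 ^ (i : ℕ))⁻¹) * (B5 ^ (i : ℕ))⁻¹ ≠ Q5 := by decide +kernel
    refine key i (Eq.trans ?_ h)
    group

end Cfsg.Lib.AltNineLocal
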