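import Cfsg.Agent.LocalThree.AltNineLocal.Model
import Cfsg.Agent.LocalThree.AltNineLocal.Six
import Cfsg.Agent.LocalThree.AltNineLocal.LocData

/-!
Coordinates on the normaliser of a three-cycle in the alternating group of degree nine.
-/

set_option autoImplicit false
set_option synthInstance.maxSize 4096
set_option maxRecDepth 100000
set_option maxHeartbeats 1000000

namespace Cfsg.Lib.AltNineLocal

open Equiv Subgroup Cfsg.Lib.Monomial

abbrev Pr := Perm (Fin 3) × Perm (Fin 6)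

/-- The pairs with equal signs. -/
def L9 : Subgroup Pr :=
  (((Equiv.Perm.sign).comp (MonoidHom.fst (Perm (Fin 3)) (Perm (Fin 6)))) *
    ((Equiv.Perm.sign).comp (MonoidHom.snd (Perm (Fin 3)) (Perm (Fin 6))))).ker

theorem mem_L9 {x : Pr} : x ∈ L9 ↔ Perm.sign x.1 * Perm.sign x.2 = 1 := Iff.rfl

theorem sign_eq (p : L9) : Perm.sign (p : Pr).2 = Perm.sign (p : Pr).1 := by
  have h := mem_L9.1 p.2
  rcases Int.units_eq_one_or (Perm.sign (p : Pr).1) with e | e <;> rw [e] at h ⊢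
  · simpa using h
  · rcases Int.units_eq_one_or (Perm.sign (p : Pr).2) with e' | e' <;> rw [e'] at h ⊢
    exact absurd h (by decide)

/-- An element. -/
def el (a : Perm (Fin 3)) (b : Perm (Fin 6)) (h : Perm.sign a * Perm.sign b = 1 := by decide +kernel) : L9 :=
  ⟨(a, b), h⟩

abbrev c3 : Perm (Fin 3) := swap 0 1 * swap 1 2

def aL : L9 := el c3 1
def bL : L9 := el 1 B6
def cL : L9 := el 1 C6
def rL : L9 := el 1 R6
def tL : L9 := el (swap 0 1) (swap 0 1)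

/-- The shift by three. -/
def sh : Mon := ⟨0, 12⟩
/-- An odd element. -/
def tK : Mon := ⟨4, 3⟩

/-- The embedding attached to the first block. -/
def em0 : L9 →* Perm (Fin 9) :=
  (((finSumFinEquiv (m := 3) (n := 6)).permCongrHom : Perm (Fin 3 ⊕ Fin 6) ≃* Perm (Fin (3 + 6))).toMonoidHom.comp
    (Perm.sumCongrHom (Fin 3) (Fin 6))).comp L9.subtype

/-- The embedding attached to a block. -/
def em (i : Fin 3) : L9 →* Perm (Fin 9) :=
  (MulAut.conj (toNine sh ^ (i : ℕ))).toMonoidHom.comp em0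

theorem em_apply (i : Fin 3) (p : L9) : em i p = toNine sh ^ (i : ℕ) * em0 p * (toNine sh ^ (i : ℕ))⁻¹ := rfl

theorem em0_inj : Function.Injective em0 :=
  ((finSumFinEquiv (m := 3) (n := 6)).permCongrHom : Perm (Fin 3 ⊕ Fin 6) ≃* Perm (Fin (3 + 6))).injective.comp
    (Perm.sumCongrHom_injective.comp L9.subtype_injective)

theorem em_inj (i : Fin 3) : Function.Injective (em i) :=
  (MulAut.conj (toNine sh ^ (i : ℕ))).injective.comp em0_inj

theorem em0_sign (p : L9) : Perm.sign (em0 p) = 1 := by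
  show Perm.sign ((finSumFinEquiv (m := 3) (n := 6)).permCongr (Perm.sumCongr (p : Pr).1 (p : Pr).2)) = 1
  rw [Perm.sign_permCongr, Perm.sign_sumCongr]
  exact p.2

theorem em0_low (p : L9) (x : Fin 9) (hx : x.val < 3) : (em0 p x).val < 3 := by
  obtain ⟨k, rfl⟩ : ∃ k : Fin 3, finSumFinEquiv (m := 3) (n := 6) (Sum.inl k) = x := ⟨⟨x, hx⟩, Fin.ext rfl⟩
  show ((finSumFinEquiv (m := 3) (n := 6)).permCongr (Perm.sumCongr (p : Pr).1 (p : Pr).2)
    (finSumFinEquiv (m := 3) (n := 6) (Sum.inl k))).val < 3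
  rw [Equiv.permCongr_apply, Equiv.symm_apply_apply, Perm.sumCongr_apply, Sum.map_inl, finSumFinEquiv_apply_left]
  exact (((p : Pr).1) k).isLt

/-- The generators in the monomial group. -/
theorem images : (toNine (tv 1) = em0 aL ∧ toNine (tv 3) = em0 bL ∧ toNine (tv 9) = em0 cL) ∧
    toNine ⟨0, 5⟩ = em0 rL ∧ toNine tK = em0 tL := by
  refine ⟨⟨?_, ?_, ?_⟩, ?_, ?_⟩ <;> refine Equiv.ext fun j => ?_ <;> rw [toNine_apply] <;> revert j <;>
    decide +kernel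

theorem tK_spec : tK * tK = 1 ∧ tK * tv 1 * tK⁻¹ = (tv 1)⁻¹ ∧ tK * (tv 3)⁻¹ * tK⁻¹ = tv 3 ∧
    tK * tv 9 * tK⁻¹ = tv 9 := by decide +kernel

/-- The conjugate of the element of order four. -/
theorem twist : ∃ i j : Fin 3, ∃ l : Fin 4,
    swap (0 : Fin 6) 1 * (R6 : Perm (Fin 6)) * (swap (0 : Fin 6) 1)⁻¹ =
      ((B6 ^ (i : ℕ) * C6 ^ (j : ℕ) * R6 ^ (l : ℕ) : A6) : Perm (Fin 6)) ∧
    tK * (tv 3 ^ (i : ℕ) * tv 9 ^ (j : ℕ) * (⟨0, 5⟩ : Mon) ^ (l : ℕ)) * tK⁻¹ = ⟨0, 5⟩ := by decide +kernel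

/-- The stabiliser of the first block. -/
theorem stab_block : ∀ k : Mon, (∀ x : Fin 9, x.val < 3 → (pointMap k x).val < 3) →
    ∃ i j l : Fin 3, ∃ m : Fin 4, ∃ n : Fin 2,
      k = tv 1 ^ (i : ℕ) * tv 3 ^ (j : ℕ) * tv 9 ^ (l : ℕ) * (⟨0, 5⟩ : Mon) ^ (m : ℕ) * tK ^ (n : ℕ) := by
  decide +kernel

theorem c3_facts : (∀ σ τ : Perm (Fin 3), Perm.sign σ = 1 → Perm.sign τ = 1 →
      ((σ * τ) 0).val = ((σ 0).val + (τ 0).val) % 3) ∧
    (∀ σ : Perm (Fin 3), Perm.sign σ = 1 → ((swap 0 1 * σ * swap 0 1 : Perm (Fin 3)) 0).val = (3 - (σ 0).val) % 3) ∧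
    ∀ σ : Perm (Fin 3), Perm.sign σ = 1 → (σ 0).val = 0 → σ = 1 := by decide +kernel

end Cfsg.Lib.AltNineLocal
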