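import Cfsg.Agent.LocalThree.AltNineLocal.Invol
import Cfsg.Agent.InvolCalc.ZStarApps
import Cfsg.Agent.InvolCalc.Dihedral
import Cfsg.Agent.InvolCalc.StronglyEmbedded
import Mathlib.GroupTheory.FixedPointFree

/-!
The copy of the alternating group of degree nine is everything.
-/

set_option autoImplicit false
set_option linter.unusedSectionVars false
set_option synthInstance.maxSize 4096
set_option maxRecDepth 100000
set_option maxHeartbeats 1000000

namespace Cfsg.Lib.AltNineLocal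

open Equiv Subgroup Cfsg.Lib.Monomial

universe u

namespace Big

variable {G : Type u} [Group G] [Finite G] (A : Big G)

include A

theorem map_comm {σ τ : A9} (h : σ * τ = τ * σ) : Commute (A.Φ σ) (A.Φ τ) := by
  show A.Φ σ * A.Φ τ = A.Φ τ * A.Φ σ
  rw [← map_mul, h, map_mul]

theorem Φ_comm_iff {σ τ : A9} : Commute (A.Φ σ) (A.Φ τ) ↔ σ * τ = τ * σ :=
  ⟨fun h => A.Φ_inj (by rw [map_mul, map_mul]; exact h), A.map_comm⟩

theorem range_block_le (i : Fin 3) : (A.f i).range ≤ A.Φ.range := by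
  rintro _ ⟨x, rfl⟩
  exact ⟨emA i x, A.Φ_f i x⟩

theorem Φ_four : A.Φ a9 = A.ψ 0 r1 ∧ A.Φ b9 = A.ψ 0 r2 ∧ A.Φ u9 = A.ψ 2 t6 ∧ A.Φ w9 = A.ψ 2 w2 := by
  obtain ⟨-, -, -, -, -, ha, hb, hu, hw, -⟩ := relations9
  rw [ha, hb, hu, hw, A.Φ_f, A.Φ_f, A.Φ_f, A.Φ_f]
  exact ⟨rfl, rfl, rfl, rfl⟩

theorem u_second_not : ¬ A.Second (A.Φ u9) := A.Φ_four.2.2.1 ▸ A.u_not_second

theorem conj_of_type {σ : A9} (h : T1 (σ : Perm (Fin 9))) : ∃ ρ : A9, ρ * u9 * ρ⁻¹ = σ := by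
  have h2 : σ * σ = 1 := Subtype.ext h.1
  have h1 : σ ≠ 1 := fun e => by
    have h' := h.2
    rw [e] at h'
    simp at h'
  rcases classify σ h2 h1 with ⟨-, hc⟩ | ⟨hT, -⟩
  · exact isConj_iff.1 hc.symm
  · exact absurd h hT

theorem second_d : A.Second (A.Φ d9) := by
  have h0 : A.Second (A.Φ d0) := by
    refine ⟨1, ?_⟩
    rw [one_mul, inv_one, mul_one, show A.tr 4 = A.Φ ⟨toNine (tv 4), (toNine_mem _).1⟩ from (A.Φ_mon (tv 4) _).symm,
      ← map_mul, ← map_mul]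
    refine congrArg A.Φ (Subtype.ext (Equiv.ext fun x => ?_))
    show toNine (tv 4) ((d0 : Perm (Fin 9)) x) = (d0 : Perm (Fin 9)) (toNine (tv 4) x)
    rw [toNine_apply, toNine_apply]
    revert x
    decide +kernel
  obtain ⟨hd, hd1⟩ : d0 * d0 = 1 ∧ d0 ≠ 1 := by decide +kernel
  rcases classify d0 hd hd1 with ⟨hT, -⟩ | ⟨-, hc⟩
  · exact absurd hT facts9.2.2.2.2.1
  obtain ⟨ρ, hρ⟩ := isConj_iff.1 hc
  have := A.second_conj (A.Φ ρ) h0
  rwa [← map_inv, ← map_mul, ← map_mul, hρ] at this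

/-- The type of an involution of the copy is an invariant of the group. -/
theorem type_of_conj {σ : A9} {g : G} (h : g * A.Φ u9 * g⁻¹ = A.Φ σ) : T1 (σ : Perm (Fin 9)) := by
  have huu : u9 * u9 = 1 ∧ u9 ≠ 1 := by decide +kernel
  have hσ2 : σ * σ = 1 := A.Φ_inj (by rw [map_mul, map_one, ← h, conj_mul, ← map_mul, huu.1, map_one]; group)
  have hσ1 : σ ≠ 1 := fun e => huu.2 (A.Φ_inj (by rw [e, map_one, conj_eq_one_iff] at h; rw [h, map_one]))
  rcases classify σ hσ2 hσ1 with ⟨hT, -⟩ | ⟨-, hc⟩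
  · exact hT
  exfalso
  obtain ⟨k, hk⟩ := isConj_iff.1 hc
  refine A.u_second_not ?_
  have := A.second_conj ((A.Φ k * g)⁻¹) A.second_d
  rwa [show A.Φ d9 = A.Φ k * g * A.Φ u9 * (A.Φ k * g)⁻¹ by
      rw [show A.Φ k * g * A.Φ u9 * (A.Φ k * g)⁻¹ = A.Φ k * (g * A.Φ u9 * g⁻¹) * (A.Φ k)⁻¹ by group,
        h, ← map_inv, ← map_mul, ← map_mul, hk],
    show (A.Φ k * g)⁻¹ * (A.Φ k * g * A.Φ u9 * (A.Φ k * g)⁻¹) * (A.Φ k * g)⁻¹⁻¹ = A.Φ u9 by group] at this

theorem type_transfer {σ τ : A9} {g : G} (hσ : T1 (σ : Perm (Fin 9))) (h : g * A.Φ σ * g⁻¹ = A.Φ τ) :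
    T1 (τ : Perm (Fin 9)) := by
  obtain ⟨ρ, rfl⟩ := A.conj_of_type hσ
  refine A.type_of_conj (g := g * A.Φ ρ) ?_
  rw [← h, map_mul, map_mul, map_inv]
  group

/-- Centralisers of conjugates of the four-group lie in the copy. -/
theorem pair_mem {h σ τ : A9} (hσ : h * a9 * h⁻¹ = σ) (hτ : h * b9 * h⁻¹ = τ) {x : G} (h1 : Commute x (A.Φ σ))
    (h2 : Commute x (A.Φ τ)) : x ∈ A.Φ.range := by
  have key : ∀ ω ω' : A9, h * ω * h⁻¹ = ω' → Commute x (A.Φ ω') → Commute ((A.Φ h)⁻¹ * x * A.Φ h) (A.Φ ω) := by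
    intro ω ω' e hcomm
    subst e
    show (A.Φ h)⁻¹ * x * A.Φ h * A.Φ ω = A.Φ ω * ((A.Φ h)⁻¹ * x * A.Φ h)
    calc (A.Φ h)⁻¹ * x * A.Φ h * A.Φ ω = (A.Φ h)⁻¹ * (x * A.Φ (h * ω * h⁻¹)) * A.Φ h := by
          rw [map_mul, map_mul, map_inv]; group
      _ = _ := by rw [hcomm.eq, map_mul, map_mul, map_inv]; group
  obtain ⟨-, -, hall⟩ := A.cent_R.resolve_left A.cent_R_big
  have hk1 := key _ _ hσ h1
  have hk2 := key _ _ hτ h2
  rw [A.Φ_four.1] at hk1
  rw [A.Φ_four.2.1] at hk2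
  obtain ⟨k, hk, y, hy, e⟩ := hall _ (A.centR.2 ⟨hk1.eq, hk2.eq⟩)
  obtain ⟨τ', -, rfl⟩ := A.mem_R.1 hk
  have hmem : (A.Φ h)⁻¹ * x * A.Φ h ∈ A.Φ.range := e ▸ mul_mem (A.range_block_le 0 ⟨sndX τ', rfl⟩) (A.range_block_le 2 hy)
  have hr : A.Φ h ∈ A.Φ.range := ⟨h, rfl⟩
  have := mul_mem (mul_mem hr hmem) (inv_mem hr)
  rwa [show A.Φ h * ((A.Φ h)⁻¹ * x * A.Φ h) * (A.Φ h)⁻¹ = x by group] at this

theorem pair_V {x : G} (h1 : Commute x (A.Φ u9)) (h2 : Commute x (A.Φ v9)) : x ∈ A.Φ.range :=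
  A.pair_mem relations9.1 relations9.2.1 h1 h2

theorem pair_E {x : G} (h1 : Commute x (A.Φ e91)) (h2 : Commute x (A.Φ e92)) : x ∈ A.Φ.range :=
  A.pair_mem relations9.2.2.1 relations9.2.2.2.1 h1 h2

theorem cent_c_le : centralizer ({A.Φ c9} : Set G) ≤ A.Φ.range := by
  intro x hx
  rw [mem_centralizer_singleton_iff, ← relations9.2.2.2.2.1, map_mul, map_mul, map_inv, A.Φ_f] at hx
  have h := A.range_block_le 2 (A.f_norm (i := 2) (g := (A.Φ hC)⁻¹ * x * A.Φ hC) (Or.inl (mul_inv_eq_iff_eq_mul.2 (by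
    calc (A.Φ hC)⁻¹ * x * A.Φ hC * A.f 2 aL
        = (A.Φ hC)⁻¹ * (x * (A.Φ hC * A.f 2 aL * (A.Φ hC)⁻¹)) * A.Φ hC := by group
      _ = _ := by rw [hx]; group))))
  have hr : A.Φ hC ∈ A.Φ.range := ⟨hC, rfl⟩
  have := mul_mem (mul_mem hr h) (inv_mem hr)
  rwa [show A.Φ hC * ((A.Φ hC)⁻¹ * x * A.Φ hC) * (A.Φ hC)⁻¹ = x by group] at this

/-- The centraliser of the other four-group has no large simple section. -/
theorem no_fives {p q : G} (hp : p ∈ centralizer (A.W : Set G)) (hq : q ∈ centralizer (A.W : Set G))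
    (hp5 : p ^ 5 = 1) (hq5 : q ^ 5 = 1) (h3 : (p * q) ^ 3 = 1) : p * q = 1 := by
  obtain ⟨K, hKC, -, hK, hKn, -, hcase⟩ := A.quadW.dichotomy (A.seven_a 2)
  change K ≤ centralizer (A.W : Set G) at hKC
  obtain ⟨C, hCdef⟩ : ∃ C, C = centralizer (A.W : Set G) := ⟨_, rfl⟩
  rw [← hCdef] at hKC hp hq
  have hKn' : ∀ g ∈ C, ∀ k ∈ K, g * k * g⁻¹ ∈ K := fun g hg => hKn g (show g ∈ centralizer (A.W : Set G) from hCdef ▸ hg)
  haveI hN : (K.subgroupOf C).Normal := ⟨fun k hk g => hKn' g g.2 k hk⟩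
  have hcard : Nat.card (C ⧸ K.subgroupOf C) * Nat.card K = Nat.card C := by
    rw [Subgroup.card_eq_card_quotient_mul_card_subgroup (K.subgroupOf C),
      Nat.card_congr (subgroupOfEquivOfLe hKC).toEquiv]
  rcases hcase with h | ⟨h60, i, hi⟩
  · change Nat.card (centralizer (A.W : Set G)) ∣ 6 * Nat.card K at h
    rw [← hCdef, ← hcard] at h
    have h6 : Nat.card (C ⧸ K.subgroupOf C) ∣ 6 := Nat.dvd_of_mul_dvd_mul_right Nat.card_pos h
    have hin : ∀ g ∈ C, g ^ 5 = 1 → g ∈ K := by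
      intro g hg h5
      refine (QuotientGroup.eq_one_iff (N := K.subgroupOf C) (⟨g, hg⟩ : C)).1 (orderOf_eq_one_iff.1 ?_)
      refine Nat.eq_one_of_dvd_coprimes (show Nat.Coprime 5 6 by norm_num) (orderOf_dvd_of_pow_eq_one ?_)
        ((_root_.orderOf_dvd_natCard _).trans h6)
      rw [← QuotientGroup.mk_pow, show (⟨g, hg⟩ : C) ^ 5 = 1 from Subtype.ext h5, QuotientGroup.mk_one]
    refine orderOf_eq_one_iff.1 (Nat.eq_one_of_dvd_coprimes hK ?_ (orderOf_dvd_of_pow_eq_one h3))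
    exact Subgroup.orderOf_dvd_natCard K (mul_mem (hin p hp hp5) (hin q hq hq5))
  · exfalso
    change Nat.card (centralizer (A.W : Set G)) = 60 * Nat.card K at h60
    obtain ⟨x, hx⟩ : ∃ x, x = A.f 2 aL ^ (i : ℕ) * A.ψ 2 sW := ⟨_, rfl⟩
    obtain ⟨D, hD⟩ : ∃ D : Subgroup C, D = (centralizer ({x} : Set G)).subgroupOf C := ⟨_, rfl⟩
    have hsurj : Function.Surjective ((QuotientGroup.mk' (K.subgroupOf C)).comp D.subtype) := by
      intro z
      obtain ⟨g, rfl⟩ := QuotientGroup.mk_surjective z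
      obtain ⟨k, hk, y, hy, hyx, hg⟩ := hi g (show (g : G) ∈ centralizer (A.W : Set G) from hCdef ▸ g.2)
      change y ∈ centralizer (A.W : Set G) at hy
      rw [← hCdef] at hy
      change Commute y (A.f 2 aL ^ (i : ℕ) * A.ψ 2 sW) at hyx
      rw [← hx] at hyx
      refine ⟨⟨⟨y, hy⟩, hD ▸ mem_subgroupOf.2 (mem_centralizer_singleton_iff.2 hyx.eq)⟩, ?_⟩
      refine QuotientGroup.eq.2 ?_
      show y⁻¹ * (g : G) ∈ K
      rw [hg]
      have := hKn' _ (inv_mem hy) k hk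
      rwa [inv_inv, mul_assoc] at this
    have hq60 : Nat.card (C ⧸ K.subgroupOf C) = 60 := by
      rw [← hCdef, ← hcard] at h60
      exact Nat.eq_of_mul_eq_mul_right Nat.card_pos h60
    have h5D := Subgroup.card_dvd_of_surjective _ hsurj
    rw [hq60] at h5D
    have h5x : 60 ∣ Nat.card (centralizer ({x} : Set G)) := by
      refine h5D.trans ?_
      refine Dvd.dvd.trans (dvd_of_eq (Nat.card_congr (Equiv.refl D))) ?_
      rw [hD, ← Subgroup.card_map_of_injective C.subtype_injective]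
      exact Subgroup.card_dvd_of_le (by rintro _ ⟨z, hz, rfl⟩; exact mem_subgroupOf.1 hz)
    obtain ⟨v, hv, he⟩ := big_lines' i
    rw [hx, A.sW_eq i, he] at h5x
    exact absurd (h5x.trans (A.card_cent_big hv)) (by norm_num)

/-- The normaliser of the four-group lies in the copy. -/
theorem normal_four_mem {g : G} (hu : g * A.Φ u9 * g⁻¹ = A.Φ u9)
    (hv : g * A.Φ v9 * g⁻¹ = A.Φ v9 ∨ g * A.Φ v9 * g⁻¹ = A.Φ (u9 * v9)) : g ∈ A.Φ.range := by
  obtain ⟨hw, hwu⟩ := swap_uv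
  rcases hv with e | e
  · exact A.pair_V (mul_inv_eq_iff_eq_mul.1 hu) (mul_inv_eq_iff_eq_mul.1 e)
  · have hw' : A.Φ w9 ∈ A.Φ.range := ⟨w9, rfl⟩
    refine (mul_mem_cancel_left (inv_mem hw')).1 (A.pair_V (mul_inv_eq_iff_eq_mul.1 ?_) (mul_inv_eq_iff_eq_mul.1 ?_))
    · rw [show (A.Φ w9)⁻¹ * g * A.Φ u9 * ((A.Φ w9)⁻¹ * g)⁻¹ = (A.Φ w9)⁻¹ * (g * A.Φ u9 * g⁻¹) * A.Φ w9 by group, hu,
        ← map_inv, ← map_mul, ← map_mul, mul_assoc, ← hwu.eq, inv_mul_cancel_left]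
    · rw [show (A.Φ w9)⁻¹ * g * A.Φ v9 * ((A.Φ w9)⁻¹ * g)⁻¹ = (A.Φ w9)⁻¹ * (g * A.Φ v9 * g⁻¹) * A.Φ w9 by group, e,
        ← hw, map_mul, map_mul, map_inv]
      group

/-- A conjugate of `v` under the centraliser of `u` normalising the four-group is `v` or `uv`. -/
theorem four_unique {y : G} (hy : y * A.Φ u9 * y⁻¹ = A.Φ u9) {τ : A9} (hτ : y * A.Φ v9 * y⁻¹ = A.Φ τ) :
    τ = v9 ∨ τ = u9 * v9 := by
  obtain ⟨-, hTv, hTuv, -⟩ := facts9
  obtain ⟨-, -, -, -, -, -, -, -, -, -, -, -, -, -, -, -, huv, -, -, huw⟩ := relations9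
  have hτu : τ * u9 = u9 * τ := A.Φ_inj (by
    rw [map_mul, map_mul, ← hτ, ← hy, conj_mul, conj_mul, (A.map_comm huv.eq).eq])
  have h1 := A.type_transfer hTv hτ
  have h2 : T1 ((τ * u9 : A9) : Perm (Fin 9)) := A.type_transfer (σ := u9 * v9) hTuv (g := y) (by
    rw [hτu, map_mul, map_mul, ← hτ, ← hy, conj_mul, hy])
  obtain ⟨⟨p, q⟩, hp, hpu⟩ := split_u9 hτu
  have hsg : Perm.sign p * Perm.sign q = 1 := by
    rw [← Perm.sign_sumCongr, ← Perm.sign_permCongr placeU]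
    exact (congrArg Perm.sign hp).symm.trans (Perm.mem_alternatingGroup.1 τ.2)
  rcases iso_cases p hpu q hsg (hp ▸ h1) (by rw [← hp]; exact h2) with e | e | ⟨r, hr, s, hs, hcase⟩
  · exact Or.inl (Subtype.ext (hp.trans e))
  · exact Or.inr (Subtype.ext (hp.trans e))
  exfalso
  obtain ⟨hru, hrs⟩ := iso_conj r hr
  obtain ⟨ρ, hρ⟩ : ∃ ρ : A9, (ρ : Perm (Fin 9)) = bl (r, s) := ⟨⟨bl (r, s), Perm.mem_alternatingGroup.2 (by
    show Perm.sign (placeU.permCongr (Perm.sumCongr r s)) = 1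
    rw [Perm.sign_permCongr, Perm.sign_sumCongr, hrs, hs, one_mul])⟩, rfl⟩
  obtain ⟨y', hy'⟩ : ∃ y', y' = A.Φ ρ * y := ⟨_, rfl⟩
  have hu' : y' * A.Φ u9 * y'⁻¹ = A.Φ u9 := by
    have hρu : ρ * u9 = u9 * ρ := Subtype.ext (by
      rw [Subgroup.coe_mul, Subgroup.coe_mul, hρ, u9_bl, ← map_mul, ← map_mul, Prod.mk_mul_mk, Prod.mk_mul_mk, hru,
        one_mul, mul_one])
    rw [hy', show A.Φ ρ * y * A.Φ u9 * (A.Φ ρ * y)⁻¹ = A.Φ ρ * (y * A.Φ u9 * y⁻¹) * (A.Φ ρ)⁻¹ by group, hy,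
      (A.map_comm hρu).eq, mul_inv_cancel_right]
  have hv' : y' * A.Φ v9 * y'⁻¹ = A.Φ (ρ * τ * ρ⁻¹) := by
    rw [hy', show A.Φ ρ * y * A.Φ v9 * (A.Φ ρ * y)⁻¹ = A.Φ ρ * (y * A.Φ v9 * y⁻¹) * (A.Φ ρ)⁻¹ by group, hτ,
      map_mul, map_mul, map_inv]
  have hw : ρ * τ * ρ⁻¹ = w9 ∨ ρ * τ * ρ⁻¹ = u9 * w9 := by
    refine hcase.imp (fun e => Subtype.ext ?_) (fun e => Subtype.ext ?_) <;>
      rw [Subgroup.coe_mul, Subgroup.coe_mul, Subgroup.coe_inv, hρ, hp, e] <;> rfl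
  obtain ⟨P, -, Q, -, hP5, hQ5, h3, hne, hPu, hPv, hQu, hQv⟩ := fives
  have hin : ∀ ω : A9, ω * u9 = u9 * ω → ω * v9 = v9 * ω → y' * A.Φ ω * y'⁻¹ ∈ centralizer (A.W : Set G) := by
    intro ω h1 h2
    have c1 : Commute (y' * A.Φ ω * y'⁻¹) (A.Φ u9) := by
      show _ = _
      rw [← hu', conj_mul, conj_mul, (A.map_comm h1).eq]
    have c2 : Commute (y' * A.Φ ω * y'⁻¹) (A.Φ (ρ * τ * ρ⁻¹)) := by
      show _ = _
      rw [← hv', conj_mul, conj_mul, (A.map_comm h2).eq]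
    refine A.centW.2 ⟨A.Φ_four.2.2.1 ▸ c1.eq, A.Φ_four.2.2.2 ▸ Commute.eq ?_⟩
    rcases hw with e | e <;> rw [e] at c2
    · exact c2
    · have := c1.mul_right c2
      rwa [← map_mul, ← mul_assoc, show u9 * u9 = 1 by decide +kernel, one_mul] at this
  have hone := A.no_fives (hin P hPu hPv) (hin Q hQu hQv)
    (by rw [conj_pow, ← map_pow, hP5, map_one]; group) (by rw [conj_pow, ← map_pow, hQ5, map_one]; group)
    (by rw [conj_mul, ← map_mul, conj_pow, ← map_pow, h3, map_one]; group)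
  rw [conj_mul, ← map_mul, conj_eq_one_iff] at hone
  exact hne (A.Φ_inj (hone.trans (map_one A.Φ).symm))

set_option maxHeartbeats 4000000 in
/-- The centraliser of `u` lies in the copy. -/
theorem cent_u_le : centralizer ({A.Φ u9} : Set G) ≤ A.Φ.range := by
  classical
  set Y := centralizer ({A.Φ u9} : Set G) with hY
  obtain ⟨hTu, hTv, hTuv, -, -, -, -, hT1, hT2, hnb, hnc, -⟩ := facts9
  obtain ⟨-, -, -, -, -, -, -, -, -, hc3, hzb, hzc, hbu, hcu, hbc, hzu, huv, -⟩ := relations9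
  have memY : ∀ {σ : A9}, σ * u9 = u9 * σ → A.Φ σ ∈ Y := fun h => mem_centralizer_singleton_iff.2 (A.map_comm h).eq
  let uY : Y := ⟨A.Φ u9, memY rfl⟩
  have hucen : ∀ a : Y, Commute a uY := fun a => Subtype.ext (mem_centralizer_singleton_iff.1 a.2)
  haveI hZn : (zpowers uY).Normal := ⟨fun a ha g => by
    obtain ⟨k, rfl⟩ := mem_zpowers_iff.1 ha
    rw [((hucen g).zpow_right k).eq, mul_inv_cancel_right]
    exact ha⟩
  have hu2 : uY ^ 2 = 1 := Subtype.ext (by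
    show A.Φ u9 ^ 2 = 1
    rw [← map_pow, show u9 ^ 2 = 1 by decide +kernel, map_one])
  have hZmem : ∀ a : Y, a ∈ zpowers uY → (a : G) = 1 ∨ (a : G) = A.Φ u9 := by
    intro a ha
    obtain ⟨k, rfl⟩ := mem_zpowers_iff.1 ha
    rcases Int.even_or_odd k with ⟨j, rfl⟩ | ⟨j, rfl⟩
    · exact Or.inl (congrArg Subtype.val (show uY ^ (j + j) = 1 by
        rw [← two_mul, zpow_mul, zpow_two, ← pow_two, hu2, one_zpow]))
    · exact Or.inr (congrArg Subtype.val (show uY ^ (2 * j + 1) = uY by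
        rw [zpow_add_one, zpow_mul, zpow_two, ← pow_two, hu2, one_zpow, one_mul]))
  let π : Y →* Y ⧸ zpowers uY := QuotientGroup.mk' _
  have hπ : ∀ a b : Y, π a = π b → (b : G) = a ∨ (b : G) = (a : G) * A.Φ u9 := by
    intro a b h
    rcases hZmem _ (QuotientGroup.eq.1 h) with e | e
    · exact Or.inl (inv_mul_eq_one.1 e).symm
    · exact Or.inr (inv_mul_eq_iff_eq_mul.1 e)
  let el9 : ∀ σ : A9, σ * u9 = u9 * σ → Y := fun σ h => ⟨A.Φ σ, memY h⟩
  let vY : Y := el9 v9 huv.symm.eq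
  let bY : Y := el9 e91 hbu.eq
  let cY : Y := el9 e92 hcu.eq
  let zY : Y := el9 c9 hzu.eq
  -- elements of the copy conjugating `v` to itself modulo `u`
  have hnormv : ∀ y : Y, π (y * vY * y⁻¹) = π vY → (y : G) ∈ A.Φ.range := by
    intro y h
    refine A.normal_four_mem ?_ ?_
    · rw [mem_centralizer_singleton_iff.1 y.2, mul_inv_cancel_right]
    · rcases hπ _ _ h.symm with e | e
      · exact Or.inl e
      · refine Or.inr (e.trans ?_)
        show A.Φ v9 * A.Φ u9 = A.Φ (u9 * v9)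
        rw [← map_mul, huv.symm.eq]
  have hexact : ∀ (σ : A9) (hσ : σ * u9 = u9 * σ), T1 (σ : Perm (Fin 9)) → ¬ T1 ((σ * u9 : A9) : Perm (Fin 9)) →
      ∀ y : Y, π (y * el9 σ hσ * y⁻¹) = π (el9 σ hσ) → Commute (y : G) (A.Φ σ) := by
    intro σ hσ hT hnT y h
    rcases hπ _ _ h.symm with e | e
    · exact mul_inv_eq_iff_eq_mul.1 e
    · refine absurd (A.type_transfer hT (g := (y : G)) (τ := σ * u9) ?_) hnT
      rw [map_mul]
      exact e
  -- the image of `v` is isolated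
  have hv1 : π vY ≠ 1 := by
    intro h
    rcases hπ _ _ (h.trans (map_one π).symm) with e | e
    · exact absurd (A.Φ_inj ((map_one A.Φ).trans e)) (by decide +kernel)
    · rw [show ((vY : Y) : G) = A.Φ v9 from rfl, ← map_mul] at e
      exact absurd (A.Φ_inj ((map_one A.Φ).trans e)) (by decide +kernel)
  have hiso : Cfsg.IsIsolatedInvolution (π vY) := by
    refine ⟨orderOf_eq_prime (by
      rw [← map_pow, show vY ^ 2 = 1 from Subtype.ext (by
        show A.Φ v9 ^ 2 = 1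
        rw [← map_pow, show v9 ^ 2 = 1 by decide +kernel, map_one]), map_one]) hv1, fun g hg => ?_⟩
    obtain ⟨y, rfl⟩ := QuotientGroup.mk_surjective g
    set w := y * vY * y⁻¹ with hw
    have hcw : π (w * vY * w⁻¹) = π vY := by
      rw [map_mul, map_mul, map_inv, mul_inv_eq_iff_eq_mul]
      exact hg.symm.eq
    obtain ⟨τ, hτ⟩ := hnormv w hcw
    have hy : (y : G) * A.Φ u9 * (y : G)⁻¹ = A.Φ u9 := by
      rw [mem_centralizer_singleton_iff.1 y.2, mul_inv_cancel_right]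
    show π w = π vY
    rcases A.four_unique hy (τ := τ) (by rw [hτ]; rfl) with e | e <;> rw [e] at hτ
    · exact congrArg π (Subtype.ext hτ.symm)
    · refine (QuotientGroup.eq.2 ?_)
      rw [show w⁻¹ * vY = uY from Subtype.ext (by
        show (w : G)⁻¹ * A.Φ v9 = A.Φ u9
        rw [← hτ, ← map_inv, ← map_mul, show (u9 * v9)⁻¹ * v9 = u9 by decide +kernel])]
      exact mem_zpowers _
  set O := Cfsg.pPrimeCore 2 (Y ⧸ zpowers uY) with hO
  have hOodd : Odd (Nat.card O) := Cfsg.Lib.ZStarApps.odd_card_pPrimeCore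
  have hOn : O.Normal := inferInstance
  have hodd2 : ∀ o ∈ O, o * o = 1 → o = 1 := by
    intro o ho h
    have h1 : orderOf o ∣ 2 := orderOf_dvd_of_pow_eq_one (by rw [pow_two, h])
    have h2 : Odd (orderOf o) := hOodd.of_dvd_nat (orderOf_mk o ho ▸ _root_.orderOf_dvd_natCard (⟨o, ho⟩ : O))
    rcases (Nat.dvd_prime Nat.prime_two).1 h1 with e | e
    · exact orderOf_eq_one_iff.1 e
    · rw [e] at h2; exact absurd h2 (by decide)
  -- nothing of the copy survives in the core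
  let ι : A5 →* Y := (A.Φ.comp alt5).codRestrict Y fun q => memY (alt5_comm q)
  have hN5 : O.comap (π.comp ι) = ⊥ := by
    haveI : IsSimpleGroup A5 := alternatingGroup.isSimpleGroup (by simp)
    refine (hOn.comap (π.comp ι)).eq_bot_or_eq_top.resolve_right fun h => ?_
    obtain ⟨q, hq2, hq⟩ := alt5_invol
    have h1 := hodd2 (π (ι q)) (h.ge (mem_top q)) (by rw [← map_mul, ← map_mul, hq2, map_one, map_one])
    rcases hπ _ _ (h1.trans (map_one π).symm) with e | e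
    · rw [show ((ι q : Y) : G) = A.Φ (alt5 q) from rfl, hq] at e
      exact absurd (A.Φ_inj ((map_one A.Φ).trans e)) (by decide +kernel)
    · rw [show ((ι q : Y) : G) = A.Φ (alt5 q) from rfl, hq, ← map_mul] at e
      exact absurd (A.Φ_inj ((map_one A.Φ).trans e)) (by decide +kernel)
  have hsmall : ∀ y : Y, (y : G) ∈ A.Φ.range → π y ∈ O → π y = 1 := by
    intro y hyH hyO
    obtain ⟨σ, hσ⟩ := hyH
    have hσu : σ * u9 = u9 * σ :=
      A.Φ_comm_iff.1 (hσ ▸ (mem_centralizer_singleton_iff.1 y.2 : Commute (y : G) (A.Φ u9)))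
    obtain ⟨q, hq⟩ := pow_four hσu
    have he : ι q = y ^ 4 := Subtype.ext (by
      show A.Φ (alt5 q) = (y : G) ^ 4
      rw [← hq, map_pow, hσ])
    have hq1 : q = 1 := mem_bot.1 (hN5 ▸ (show q ∈ O.comap (π.comp ι) from by
      rw [mem_comap, MonoidHom.comp_apply, he, map_pow]; exact pow_mem hyO 4))
    have h4 : π y ^ 4 = 1 := by rw [← map_pow, ← he, hq1, map_one, map_one]
    refine orderOf_eq_one_iff.1 ?_
    have h2 : Odd (orderOf (π y)) := hOodd.of_dvd_nat (orderOf_mk _ hyO ▸ _root_.orderOf_dvd_natCard (⟨π y, hyO⟩ : O))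
    exact Nat.eq_one_of_dvd_coprimes (show Nat.Coprime (2 ^ 2) (orderOf (π y)) from (Nat.coprime_two_left.2 h2).pow_left 2)
      (orderOf_dvd_of_pow_eq_one h4) dvd_rfl
  -- conjugation on the core
  have hconjπ : ∀ (a : Y) (y : Y), π a * π y * (π a)⁻¹ = π y → π (y * a * y⁻¹) = π a := by
    intro a y h
    rw [map_mul, map_mul, map_inv, mul_inv_eq_iff_eq_mul, ← mul_inv_eq_iff_eq_mul.1 h]
  have hfix_v : ∀ o ∈ O, π vY * o * (π vY)⁻¹ = o → o = 1 := by
    intro o ho h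
    obtain ⟨y, rfl⟩ := QuotientGroup.mk'_surjective _ o
    exact hsmall y (hnormv y (hconjπ vY y h)) ho
  have hfix_bc : ∀ o ∈ O, π bY * o * (π bY)⁻¹ = o → π cY * o * (π cY)⁻¹ = o → o = 1 := by
    intro o ho h1 h2
    obtain ⟨y, rfl⟩ := QuotientGroup.mk'_surjective _ o
    exact hsmall y (A.pair_E (hexact e91 hbu.eq hT1 hnb y (hconjπ bY y h1))
      (hexact e92 hcu.eq hT2 hnc y (hconjπ cY y h2))) ho
  have hfix_z : ∀ o ∈ O, π zY * o * (π zY)⁻¹ = o → o = 1 := by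
    intro o ho h1
    obtain ⟨y, rfl⟩ := QuotientGroup.mk'_surjective _ o
    refine hsmall y ?_ ho
    rcases hπ _ _ (hconjπ zY y h1).symm with e | e
    · exact A.cent_c_le (mem_centralizer_singleton_iff.2 (mul_inv_eq_iff_eq_mul.1 e))
    · exfalso
      have h3 : ((y * zY * y⁻¹ : Y) : G) ^ 3 = 1 := by
        rw [← SubmonoidClass.coe_pow, conj_pow, show zY ^ 3 = 1 from Subtype.ext (by
          show A.Φ c9 ^ 3 = 1
          rw [← map_pow, show c9 ^ 3 = 1 by decide +kernel, map_one]), mul_one, mul_inv_cancel]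
        rfl
      rw [e, show ((zY : Y) : G) = A.Φ c9 from rfl, ← map_mul, ← map_pow] at h3
      exact absurd (A.Φ_inj (h3.trans (map_one A.Φ).symm)) (by decide +kernel)
  -- `v` inverts the core, which is therefore abelian
  let φv : O →* O := ((MulAut.conjNormal (π vY) : MulAut O) : O ≃* O).toMonoidHom
  have hφv : ∀ o : O, (φv o : Y ⧸ zpowers uY) = π vY * o * (π vY)⁻¹ := fun o => MulAut.conjNormal_apply _ _
  have hvv : π vY * π vY = 1 := by rw [← pow_two]; exact hiso.1 ▸ pow_orderOf_eq_one (π vY)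
  have hfpf : MonoidHom.FixedPointFree φv := fun o h => Subtype.ext (hfix_v o o.2 ((hφv o).symm.trans (congrArg Subtype.val h)))
  have hinvol : Function.Involutive φv := fun o => Subtype.ext (by
    rw [hφv, hφv, show π vY * (π vY * (o : Y ⧸ zpowers uY) * (π vY)⁻¹) * (π vY)⁻¹
      = (π vY * π vY) * o * (π vY * π vY)⁻¹ by group, hvv]; group)
  have habel : ∀ a ∈ O, ∀ b ∈ O, a * b = b * a := fun a ha b hb =>
    congrArg Subtype.val (MonoidHom.FixedPointFree.commute_all_of_involutive hfpf hinvol ⟨a, ha⟩ ⟨b, hb⟩).eq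
  -- the action of the twelve
  set B := π bY with hB
  set C := π cY with hC
  set Z := π zY with hZ
  have hBC : B * C = C * B := by
    rw [hB, hC, ← map_mul, ← map_mul, show bY * cY = cY * bY from Subtype.ext (A.map_comm hbc.eq).eq]
  have hsq : ∀ σ : A9, ∀ hσ, σ * σ = 1 → π (el9 σ hσ) * π (el9 σ hσ) = 1 := fun σ hσ h => by
    rw [← map_mul, show el9 σ hσ * el9 σ hσ = 1 from Subtype.ext (by
      show A.Φ σ * A.Φ σ = 1
      rw [← map_mul, h, map_one]), map_one]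
  have hBB : B * B = 1 := hsq e91 hbu.eq (by decide +kernel)
  have hCC : C * C = 1 := hsq e92 hcu.eq (by decide +kernel)
  have hzrel : ∀ σ τ : A9, ∀ hσ hτ, c9 * σ * c9⁻¹ = τ → Z * π (el9 σ hσ) * Z⁻¹ = π (el9 τ hτ) := fun σ τ hσ hτ h => by
    rw [hZ, ← map_inv, ← map_mul, ← map_mul]
    exact congrArg π (Subtype.ext (by show A.Φ c9 * A.Φ σ * (A.Φ c9)⁻¹ = A.Φ τ; rw [← h, map_mul, map_mul, map_inv]))
  have hZB : Z * B * Z⁻¹ = B * C := by
    rw [hB, hC, ← map_mul]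
    exact hzrel e91 (e91 * e92) hbu.eq ((hbu.mul_left hcu).eq) hzb |>.trans (congrArg π (Subtype.ext (map_mul A.Φ e91 e92)))
  have hZC : Z * C * Z⁻¹ = B := hzrel e92 e91 hcu.eq hbu.eq hzc
  have hZ3 : Z * Z * Z = 1 := by
    rw [hZ, ← map_mul, ← map_mul, show zY * zY * zY = 1 from Subtype.ext (by
      show A.Φ c9 * A.Φ c9 * A.Φ c9 = 1
      rw [← map_mul, ← map_mul, show c9 * c9 * c9 = 1 by decide +kernel, map_one]), map_one]
  have hfixB : ∀ o ∈ O, B * o * B⁻¹ = o → o = 1 := by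
    intro o ho hBo
    have hCo : C * o * C⁻¹ = o⁻¹ := by
      have h1 : o * (C * o * C⁻¹) = 1 := by
        refine hfix_bc _ (mul_mem ho (hOn.conj_mem _ ho C)) ?_ ?_
        · rw [← conj_mul, hBo, show B * (C * o * C⁻¹) * B⁻¹ = (B * C) * o * (B * C)⁻¹ by group, hBC,
            show C * B * o * (C * B)⁻¹ = C * (B * o * B⁻¹) * C⁻¹ by group, hBo]
        · rw [← conj_mul, show C * (C * o * C⁻¹) * C⁻¹ = (C * C) * o * (C * C)⁻¹ by group, hCC, one_mul, inv_one,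
            mul_one]
          exact habel _ (hOn.conj_mem _ ho C) _ ho
      exact eq_inv_of_mul_eq_one_right h1
    set a := Z * o * Z⁻¹ with ha
    set b := Z * Z * o * (Z * Z)⁻¹ with hb
    have haO : a ∈ O := hOn.conj_mem _ ho _
    have hbO : b ∈ O := hOn.conj_mem _ ho _
    have hsum : o * a * b = 1 := by
      refine hfix_z _ (mul_mem (mul_mem ho haO) hbO) ?_
      rw [← conj_mul, ← conj_mul, show Z * a * Z⁻¹ = b by rw [ha, hb]; group,
        show Z * b * Z⁻¹ = (Z * Z * Z) * o * (Z * Z * Z)⁻¹ by rw [hb]; group, hZ3, one_mul, inv_one, mul_one, ← ha,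
        habel _ (mul_mem haO hbO) _ ho, ← mul_assoc]
    have hBa : B * a * B⁻¹ = a⁻¹ := by
      calc B * a * B⁻¹ = Z * C * Z⁻¹ * (Z * o * Z⁻¹) * (Z * C * Z⁻¹)⁻¹ := by rw [hZC]
        _ = Z * (C * o * C⁻¹) * Z⁻¹ := by group
        _ = a⁻¹ := by rw [hCo, ha]; group
    have hBb : B * b * B⁻¹ = b⁻¹ := by
      have hBCo : B * C * o * (B * C)⁻¹ = o⁻¹ := by
        rw [show B * C * o * (B * C)⁻¹ = B * (C * o * C⁻¹) * B⁻¹ by group, hCo, ← conj_inv, hBo]
      have hBeq : Z * Z * (B * C) * (Z * Z)⁻¹ = B := by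
        have e1 : Z * (B * C) * Z⁻¹ = C := by
          rw [← conj_mul, hZB, hZC, mul_assoc, ← hBC, ← mul_assoc, hBB, one_mul]
        rw [show Z * Z * (B * C) * (Z * Z)⁻¹ = Z * (Z * (B * C) * Z⁻¹) * Z⁻¹ by group, e1, hZC]
      calc B * b * B⁻¹ = Z * Z * (B * C) * (Z * Z)⁻¹ * (Z * Z * o * (Z * Z)⁻¹) * (Z * Z * (B * C) * (Z * Z)⁻¹)⁻¹ := by
            rw [hBeq, hb]
        _ = Z * Z * (B * C * o * (B * C)⁻¹) * (Z * Z)⁻¹ := by group
        _ = b⁻¹ := by rw [hBCo, hb]; simp [mul_inv_rev, mul_assoc]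
    have h2 : o * a⁻¹ * b⁻¹ = 1 := by
      calc o * a⁻¹ * b⁻¹ = B * (o * a * b) * B⁻¹ := by rw [← conj_mul, ← conj_mul, hBo, hBa, hBb]
        _ = 1 := by rw [hsum]; group
    refine hodd2 o ho ?_
    have e1 : o = a * b := by
      rw [mul_assoc, ← mul_inv_rev, mul_inv_eq_one] at h2
      rw [h2, habel _ hbO _ haO]
    rwa [mul_assoc, ← e1] at hsum
  -- all three invert, so the core is trivial
  have hinv : ∀ (E : Y ⧸ zpowers uY), E * E = 1 → (∀ o ∈ O, E * o * E⁻¹ = o → o = 1) →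
      ∀ o ∈ O, E * o * E⁻¹ = o⁻¹ := by
    intro E hE hfx o ho
    have h1 : o * (E * o * E⁻¹) = 1 := by
      refine hfx _ (mul_mem ho (hOn.conj_mem _ ho E)) ?_
      rw [← conj_mul, show E * (E * o * E⁻¹) * E⁻¹ = (E * E) * o * (E * E)⁻¹ by group, hE, one_mul, inv_one, mul_one]
      exact habel _ (hOn.conj_mem _ ho E) _ ho
    exact eq_inv_of_mul_eq_one_right h1
  have hfixC : ∀ o ∈ O, C * o * C⁻¹ = o → o = 1 := by
    intro o ho h
    have := hfixB (Z * o * Z⁻¹) (hOn.conj_mem _ ho _) (by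
      calc B * (Z * o * Z⁻¹) * B⁻¹ = Z * C * Z⁻¹ * (Z * o * Z⁻¹) * (Z * C * Z⁻¹)⁻¹ := by rw [hZC]
        _ = Z * (C * o * C⁻¹) * Z⁻¹ := by group
        _ = _ := by rw [h])
    exact conj_eq_one_iff.1 this
  have hObot : ∀ o ∈ O, o = 1 := by
    intro o ho
    have h1 := hinv B hBB hfixB
    have h2 := hinv C hCC hfixC
    have hfix : B * C * o * (B * C)⁻¹ = o := by
      rw [show B * C * o * (B * C)⁻¹ = B * (C * o * C⁻¹) * B⁻¹ by group, h2 o ho, ← conj_inv, h1 o ho, inv_inv]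
    -- the product is a conjugate of `B`
    have := hfixB (Z⁻¹ * o * Z⁻¹⁻¹) (hOn.conj_mem _ ho _) (by
      calc B * (Z⁻¹ * o * Z⁻¹⁻¹) * B⁻¹ = Z⁻¹ * ((Z * B * Z⁻¹) * o * (Z * B * Z⁻¹)⁻¹) * Z⁻¹⁻¹ := by group
        _ = _ := by rw [hZB, hfix])
    exact conj_eq_one_iff.1 this
  -- so the four-group is normal modulo `u`
  intro g hg
  refine hnormv ⟨g, hg⟩ ?_
  have h := hObot _ (Cfsg.Lib.ZStarApps.zstarProp hiso (π ⟨g, hg⟩))
  rw [map_mul, map_mul, map_inv, mul_inv_eq_iff_eq_mul]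
  rw [mul_inv_eq_one, mul_inv_eq_iff_eq_mul] at h
  exact h.symm

/-- An involution with four fixed points has its centraliser in the copy. -/
theorem cent_T1_le {σ : A9} (h : T1 (σ : Perm (Fin 9))) : centralizer ({A.Φ σ} : Set G) ≤ A.Φ.range := by
  obtain ⟨ρ, rfl⟩ := A.conj_of_type h
  intro c hc
  rw [mem_centralizer_singleton_iff, map_mul, map_mul, map_inv] at hc
  have h1 := A.cent_u_le (mem_centralizer_singleton_iff.2
    (show (A.Φ ρ)⁻¹ * c * A.Φ ρ * A.Φ u9 = A.Φ u9 * ((A.Φ ρ)⁻¹ * c * A.Φ ρ) by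
      calc (A.Φ ρ)⁻¹ * c * A.Φ ρ * A.Φ u9 = (A.Φ ρ)⁻¹ * (c * (A.Φ ρ * A.Φ u9 * (A.Φ ρ)⁻¹)) * A.Φ ρ := by group
        _ = _ := by rw [hc]; group))
  have hr : A.Φ ρ ∈ A.Φ.range := ⟨ρ, rfl⟩
  have := mul_mem (mul_mem hr h1) (inv_mem hr)
  rwa [show A.Φ ρ * ((A.Φ ρ)⁻¹ * c * A.Φ ρ) * (A.Φ ρ)⁻¹ = c by group] at this

/-- Conjugation cannot bring such an involution back into the copy from outside. -/
theorem mem_of_conj_T1 {σ : A9} (h : T1 (σ : Perm (Fin 9))) {g : G} (hg : g * A.Φ σ * g⁻¹ ∈ A.Φ.range) :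
    g ∈ A.Φ.range := by
  obtain ⟨τ, hτ⟩ := hg
  obtain ⟨ρ, hρ⟩ := A.conj_of_type (A.type_transfer h hτ.symm)
  obtain ⟨ρ', rfl⟩ := A.conj_of_type h
  have hmem := A.cent_u_le (mem_centralizer_singleton_iff.2 (show
      (A.Φ ρ)⁻¹ * g * A.Φ ρ' * A.Φ u9 = A.Φ u9 * ((A.Φ ρ)⁻¹ * g * A.Φ ρ') by
    calc (A.Φ ρ)⁻¹ * g * A.Φ ρ' * A.Φ u9
        = (A.Φ ρ)⁻¹ * (g * A.Φ (ρ' * u9 * ρ'⁻¹) * g⁻¹) * g * A.Φ ρ' := by rw [map_mul, map_mul, map_inv]; group
      _ = _ := by rw [← hτ, ← hρ, map_mul, map_mul, map_inv]; group))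
  have := mul_mem (mul_mem (⟨ρ, rfl⟩ : A.Φ ρ ∈ A.Φ.range) hmem) (inv_mem (⟨ρ', rfl⟩ : A.Φ ρ' ∈ A.Φ.range))
  rwa [show A.Φ ρ * ((A.Φ ρ)⁻¹ * g * A.Φ ρ') * (A.Φ ρ')⁻¹ = g by group] at this

/-- The centraliser of the other involution lies in the copy. -/
theorem cent_d_le : centralizer ({A.Φ d9} : Set G) ≤ A.Φ.range := by
  intro g hg
  rw [mem_centralizer_singleton_iff] at hg
  obtain ⟨hTb, hTc, -, hTi, -, hTci, hTbi, -⟩ := facts9
  obtain ⟨-, -, -, -, -, -, -, -, -, -, -, -, -, -, -, -, -, hbi, hci, -⟩ := relations9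
  have hgi : g * A.Φ d9 * g⁻¹ = A.Φ d9 := by rw [hg, mul_inv_cancel_right]
  set t := A.Φ v9 with ht
  set a := g * A.Φ u9 * g⁻¹ with ha
  have hai : Commute a (A.Φ d9) := by
    show a * A.Φ d9 = A.Φ d9 * a
    rw [← hgi, ha, conj_mul, conj_mul, (A.map_comm hbi.eq).eq]
  have hto : orderOf t = 2 := by
    rw [ht, orderOf_injective _ A.Φ_inj]
    exact orderOf_eq_prime (by decide +kernel) (by decide +kernel)
  have hao : orderOf a = 2 := by
    rw [ha, show g * A.Φ u9 * g⁻¹ = MulAut.conj g (A.Φ u9) from rfl, MulEquiv.orderOf_eq, orderOf_injective _ A.Φ_inj]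
    exact orderOf_eq_prime (by decide +kernel) (by decide +kernel)
  have hai' : a * A.Φ d9 = g * A.Φ (u9 * d9) * g⁻¹ := by
    rw [map_mul, ← conj_mul, hgi]
  by_cases hodd : Odd (orderOf (t * a))
  · exfalso
    obtain ⟨d, hd, hda⟩ := Cfsg.Lib.InvolCalc.conj_of_odd hto hao hodd
    have hdi : Commute d (A.Φ d9) := mem_centralizer_singleton_iff.1 ((closure_le (centralizer ({A.Φ d9} : Set G))).2 (by
      rintro x (rfl | rfl)
      · exact mem_centralizer_singleton_iff.2 (A.map_comm hci.eq).eq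
      · exact mem_centralizer_singleton_iff.2 hai.eq) hd)
    refine hTci (A.type_transfer (σ := u9 * d9) hTbi (g := d⁻¹ * g) ?_)
    rw [show d⁻¹ * g * A.Φ (u9 * d9) * (d⁻¹ * g)⁻¹ = d⁻¹ * (g * A.Φ (u9 * d9) * g⁻¹) * d by group, ← hai', ← hda,
      map_mul, ← ht]
    calc d⁻¹ * (d * t * d⁻¹ * A.Φ d9) * d = t * (d⁻¹ * (A.Φ d9 * d)) := by group
      _ = t * A.Φ d9 := by rw [← hdi.eq, inv_mul_cancel_left]
  rw [Nat.not_odd_iff_even] at hodd
  obtain ⟨hxo, hxt, hxa⟩ := Cfsg.Lib.InvolCalc.central_spec hto hao hodd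
  set k := orderOf (t * a) / 2 with hk
  set x := (t * a) ^ k with hx
  obtain ⟨ρ, hρ⟩ := A.cent_T1_le hTc (mem_centralizer_singleton_iff.2 hxt.eq)
  have hxi : Commute x (A.Φ d9) := ((A.map_comm hci.eq).mul_left hai).pow_left k
  -- one of the two products is conjugate to one of the two
  have hxtT : T1 ((ρ * v9 : A9) : Perm (Fin 9)) := by
    have hrt : ∀ m : ℕ, (t * a) ^ m * t * ((t * a) ^ m)⁻¹ = (t * a) ^ (2 * m) * t := fun m => by
      have := Cfsg.Lib.InvolCalc.conj_rot hto hao (m : ℤ)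
      rw [zpow_natCast, show (2 * (m : ℤ)) = ((2 * m : ℕ) : ℤ) by push_cast; ring, zpow_natCast] at this
      exact this
    rcases Nat.even_or_odd' k with ⟨m, hm | hm⟩
    · refine A.type_transfer (σ := v9) hTc (g := (t * a) ^ m) ?_
      rw [map_mul, hρ, ← ht, hx, hm, hrt]
    · refine A.type_transfer (σ := u9) hTb (g := (t * a) ^ m * t * g) ?_
      rw [show (t * a) ^ m * t * g * A.Φ u9 * ((t * a) ^ m * t * g)⁻¹ = (t * a) ^ m * (t * a * t⁻¹) * ((t * a) ^ m)⁻¹ by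
          rw [ha]; group,
        Cfsg.Lib.InvolCalc.inv_of_order_two hto, map_mul, hρ, ← ht, hx, hm,
        show (t * a) ^ m * (t * a * t) * ((t * a) ^ m)⁻¹ = (t * a) * ((t * a) ^ m * t * ((t * a) ^ m)⁻¹) by
          rw [← mul_assoc ((t * a) ^ m), ← pow_succ, pow_succ']; simp only [mul_assoc],
        hrt, ← mul_assoc, ← pow_succ']
  have hamem : a ∈ A.Φ.range := by
    by_cases hρT : T1 (ρ : Perm (Fin 9))
    · exact A.cent_T1_le hρT (mem_centralizer_singleton_iff.2 (by rw [hρ]; exact hxa.eq.symm))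
    -- move the central involution into the frame of `u9`
    have hxb : Commute (g⁻¹ * x * g) (A.Φ u9) := by
      show g⁻¹ * x * g * A.Φ u9 = A.Φ u9 * (g⁻¹ * x * g)
      calc g⁻¹ * x * g * A.Φ u9 = g⁻¹ * (x * a) * g := by rw [ha]; group
        _ = _ := by rw [hxa.eq, ha]; group
    obtain ⟨ρ', hρ'⟩ := A.cent_T1_le hTb (mem_centralizer_singleton_iff.2 hxb.eq)
    have hconj : g * A.Φ ρ' * g⁻¹ = A.Φ ρ := by rw [hρ, hρ']; group
    have hρ'i : ρ' * d9 = d9 * ρ' := A.Φ_comm_iff.1 (by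
      rw [hρ']
      have h := congrArg (fun y => g⁻¹ * y * g⁻¹⁻¹) hxi.eq
      have hgi' : g⁻¹ * A.Φ d9 * g⁻¹⁻¹ = A.Φ d9 := by
        conv_lhs => rw [← hgi]
        group
      rw [← conj_mul, ← conj_mul, hgi', inv_inv] at h
      exact h)
    have hρ'b : ρ' * u9 = u9 * ρ' := A.Φ_comm_iff.1 (hρ' ▸ hxb)
    obtain ⟨⟨p, q⟩, hp, hpu⟩ := split_u9 hρ'b
    have hsg : Perm.sign p * Perm.sign q = 1 := by
      rw [← Perm.sign_sumCongr, ← Perm.sign_permCongr placeU]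
      exact (congrArg Perm.sign hp).symm.trans (Perm.mem_alternatingGroup.1 ρ'.2)
    have hρ'2 : ρ' * ρ' = 1 := A.Φ_inj (by
      rw [map_mul, hρ', map_one, show g⁻¹ * x * g * (g⁻¹ * x * g) = g⁻¹ * (x * x) * g by group, ← pow_two, ← hxo,
        pow_orderOf_eq_one]
      group)
    have hρ'1 : ρ' ≠ 1 := fun e => by
      rw [e, map_one, eq_comm, show g⁻¹ * x * g = g⁻¹ * x * g⁻¹⁻¹ by group, conj_eq_one_iff] at hρ'
      rw [hρ', orderOf_one] at hxo
      exact absurd hxo (by norm_num)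
    have hρ'T : ¬ T1 (ρ' : Perm (Fin 9)) := fun h => hρT (A.type_transfer h hconj)
    have hρ'ne : ρ' ≠ d9 := fun e => by
      rw [e, hgi] at hconj
      rw [← A.Φ_inj hconj] at hxtT
      rw [show d9 * v9 = v9 * d9 from hci.eq.symm] at hxtT
      exact hTci hxtT
    have hρ'bT : T1 ((ρ' * u9 : A9) : Perm (Fin 9)) := by
      -- the product with `a` is conjugate to one of the generators
      have hrt : ∀ m : ℕ, (t * a) ^ m * t * ((t * a) ^ m)⁻¹ = (t * a) ^ (2 * m) * t := fun m => by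
        have := Cfsg.Lib.InvolCalc.conj_rot hto hao (m : ℤ)
        rw [zpow_natCast, show (2 * (m : ℤ)) = ((2 * m : ℕ) : ℤ) by push_cast; ring, zpow_natCast] at this
        exact this
      have hxa' : g * A.Φ (ρ' * u9) * g⁻¹ = x * a := by rw [map_mul, hρ', ha]; group
      have hsa : a * a = 1 := Cfsg.Lib.InvolCalc.sq_of_order_two hao
      have hst : t * t = 1 := Cfsg.Lib.InvolCalc.sq_of_order_two hto
      have hrn : (t * a) ^ (2 * k) = 1 := by
        obtain ⟨j, hj⟩ := hodd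
        rw [hk, hj, show 2 * ((j + j) / 2) = j + j by omega, ← hj, pow_orderOf_eq_one]
      -- write `x * a` as a rotation times `t`
      have hxr : x * a = (t * a) ^ (k + (2 * k - 1)) * t := by
        rw [hx, pow_add]
        rw [mul_assoc]
        congr 1
        have h1 : (t * a) ^ (2 * k - 1) * (t * a) = 1 := by
          rw [← pow_succ, Nat.sub_add_cancel ?_, hrn]
          rcases Nat.eq_zero_or_pos k with h0 | h0
          · rw [hx, h0, pow_zero, orderOf_one] at hxo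
            exact absurd hxo (by norm_num)
          · omega
        calc a = ((t * a) ^ (2 * k - 1) * (t * a)) * a := by rw [h1, one_mul]
          _ = (t * a) ^ (2 * k - 1) * t * (a * a) := by group
          _ = _ := by rw [hsa, mul_one]
      rcases Nat.even_or_odd' (k + (2 * k - 1)) with ⟨m, hm | hm⟩
      · refine A.type_transfer (σ := v9) hTc (g := g⁻¹ * (t * a) ^ m) ?_
        rw [show g⁻¹ * (t * a) ^ m * A.Φ v9 * (g⁻¹ * (t * a) ^ m)⁻¹ = g⁻¹ * ((t * a) ^ m * t * ((t * a) ^ m)⁻¹) * g by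
          rw [ht]; group, hrt, ← hm, ← hxr, ← hxa']
        group
      · refine A.type_transfer (σ := u9) hTb (g := g⁻¹ * ((t * a) ^ m * t * g)) ?_
        rw [show g⁻¹ * ((t * a) ^ m * t * g) * A.Φ u9 * (g⁻¹ * ((t * a) ^ m * t * g))⁻¹
            = g⁻¹ * ((t * a) ^ m * (t * a * t⁻¹) * ((t * a) ^ m)⁻¹) * g by rw [ha]; group,
          Cfsg.Lib.InvolCalc.inv_of_order_two hto,
          show (t * a) ^ m * (t * a * t) * ((t * a) ^ m)⁻¹ = (t * a) * ((t * a) ^ m * t * ((t * a) ^ m)⁻¹) by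
          rw [← mul_assoc ((t * a) ^ m), ← pow_succ, pow_succ']; simp only [mul_assoc],
          hrt, ← mul_assoc (t * a), ← pow_succ', ← hm, ← hxr, ← hxa']
        group
    have hT' : T1 ((ρ' * d9 : A9) : Perm (Fin 9)) := by
      rw [Subgroup.coe_mul, hp]
      refine d9_partner p hpu q hsg
        (hp ▸ congrArg Subtype.val hρ'i) (hp ▸ congrArg Subtype.val hρ'2) (fun e => hρ'1 (Subtype.ext (hp.trans e)))
        (fun e => hρ'ne (Subtype.ext (hp.trans e))) (hp ▸ hρ'T) ?_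
      rw [← hp]
      exact hρ'bT
    have hTri : T1 ((ρ * d9 : A9) : Perm (Fin 9)) := A.type_transfer hT' (g := g) (by
      rw [map_mul, ← conj_mul, hconj, hgi, map_mul])
    refine A.cent_T1_le hTri (mem_centralizer_singleton_iff.2 ?_)
    rw [map_mul, hρ]
    exact (hxa.symm.mul_right hai).eq
  exact A.mem_of_conj_T1 hTb hamem

/-- The copy is everything. -/
theorem range_eq_top : A.Φ.range = ⊤ := by
  by_contra hne
  have hTi := facts9.2.2.2.1
  have heven : Even (Nat.card A.Φ.range) := by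
    rw [Nat.card_congr (MonoidHom.ofInjective A.Φ_inj).symm.toEquiv, nat_card_alternatingGroup, Nat.card_fin]
    decide
  have hC : ∀ t ∈ A.Φ.range, orderOf t = 2 → centralizer ({t} : Set G) ≤ A.Φ.range := by
    rintro _ ⟨σ, rfl⟩ ht
    rw [orderOf_injective _ A.Φ_inj] at ht
    have h2 : σ * σ = 1 := by rw [← pow_two]; exact orderOf_dvd_iff_pow_eq_one.1 ht.dvd
    rcases classify σ h2 (fun e => by rw [e, orderOf_one] at ht; exact absurd ht (by norm_num)) with ⟨hT, -⟩ | ⟨-, hc⟩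
    · exact A.cent_T1_le hT
    · obtain ⟨k, hk⟩ := isConj_iff.1 hc
      intro c hcc
      rw [mem_centralizer_singleton_iff] at hcc
      have h1 := A.cent_d_le (mem_centralizer_singleton_iff.2
        (show A.Φ k * c * (A.Φ k)⁻¹ * A.Φ d9 = A.Φ d9 * (A.Φ k * c * (A.Φ k)⁻¹) by
          rw [← hk, map_mul, map_mul, map_inv, conj_mul, conj_mul, hcc]))
      have hr : A.Φ k ∈ A.Φ.range := ⟨k, rfl⟩
      have := mul_mem (mul_mem (inv_mem hr) h1) hr
      rwa [show (A.Φ k)⁻¹ * (A.Φ k * c * (A.Φ k)⁻¹) * A.Φ k = c by group] at this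
  have hF : ∀ t ∈ A.Φ.range, ∀ s ∈ A.Φ.range, orderOf t = 2 → orderOf s = 2 → IsConj t s →
      ∃ h ∈ A.Φ.range, h * t * h⁻¹ = s := by
    rintro _ ⟨σ, rfl⟩ _ ⟨τ, rfl⟩ ht hs hc
    obtain ⟨g, hg⟩ := isConj_iff.1 hc
    rw [orderOf_injective _ A.Φ_inj] at ht hs
    have key : ∀ π : A9, orderOf π = 2 → (T1 (π : Perm (Fin 9)) ∧ IsConj π u9) ∨ (¬ T1 (π : Perm (Fin 9)) ∧ IsConj π d9) :=
      fun π h => classify π (by rw [← pow_two]; exact orderOf_dvd_iff_pow_eq_one.1 h.dvd)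
        (fun e => by rw [e, orderOf_one] at h; exact absurd h (by norm_num))
    have hc' : IsConj σ τ := by
      rcases key σ ht with ⟨h1, c1⟩ | ⟨h1, c1⟩ <;> rcases key τ hs with ⟨h2, c2⟩ | ⟨h2, c2⟩
      · exact c1.trans c2.symm
      · exact absurd (A.type_transfer h1 hg) h2
      · exact absurd (A.type_transfer h2 (g := g⁻¹) (by rw [← hg]; group)) h1
      · exact c1.trans c2.symm
    obtain ⟨k, hk⟩ := isConj_iff.1 hc'
    exact ⟨A.Φ k, ⟨k, rfl⟩, by rw [← hk, map_mul, map_mul, map_inv]⟩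
  have hall := Cfsg.Lib.StrongEmb.all_conj (Cfsg.Lib.StrongEmb.of_conditions hne heven hC hF)
    (a := A.Φ u9) (b := A.Φ d9)
    (by rw [orderOf_injective _ A.Φ_inj]; exact orderOf_eq_prime (by decide +kernel) (by decide +kernel))
    (by rw [orderOf_injective _ A.Φ_inj]; exact orderOf_eq_prime (by decide +kernel) (by decide +kernel))
  obtain ⟨g, hg⟩ := isConj_iff.1 hall
  exact hTi (A.type_of_conj hg)

end Big

end Cfsg.Lib.AltNineLocal
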