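import Cfsg.Agent.LocalThree.AltNineLocal.Coords

/-!
Finite facts on two four-groups.
-/

set_option autoImplicit false
set_option synthInstance.maxSize 4096
set_option maxRecDepth 100000
set_option maxHeartbeats 1000000

namespace Cfsg.Lib.AltNineLocal

open Equiv Subgroup Cfsg.Lib.Monomial

-- Decide bounded quantifiers along the list, not along the finite type.
attribute [local instance 10000] List.decidableBAll

def r1 : A6 := e6 (swap 2 3 * swap 4 5)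
def r2 : A6 := e6 (swap 2 4 * swap 3 5)
def w2 : A6 := e6 (swap 0 1 * swap 2 5)
def s0 : A6 := e6 (swap 0 1 * swap 2 3)
/-- The element of order three inside the second four-group's normaliser. -/
def sW : A6 := e6 (swap 0 3 * swap 3 2 * (swap 1 4 * swap 4 5))
/-- An element moving the standard element to it. -/
def gW : A6 := e6 (swap 1 3 * (swap 0 3 * swap 1 4 * swap 2 5))

theorem four_spec : (r1 * r1 = 1 ∧ r2 * r2 = 1 ∧ r1 * r2 = r2 * r1 ∧ r1 ≠ 1 ∧ r2 ≠ 1 ∧ r1 ≠ r2) ∧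
    (t6 * t6 = 1 ∧ w2 * w2 = 1 ∧ t6 * w2 = w2 * t6 ∧ t6 ≠ 1 ∧ w2 ≠ 1 ∧ t6 ≠ w2) ∧
    (sW * sW * sW = 1 ∧ sW * t6 * sW⁻¹ ∈ [1, t6, w2, t6 * w2] ∧ sW * w2 * sW⁻¹ ∈ [1, t6, w2, t6 * w2] ∧
      sW ≠ 1 ∧ sW = gW * (B6 * C6) * gW⁻¹) ∧
    (C6 * r1 * C6⁻¹ ∈ [1, r1, r2, r1 * r2] ∧ C6 * r2 * C6⁻¹ ∈ [1, r1, r2, r1 * r2]) ∧
    ∀ x ∈ [r1, r2, r1 * r2], x * C6 ≠ C6 * x := by decide +kernel

theorem self_R : ∀ τ : A6, τ * r1 = r1 * τ → τ * r2 = r2 * τ → τ ∈ [1, r1, r2, r1 * r2] := by decide +kernel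

theorem self_W : ∀ τ : A6, τ * t6 = t6 * τ → τ * w2 = w2 * τ → τ ∈ [1, t6, w2, t6 * w2] := by decide +kernel

theorem w_not_B : ∀ x ∈ [t6, w2, t6 * w2], x * B6 ≠ B6 * x := by decide +kernel

theorem v6_cycle : ∀ τ ∈ V6, τ ≠ 1 → w2 ∈ [τ, B6 * τ * B6⁻¹, B6 * (B6 * τ * B6⁻¹) * B6⁻¹] := by decide +kernel

/-- Short words. -/
def order4words (x : A6) : List A6 :=
  [x * x * B6 * x * t6, x * x * t6 * x * B6 * t6, x, x * t6, x * B6, x * x * x * B6 * x * t6, x * B6 * t6]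

theorem order_four : ∀ τ : A6, (τ : Perm (Fin 6)) 5 = 5 ∨ ((τ : Perm (Fin 6)) 0).val < 3 ∧
      ((τ : Perm (Fin 6)) 1).val < 3 ∧ ((τ : Perm (Fin 6)) 2).val < 3 ∨
    ∃ w ∈ order4words τ, w * w ≠ 1 ∧ w * w * (w * w) = 1 := by decide +kernel

theorem five_pow : ∀ q : A5, q ^ 5 = 1 ∨ q ^ 3 = 1 ∨ q ^ 2 = 1 := by decide +kernel

theorem fix_counts : (Finset.univ.filter fun τ : A6 => (τ : Perm (Fin 6)) 5 = 5).card = 60 ∧
    (Finset.univ.filter fun τ : A6 => (τ : Perm (Fin 6)) 5 ≠ 5 ∧ ((τ : Perm (Fin 6)) 0).val < 3 ∧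
      ((τ : Perm (Fin 6)) 1).val < 3 ∧ ((τ : Perm (Fin 6)) 2).val < 3).card = 12 ∧
    (s0 : Perm (Fin 6)) 5 = 5 ∧ s0 * s0 = 1 := by decide +kernel

/-- The stabiliser of the last point. -/
def stab5 : Subgroup A6 where
  carrier := {τ | (τ : Perm (Fin 6)) 5 = 5}
  one_mem' := rfl
  mul_mem' {a b} ha hb := by
    show (a : Perm (Fin 6)) ((b : Perm (Fin 6)) 5) = 5
    rw [show (b : Perm (Fin 6)) 5 = 5 from hb, show (a : Perm (Fin 6)) 5 = 5 from ha]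
  inv_mem' {a} ha := by
    show (a : Perm (Fin 6))⁻¹ 5 = 5
    rw [Perm.inv_eq_iff_eq]; exact (show (a : Perm (Fin 6)) 5 = 5 from ha).symm

/-- The data of the translations. -/
theorem big_lines : ∀ i : Fin 3, i ≠ 0 → ∃ v : Fin 27, (cls (tv v) = 12 ∨ cls (tv v) = 13) ∧
    tv 1 ^ (i : ℕ) * tv 9 = tv v := by decide +kernel

theorem big_lines' : ∀ i : Fin 3, ∃ v : Fin 27, (cls (tv v) = 12 ∨ cls (tv v) = 13) ∧
    tv 9 ^ (i : ℕ) * tv 4 = tv v := by decide +kernel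

theorem tv_four : tv 4 = tv 1 * tv 3 := by decide +kernel

end Cfsg.Lib.AltNineLocal
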