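import Cfsg.Agent.S3331
import Cfsg.Agent.Coprime.Generation
import Cfsg.Agent.Classical.SL
import Cfsg.Agent.Classical.Misc.SLTwoTori
import Cfsg.Agent.LocalThree.AltNineLocal.Six

/-!
The centraliser of a four-group with a self-centralising element of order three above it, normalised by a
second element of order three.
-/

set_option autoImplicit false
set_option linter.unusedSectionVars false
set_option synthInstance.maxSize 4096
set_option maxRecDepth 100000
set_option maxHeartbeats 1000000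

namespace Cfsg.Lib.AltNineLocal

open Subgroup
open scoped Pointwise

universe u

/-- The data. -/
structure Quad (G : Type u) [Group G] where
  W : Subgroup G
  a : G
  e : G
  cardW : Nat.card W = 4
  sq : ∀ w ∈ W, w * w = 1
  comm : ∀ v ∈ W, ∀ w ∈ W, v * w = w * v
  ha : ∀ w ∈ W, a * w = w * a
  he : ∀ w ∈ W, e * w * e⁻¹ ∈ W
  a3 : a ^ 3 = 1
  e3 : e ^ 3 = 1
  a1 : a ≠ 1
  ae : a * e = e * a
  sep : e ∉ zpowers a
  self : ∀ x ∈ centralizer (W : Set G), x * a = a * x → ∃ i : Fin 3, x * (a ^ (i : ℕ))⁻¹ ∈ W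
  seven : ∀ i : Fin 3, ¬ 7 ∣ Nat.card (centralizer ({a ^ (i : ℕ) * e} : Set G))

theorem seven_lines : ∀ k l : ZMod 7, k ^ 3 = 1 → l ^ 3 = 1 → k = 1 ∨ ∃ i : Fin 3, k ^ (i : ℕ) * l = 1 := by
  decide +kernel

theorem five_conj : ∀ b : A5, b ^ 3 = 1 → b ≠ 1 → ∃ σ : Equiv.Perm (Fin 5),
    σ * (b : Equiv.Perm (Fin 5)) * σ⁻¹ = B5 := by decide +kernel

theorem center_three : ∀ z : Equiv.Perm (Fin 3), z * z = 1 →
    (∀ g : Equiv.Perm (Fin 3), g * z * g⁻¹ = z) → z = 1 := by decide +kernel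

theorem card_psl_seven : Nat.card (Matrix.ProjectiveSpecialLinearGroup (Fin 2) (ZMod 7)) = 168 := by
  classical
  have : Fact (Nat.Prime 7) := ⟨by norm_num⟩
  have h := Cfsg.Lib.Classical.gcd_mul_card_PSL (ι := Fin 2) (F := ZMod 7)
  rw [Cfsg.Lib.Classical.SLTwoTori.card_SL2] at h
  simp only [Fintype.card_fin, Nat.card_eq_fintype_card (α := ZMod 7), ZMod.card] at h
  norm_num at h
  rw [Nat.card_eq_fintype_card]
  omega

namespace Quad

variable {G : Type u} [Group G] [Finite G] (D : Quad G)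

include D

theorem comm_W {x : G} (hx : x ∈ centralizer (D.W : Set G)) {w : G} (hw : w ∈ D.W) : x * w = w * x :=
  ((mem_centralizer_iff.1 hx) w hw).symm

theorem a_mem : D.a ∈ centralizer (D.W : Set G) := mem_centralizer_iff.2 fun w hw => (D.ha w hw).symm

theorem W_le : D.W ≤ centralizer (D.W : Set G) := fun v hv => mem_centralizer_iff.2 fun w hw => D.comm w hw v hv

theorem e_conj {x : G} (hx : x ∈ centralizer (D.W : Set G)) : D.e * x * D.e⁻¹ ∈ centralizer (D.W : Set G) := by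
  refine mem_centralizer_iff.2 fun w hw => ?_
  have h2 : D.e * (D.e * w * D.e⁻¹) * D.e⁻¹ ∈ D.W := D.he _ (D.he w hw)
  have he : D.e * (D.e * D.e) = 1 := by rw [← D.e3, pow_succ', pow_two]
  have hw' : D.e⁻¹ * w * D.e ∈ D.W := by
    have hinv : D.e⁻¹ = D.e * D.e := inv_eq_of_mul_eq_one_right he
    rw [show D.e⁻¹ * w * D.e = D.e⁻¹ * w * D.e⁻¹⁻¹ by rw [inv_inv], hinv]
    convert h2 using 1
    group
  have := D.comm_W hx hw'
  calc w * (D.e * x * D.e⁻¹) = D.e * (D.e⁻¹ * w * D.e * x) * D.e⁻¹ := by group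
    _ = D.e * (x * (D.e⁻¹ * w * D.e)) * D.e⁻¹ := by rw [this]
    _ = _ := by group

/-- A line contributes only to the group itself. -/
theorem fix_le (K : Subgroup G) (hK : (Nat.card K).Coprime 3) (hKC : K ≤ centralizer (D.W : Set G))
    (hKa : ∀ k ∈ K, D.a * k * D.a⁻¹ ∈ K) (hKe : ∀ k ∈ K, D.e * k * D.e⁻¹ ∈ K) (hWK : D.W ≤ K)
    (hfix : ∀ i : Fin 3, ∀ k ∈ K, k * (D.a ^ (i : ℕ) * D.e) = D.a ^ (i : ℕ) * D.e * k → k ∈ D.W) : K = D.W := by
  refine le_antisymm ?_ hWK
  haveI : Fact (Nat.Prime 3) := ⟨Nat.prime_three⟩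
  have hA : ∀ x ∈ closure ({D.a, D.e} : Set G), ∀ y ∈ closure ({D.a, D.e} : Set G), x * y = y * x := by
    have := Subgroup.isMulCommutative_closure (k := ({D.a, D.e} : Set G)) (by
      intro a ha b hb
      rcases ha with rfl | rfl <;> rcases hb with rfl | rfl
      exacts [rfl, D.ae, D.ae.symm, rfl])
    exact fun x hx y hy => congrArg Subtype.val (this.is_comm.comm ⟨x, hx⟩ ⟨y, hy⟩)
  obtain ⟨A, hAdef⟩ : ∃ A : Subgroup G, A = closure ({D.a, D.e} : Set G) := ⟨_, rfl⟩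
  rw [← hAdef] at hA
  have haA : D.a ∈ A := hAdef ▸ subset_closure (Set.mem_insert _ _)
  have heA : D.e ∈ A := hAdef ▸ subset_closure (Set.mem_insert_of_mem _ rfl)
  haveI : IsMulCommutative A := ⟨⟨fun x y => Subtype.ext (hA x x.2 y y.2)⟩⟩
  have hexp : ∀ x ∈ A, x ^ 3 = 1 := by
    intro x hx
    rw [hAdef] at hx
    induction hx using Subgroup.closure_induction with
    | mem y hy => rcases hy with rfl | rfl; exacts [D.a3, D.e3]
    | one => simp
    | mul y z hy hz e1 e2 => rw [(show Commute y z from hA y (hAdef ▸ hy) z (hAdef ▸ hz)).mul_pow, e1, e2, one_mul]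
    | inv y _ e1 => rw [inv_pow, e1, inv_one]
  have hncyc : ¬ IsCyclic A := by
    intro hc
    obtain ⟨g, hg⟩ := hc
    have h3 : Nat.card A ∣ 3 := by
      rw [← orderOf_eq_card_of_forall_mem_zpowers hg]
      exact orderOf_dvd_of_pow_eq_one (Subtype.ext (by simpa using hexp g g.2))
    have hza : zpowers D.a ≤ A := zpowers_le.2 haA
    have hcard : Nat.card (zpowers D.a) = 3 := by rw [Nat.card_zpowers, orderOf_eq_prime D.a3 D.a1]
    have := Subgroup.eq_of_le_of_card_ge hza (by rw [hcard]; exact Nat.le_of_dvd (by norm_num) h3)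
    exact D.sep (this ▸ heA)
  have hAK : A ≤ normalizer (K : Set G) := by
    rw [hAdef, closure_le]
    rintro y (rfl | rfl)
    · exact Subgroup.mem_normalizer_iff_map_conj_eq.2 (Subgroup.eq_of_le_of_card_ge
        (by rintro _ ⟨k, hk, rfl⟩; exact hKa k hk) (by rw [Subgroup.card_map_of_injective (MulAut.conj D.a).injective]))
    · exact Subgroup.mem_normalizer_iff_map_conj_eq.2 (Subgroup.eq_of_le_of_card_ge
        (by rintro _ ⟨k, hk, rfl⟩; exact hKe k hk) (by rw [Subgroup.card_map_of_injective (MulAut.conj D.e).injective]))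
  have hApg : IsPGroup 3 A := fun x => ⟨1, Subtype.ext (by simpa using hexp x x.2)⟩
  obtain ⟨n, hn⟩ := IsPGroup.iff_card.1 hApg
  have hcop : (Nat.card A).Coprime (Nat.card K) := by
    rw [hn]; exact Nat.Coprime.pow_left n hK.symm
  have hgen : ∀ x ∈ A, ∃ i j : ℕ, x = D.a ^ i * D.e ^ j := by
    intro x hxA
    rw [hAdef] at hxA
    induction hxA using Subgroup.closure_induction with
    | mem y hy => rcases hy with rfl | rfl; exacts [⟨1, 0, by simp⟩, ⟨0, 1, by simp⟩]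
    | one => exact ⟨0, 0, by simp⟩
    | mul y z _ _ e1 e2 =>
      obtain ⟨i, j, rfl⟩ := e1
      obtain ⟨i', j', rfl⟩ := e2
      refine ⟨i + i', j + j', ?_⟩
      rw [pow_add, pow_add, mul_assoc (D.a ^ i), ← mul_assoc (D.e ^ j),
        ((show Commute D.e D.a from D.ae.symm).pow_pow j i').eq]
      group
    | inv y _ e1 =>
      obtain ⟨i, j, rfl⟩ := e1
      refine ⟨2 * i, 2 * j, ?_⟩
      refine inv_eq_of_mul_eq_one_right ?_
      rw [mul_assoc, ← mul_assoc (D.e ^ j), ((show Commute D.e D.a from D.ae.symm).pow_pow j (2 * i)).eq,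
        mul_assoc, ← pow_add, ← mul_assoc, ← pow_add, show i + 2 * i = 3 * i by ring, show j + 2 * j = 3 * j by ring,
        pow_mul, pow_mul, D.a3, D.e3, one_pow, one_pow, one_mul]
  rw [← Cfsg.Lib.Coprime.centralizerJoin_eq hncyc hAK hcop]
  refine iSup₂_le fun x hx k hk => ?_
  obtain ⟨hxA, hx1⟩ := hx
  obtain ⟨hkK, hkx⟩ := hk
  have hkx' : Commute k x := mem_centralizer_singleton_iff.1 hkx
  obtain ⟨i, j, hij⟩ := hgen x hxA
  have hkC := hKC hkK
  have e3' : ∀ m, D.e ^ (m % 3) = D.e ^ m := fun m => by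
    conv_rhs => rw [← Nat.mod_add_div m 3, pow_add, pow_mul, D.e3, one_pow, mul_one]
  have a3' : ∀ m, D.a ^ (m % 3) = D.a ^ m := fun m => by
    conv_rhs => rw [← Nat.mod_add_div m 3, pow_add, pow_mul, D.a3, one_pow, mul_one]
  rw [← e3', ← a3'] at hij
  rcases (show j % 3 = 0 ∨ j % 3 = 1 ∨ j % 3 = 2 by omega) with hj | hj | hj <;> rw [hj] at hij
  · rw [pow_zero, mul_one] at hij
    have hka : Commute k D.a := by
      rcases (show i % 3 = 0 ∨ i % 3 = 1 ∨ i % 3 = 2 by omega) with hi | hi | hi <;> rw [hi] at hij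
      · exact absurd (hij.trans (pow_zero _)) hx1
      · rw [pow_one] at hij; exact hij ▸ hkx'
      · rw [show D.a = x * x by rw [hij, ← pow_add]; exact (a3' 4).symm.trans (by rfl) |>.trans (pow_one _) |>.symm]
        exact hkx'.mul_right hkx'
    obtain ⟨l, hl⟩ := D.self k hkC hka.eq
    have hl0 : D.a ^ (l : ℕ) ∈ K := by
      have := mul_mem (inv_mem (hWK hl)) hkK
      simpa using this
    have h1 : D.a ^ (l : ℕ) = 1 := by
      have hd1 := Subgroup.orderOf_dvd_natCard K hl0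
      have hd2 : orderOf (D.a ^ (l : ℕ)) ∣ 3 :=
        orderOf_dvd_of_pow_eq_one (by rw [← pow_mul, mul_comm, pow_mul, D.a3, one_pow])
      exact orderOf_eq_one_iff.1 (Nat.eq_one_of_dvd_coprimes hK hd1 hd2)
    rwa [h1, inv_one, mul_one] at hl
  · rw [pow_one] at hij
    exact hfix ⟨i % 3, Nat.mod_lt _ (by norm_num)⟩ k hkK (hij ▸ hkx'.eq)
  · have hxx : D.a ^ (2 * (i % 3) % 3) * D.e = x * x := by
      rw [hij, a3', ← mul_assoc, mul_assoc (D.a ^ (i % 3)) (D.e ^ 2),
        ((show Commute D.e D.a from D.ae.symm).pow_pow 2 (i % 3)).eq, ← mul_assoc, ← pow_add, mul_assoc,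
        ← pow_add, two_mul, show (2 + 2 : ℕ) = 3 + 1 from rfl, pow_succ _ 3, D.e3, one_mul]
    exact hfix ⟨2 * (i % 3) % 3, Nat.mod_lt _ (by norm_num)⟩ k hkK (by
      show k * (D.a ^ (2 * (i % 3) % 3) * D.e) = D.a ^ (2 * (i % 3) % 3) * D.e * k
      rw [hxx]; exact (hkx'.mul_right hkx').eq)

/-- Elements of order three with trivial action on a quotient of coprime kernel. -/
theorem factor {C K : Subgroup G} (hKC : K ≤ C) (hKn : ∀ g ∈ C, ∀ k ∈ K, g * k * g⁻¹ ∈ K)
    (hK : (Nat.card K).Coprime 3) {x : G} (hx : x ^ 3 = 1) (hx1 : x ≠ 1) (hxK : ∀ k ∈ K, x * k * x⁻¹ ∈ K)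
    (htriv : ∀ g ∈ C, x * g * x⁻¹ * g⁻¹ ∈ K) {g : G} (hg : g ∈ C) :
    ∃ k ∈ K, ∃ y ∈ C, Commute y x ∧ g = k * y := by
  have : Fact (Nat.Prime 3) := ⟨Nat.prime_three⟩
  have hxn : zpowers x ≤ normalizer (K : Set G) := zpowers_le.2 (Subgroup.mem_normalizer_iff_map_conj_eq.2
    (Subgroup.eq_of_le_of_card_ge (by rintro _ ⟨k, hk, rfl⟩; exact hxK k hk)
      (by rw [Subgroup.card_map_of_injective (MulAut.conj x).injective])))
  obtain ⟨S, hS⟩ : ∃ S : Subgroup G, S = K ⊔ zpowers x := ⟨_, rfl⟩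
  have hxS : x ∈ S := hS ▸ mem_sup_right (mem_zpowers x)
  have hfac : ∀ s ∈ S, ∃ k ∈ K, ∃ i : ℤ, s = k * x ^ i := by
    intro s hs
    rw [hS, ← SetLike.mem_coe, Subgroup.coe_mul_of_right_le_normalizer_left K _ hxn] at hs
    obtain ⟨k, hk, z, ⟨i, rfl⟩, rfl⟩ := hs
    exact ⟨k, hk, i, rfl⟩
  have hgS : g * x * g⁻¹ ∈ S := by
    have h := inv_mem (htriv g hg)
    rw [show g * x * g⁻¹ = (x * g * x⁻¹ * g⁻¹)⁻¹ * x by group]
    exact mul_mem (hS ▸ mem_sup_left h) hxS
  have hord : orderOf x = 3 := orderOf_eq_prime hx hx1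
  have hcardS : ¬ 9 ∣ Nat.card S := by
    intro h9
    have hd : Disjoint K (zpowers x) := by
      rw [disjoint_iff, eq_bot_iff]
      intro z hz
      refine mem_bot.2 (orderOf_eq_one_iff.1 (Nat.eq_one_of_dvd_coprimes hK
        (Subgroup.orderOf_dvd_natCard K hz.1) ?_))
      have := Subgroup.orderOf_dvd_natCard _ hz.2
      rwa [Nat.card_zpowers, hord] at this
    have hc : Nat.card S ≤ Nat.card K * 3 := by
      rw [← hord, ← Nat.card_zpowers, ← Nat.card_prod]
      refine Nat.card_le_card_of_surjective (fun p : K × zpowers x => (⟨p.1.1 * p.2.1,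
        hS ▸ mul_mem (mem_sup_left p.1.2) (mem_sup_right p.2.2)⟩ : S)) fun s => ?_
      obtain ⟨k, hk, i, e⟩ := hfac s s.2
      exact ⟨(⟨k, hk⟩, ⟨x ^ i, i, rfl⟩), Subtype.ext e.symm⟩
    have h1 : Nat.card K ∣ Nat.card S := card_dvd_of_le (hS ▸ le_sup_left)
    obtain ⟨m, hm⟩ := h1
    rw [hm] at h9 hc
    have hmle : m ≤ 3 := Nat.le_of_mul_le_mul_left hc Nat.card_pos
    have : 9 ∣ m := (Nat.Coprime.dvd_of_dvd_mul_left (by
      rw [show (9 : ℕ) = 3 ^ 2 by norm_num]; exact Nat.Coprime.pow_left 2 hK.symm) h9)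
    have hm0 : 0 < m := Nat.pos_of_ne_zero fun e => by subst e; simp at hm; exact Nat.card_pos.ne' hm
    have := Nat.le_of_dvd hm0 this
    omega
  let X : Subgroup S := (zpowers x).subgroupOf S
  have hX : Nat.card X = 3 := by
    rw [Nat.card_congr (subgroupOfEquivOfLe (zpowers_le.2 hxS)).toEquiv, Nat.card_zpowers, hord]
  have hXp : IsPGroup 3 X := IsPGroup.of_card (n := 1) (by rw [hX, pow_one])
  have hidx : ¬ 3 ∣ X.index := fun h => hcardS (by
    rw [← X.card_mul_index, hX]; exact mul_dvd_mul_left 3 h)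
  let P : Sylow 3 S := hXp.toSylow hidx
  have hY : IsPGroup 3 ((zpowers (g * x * g⁻¹)).subgroupOf S) := by
    refine IsPGroup.of_card (n := 1) ?_
    rw [Nat.card_congr (subgroupOfEquivOfLe (zpowers_le.2 hgS)).toEquiv, Nat.card_zpowers, pow_one,
      ← MulAut.conj_apply, MulEquiv.orderOf_eq, hord]
  obtain ⟨P', hP'⟩ := hY.exists_le_sylow
  obtain ⟨s, hs⟩ := MulAction.exists_smul_eq S P P'
  have hmem : (⟨g * x * g⁻¹, hgS⟩ : S) ∈ (P' : Subgroup S) := hP' (mem_zpowers (g * x * g⁻¹))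
  rw [← hs, Sylow.coe_subgroup_smul] at hmem
  obtain ⟨z, hz, hzs⟩ := hmem
  rw [IsPGroup.toSylow_coe] at hz
  obtain ⟨j, hj⟩ := mem_zpowers_iff.1 (show (z : G) ∈ zpowers x from hz)
  obtain ⟨k, hk, i, hki⟩ := hfac s s.2
  have he : g * x * g⁻¹ = k * x ^ j * k⁻¹ := by
    have := congrArg Subtype.val hzs
    simp only [MulDistribMulAction.toMonoidEnd_apply, MulDistribMulAction.toMonoidHom_apply] at this
    rw [← this]
    show (s : G) * z * (s : G)⁻¹ = _
    rw [← hj, hki]; group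
  obtain ⟨y, hy⟩ : ∃ y, y = k⁻¹ * g := ⟨_, rfl⟩
  have hyC : y ∈ C := hy ▸ mul_mem (inv_mem (hKC hk)) hg
  have hyx : y * x * y⁻¹ = x ^ j := by
    rw [hy]
    calc k⁻¹ * g * x * (k⁻¹ * g)⁻¹ = k⁻¹ * (g * x * g⁻¹) * k := by group
      _ = _ := by rw [he]; group
  refine ⟨k, hk, y, hyC, ?_, by rw [hy]; group⟩
  have h1 : x ^ (j - 1) = 1 := by
    have hKj : x ^ (j - 1) ∈ K := by
      have := inv_mem (htriv y hyC)
      rw [show (x * y * x⁻¹ * y⁻¹)⁻¹ = y * x * y⁻¹ * x⁻¹ by group, hyx] at this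
      rwa [zpow_sub_one]
    refine orderOf_eq_one_iff.1 (Nat.eq_one_of_dvd_coprimes hK (Subgroup.orderOf_dvd_natCard K hKj) ?_)
    refine orderOf_dvd_of_pow_eq_one ?_
    rw [← zpow_natCast, ← zpow_mul, mul_comm, zpow_mul, zpow_natCast, hx, one_zpow]
  show y * x = x * y
  have hj1 : x ^ j = x := by
    rw [show j = j - 1 + 1 by ring, zpow_add, h1, zpow_one, one_mul]
  rw [hj1] at hyx
  exact mul_inv_eq_iff_eq_mul.1 hyx

set_option maxHeartbeats 2000000 in
/-- The two possibilities. -/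
theorem dichotomy (h7a : ¬ 7 ∣ Nat.card (centralizer ({D.a} : Set G))) :
    ∃ K : Subgroup G, K ≤ centralizer (D.W : Set G) ∧ D.W ≤ K ∧ (Nat.card K).Coprime 3 ∧
      (∀ g ∈ centralizer (D.W : Set G), ∀ k ∈ K, g * k * g⁻¹ ∈ K) ∧ (∀ k ∈ K, D.e * k * D.e⁻¹ ∈ K) ∧
      (Nat.card (centralizer (D.W : Set G)) ∣ 6 * Nat.card K ∨
        (Nat.card (centralizer (D.W : Set G)) = 60 * Nat.card K ∧
          ∃ i : Fin 3, ∀ g ∈ centralizer (D.W : Set G), ∃ k ∈ K, ∃ y ∈ centralizer (D.W : Set G),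
            Commute y (D.a ^ (i : ℕ) * D.e) ∧ g = k * y)) := by
  classical
  have : Fact (Nat.Prime 3) := ⟨Nat.prime_three⟩
  let Cg := centralizer (D.W : Set G)
  let W' : Subgroup Cg := D.W.subgroupOf Cg
  haveI hWn : W'.Normal := ⟨fun w hw g => by
    show (g : G) * w * (g : G)⁻¹ ∈ D.W
    rw [D.comm_W g.2 (show (w : G) ∈ D.W from hw), mul_inv_cancel_right]; exact hw⟩
  let π : Cg →* Cg ⧸ W' := QuotientGroup.mk' W'
  have hsurj := QuotientGroup.mk'_surjective W'
  have hker : ∀ x : Cg, π x = 1 ↔ (x : G) ∈ D.W := fun x => QuotientGroup.eq_one_iff x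
  have hcW : Nat.card W' = 4 := (Nat.card_congr (subgroupOfEquivOfLe D.W_le).toEquiv).trans D.cardW
  let a' : Cg := ⟨D.a, D.a_mem⟩
  have ha3 : orderOf D.a = 3 := orderOf_eq_prime D.a3 D.a1
  have haW : D.a ∉ D.W := by
    intro h
    have := Subgroup.orderOf_dvd_natCard D.W h
    rw [ha3, D.cardW] at this
    norm_num at this
  have hX : Nat.card (zpowers (π a')) = 3 := by
    rw [Nat.card_zpowers]
    exact orderOf_eq_prime (by rw [← map_pow, hker]; simp [a', D.a3]) (fun h => haW ((hker a').1 h))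
  have hcent : centralizer (zpowers (π a') : Set (Cg ⧸ W')) = zpowers (π a') := by
    refine le_antisymm (fun q hq => ?_) (fun q hq => ?_)
    · obtain ⟨x, rfl⟩ := hsurj q
      have h := mem_centralizer_iff.1 hq (π a') (mem_zpowers _)
      rw [← map_mul, ← map_mul] at h
      obtain ⟨w, hw, hxw⟩ : ∃ w ∈ D.W, (x : G) * D.a * (x : G)⁻¹ = w * D.a := by
        refine ⟨(x : G) * D.a * (x : G)⁻¹ * D.a⁻¹, ?_, by group⟩
        refine (hker (x * a' * x⁻¹ * a'⁻¹)).1 ?_
        rw [map_mul, map_mul π (x * a'), ← h, ← map_mul, ← map_mul]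
        rw [show a' * x * x⁻¹ * a'⁻¹ = 1 by group, map_one]
      have hw1 : w = 1 := by
        have h3 : (w * D.a) ^ 3 = 1 := by rw [← hxw, conj_pow, D.a3]; group
        rw [(show Commute w D.a from (D.ha w hw).symm).mul_pow, D.a3, mul_one, pow_succ, pow_two, D.sq w hw,
          one_mul] at h3
        exact h3
      obtain ⟨i, hi⟩ := D.self x x.2 (by rw [hw1, one_mul, mul_inv_eq_iff_eq_mul] at hxw; exact hxw)
      have : π (x * (a' ^ (i : ℕ))⁻¹) = 1 := (hker _).2 (by simpa [a'] using hi)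
      rw [map_mul, map_inv, map_pow, mul_inv_eq_one] at this
      rw [this]
      exact pow_mem (mem_zpowers _) _
    · refine mem_centralizer_iff.2 fun z hz => ?_
      obtain ⟨i, rfl⟩ := mem_zpowers_iff.1 hq
      obtain ⟨j, rfl⟩ := mem_zpowers_iff.1 hz
      rw [← zpow_add, ← zpow_add, add_comm]
  obtain ⟨ε, hε⟩ : ∃ ε : Cg →* Cg, ∀ x, (ε x : G) = D.e * x * D.e⁻¹ :=
    ⟨((MulAut.conj D.e).toMonoidHom.comp Cg.subtype).codRestrict Cg fun x => D.e_conj x.2, fun x => rfl⟩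
  -- the conclusion from a normal subgroup with small quotient
  have build : ∀ (N : Subgroup (Cg ⧸ W')) (_ : N.Normal), (Nat.card N).Coprime 3 →
      (∀ M : Subgroup ((Cg ⧸ W') ⧸ N), M.Normal → (Nat.card M).Coprime 3 → M = ⊥) →
      ∃ K : Subgroup G, K ≤ Cg ∧ D.W ≤ K ∧ (Nat.card K).Coprime 3 ∧ (∀ g ∈ Cg, ∀ k ∈ K, g * k * g⁻¹ ∈ K) ∧
        (∀ k ∈ K, D.e * k * D.e⁻¹ ∈ K) ∧ Nat.card Cg = Nat.card ((Cg ⧸ W') ⧸ N) * Nat.card K ∧
        ∀ x : Cg, QuotientGroup.mk' N (π x) = 1 ↔ (x : G) ∈ K := by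
    intro N _ hN hM
    let ρ : Cg →* (Cg ⧸ W') ⧸ N := (QuotientGroup.mk' N).comp π
    have hρ : Function.Surjective ρ := (QuotientGroup.mk'_surjective N).comp hsurj
    have hiff : ∀ x : Cg, ρ x = 1 ↔ (x : G) ∈ ρ.ker.map Cg.subtype := fun x =>
      ⟨fun h => ⟨x, h, rfl⟩, fun ⟨y, hy, h⟩ => Subtype.ext h ▸ hy⟩
    have hkc : Nat.card ρ.ker = 4 * Nat.card N := by
      have h1 : Nat.card Cg = Nat.card (Cg ⧸ W') * 4 := by
        rw [← hcW]; exact Subgroup.card_eq_card_quotient_mul_card_subgroup W'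
      have h2 := Subgroup.card_eq_card_quotient_mul_card_subgroup N
      have h3 := ρ.ker.card_mul_index
      rw [Subgroup.index_ker, MonoidHom.range_eq_top.2 hρ, Subgroup.card_top, h1, h2] at h3
      refine Nat.eq_of_mul_eq_mul_right (Nat.card_pos (α := (Cg ⧸ W') ⧸ N)) ?_
      linarith
    have hKc : (Nat.card (ρ.ker.map Cg.subtype)).Coprime 3 := by
      rw [Subgroup.card_map_of_injective Cg.subtype_injective, hkc]
      exact Nat.Coprime.mul_left (by norm_num) hN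
    refine ⟨ρ.ker.map Cg.subtype, map_subtype_le _, fun w hw => ?_, hKc, ?_, ?_, ?_, hiff⟩
    · refine ⟨⟨w, D.W_le hw⟩, ?_, rfl⟩
      show QuotientGroup.mk' N (π _) = 1
      rw [(hker _).2 hw, map_one]
    · rintro g hg _ ⟨k, hk, rfl⟩
      exact ⟨⟨g, hg⟩ * k * ⟨g, hg⟩⁻¹, (MonoidHom.normal_ker ρ).conj_mem k hk _, rfl⟩
    · rintro _ ⟨k, hk, rfl⟩
      refine (hiff (ε k)).1 ?_ |> (hε k ▸ ·)
      have hn : ((ρ.ker.map ε).map ρ).Normal := by
        refine ⟨fun m hm q => ?_⟩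
        obtain ⟨_, ⟨m, hm', rfl⟩, rfl⟩ := hm
        obtain ⟨g, rfl⟩ := hρ q
        obtain ⟨g', hg'⟩ : ∃ g', ε g' = g :=
          (Finite.injective_iff_surjective.1 (fun x y h => Subtype.ext (mul_left_cancel (mul_right_cancel
            (((hε x).symm.trans (congrArg Subtype.val h)).trans (hε y))))) g)
        refine ⟨ε (g' * m * g'⁻¹), ⟨_, (MonoidHom.normal_ker ρ).conj_mem m hm' g', rfl⟩, ?_⟩
        simp only [map_mul, map_inv, hg']
      have hc : (Nat.card ((ρ.ker.map ε).map ρ)).Coprime 3 := by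
        refine Nat.Coprime.coprime_dvd_left ?_ (show (Nat.card ρ.ker).Coprime 3 by
          rw [hkc]; exact Nat.Coprime.mul_left (by norm_num) hN)
        exact (Subgroup.card_dvd_of_surjective _ (ρ.subgroupMap_surjective _)).trans
          (Subgroup.card_dvd_of_surjective _ (ε.subgroupMap_surjective _))
      exact mem_bot.1 (hM _ hn hc ▸ ⟨ε k, ⟨k, hk, rfl⟩, rfl⟩)
    · rw [Subgroup.card_map_of_injective Cg.subtype_injective]
      have h3 := ρ.ker.card_mul_index
      rw [Subgroup.index_ker, MonoidHom.range_eq_top.2 hρ, Subgroup.card_top] at h3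
      rw [← h3, mul_comm]
  rcases Cfsg.Agent.S3331.result (zpowers (π a')) hX hcent with
    ⟨N, hN, -, hNc, hq⟩ | ⟨N, hN, -, hN2, hi5⟩ | hPSL
  · obtain ⟨K, h1, h2, h3, h4, h5, h6, -⟩ := build N hN hNc fun M hMn hMc => by
      have h36 : Nat.card ((Cg ⧸ W') ⧸ N) = 3 ∨ Nat.card ((Cg ⧸ W') ⧸ N) = 6 := by
        rcases hq with h | hiso
        · exact Or.inl h
        · obtain ⟨i⟩ := hiso
          exact Or.inr ((Nat.card_congr i.toEquiv).trans (by rw [Nat.card_perm, Nat.card_fin]; rfl))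
      have hd : Nat.card M ∣ 2 := by
        refine Nat.Coprime.dvd_of_dvd_mul_left (n := 2) (m := 3) hMc ?_
        refine (Subgroup.card_subgroup_dvd_card M).trans ?_
        rcases h36 with h | h <;> rw [h] <;> norm_num
      rcases (Nat.dvd_prime Nat.prime_two).1 hd with h | h
      · exact Subgroup.card_eq_one.1 h
      · exfalso
        rcases hq with h' | hiso
        · have := Subgroup.card_subgroup_dvd_card M
          rw [h, h'] at this; norm_num at this
        · obtain ⟨i⟩ := hiso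
          obtain ⟨m, hm, hm1⟩ := M.bot_or_exists_ne_one.resolve_left fun e => by
            rw [e, Subgroup.card_bot] at h; norm_num at h
          have huniq : ∀ z ∈ M, z ≠ 1 → z = m := by
            intro z hz hz1
            obtain ⟨p, q, hpq, huniv⟩ := Nat.card_eq_two_iff.1 h
            have hh : ∀ w : M, w = p ∨ w = q := fun w => by
              have := Set.eq_univ_iff_forall.1 huniv w; simpa using this
            rcases hh ⟨z, hz⟩ with a | a <;> rcases hh ⟨m, hm⟩ with b | b <;> rcases hh 1 with c | c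
            all_goals first
              | exact congrArg Subtype.val (a.trans b.symm)
              | exact absurd (congrArg Subtype.val (a.trans c.symm)) hz1
              | exact absurd (congrArg Subtype.val (b.trans c.symm)) hm1
          have hm2 : m * m = 1 := by
            by_contra hne
            exact hm1 (mul_eq_left.1 (huniq _ (mul_mem hm hm) hne))
          refine hm1 (i.map_eq_one_iff.1 (center_three _ (by rw [← map_mul, hm2, map_one]) fun g => ?_))
          obtain ⟨g, rfl⟩ := i.surjective g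
          rw [← map_inv, ← map_mul, ← map_mul,
            huniq _ (hMn.conj_mem m hm g) (fun e => hm1 (conj_eq_one_iff.1 e))]
    refine ⟨K, h1, h2, h3, h4, h5, Or.inl ?_⟩
    rw [h6]
    refine Nat.mul_dvd_mul_right ?_ _
    rcases hq with h | hiso
    · rw [h]; norm_num
    · obtain ⟨i⟩ := hiso
      rw [Nat.card_congr i.toEquiv, Nat.card_perm, Nat.card_fin]; rfl
  · obtain ⟨i5⟩ := hi5
    have hNc : (Nat.card N).Coprime 3 := by
      have hp2 : IsPGroup 2 N := fun n => ⟨1, Subtype.ext (by simpa using hN2 n n.2)⟩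
      haveI : Fact (Nat.Prime 2) := ⟨Nat.prime_two⟩
      obtain ⟨m, hm⟩ := IsPGroup.iff_card.1 hp2
      rw [hm]; exact Nat.Coprime.pow_left _ (by norm_num)
    haveI : IsSimpleGroup A5 := alternatingGroup.isSimpleGroup (by simp)
    obtain ⟨K, h1, h2, h3, h4, h5, h6, hiff⟩ := build N hN hNc fun M hMn hMc => by
      haveI : IsSimpleGroup ((Cg ⧸ W') ⧸ N) := i5.isSimpleGroup
      refine hMn.eq_bot_or_eq_top.resolve_right fun h => ?_
      rw [h, Subgroup.card_top, Nat.card_congr i5.toEquiv, show Nat.card A5 = 60 by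
        rw [nat_card_alternatingGroup, Nat.card_fin]; rfl] at hMc
      norm_num at hMc
    refine ⟨K, h1, h2, h3, h4, h5, Or.inr ⟨?_, ?_⟩⟩
    · rw [h6, Nat.card_congr i5.toEquiv, nat_card_alternatingGroup, Nat.card_fin]; rfl
    let ρ : Cg →* (Cg ⧸ W') ⧸ N := (QuotientGroup.mk' N).comp π
    have hρ : Function.Surjective ρ := (QuotientGroup.mk'_surjective N).comp hsurj
    have hkiff : ∀ x : Cg, ρ x = 1 ↔ (x : G) ∈ K := hiff
    have hkb : ρ a' ≠ 1 := by
      intro h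
      have hd := Subgroup.orderOf_dvd_natCard K ((hkiff a').1 h)
      rw [ha3] at hd
      exact absurd (Nat.eq_one_of_dvd_coprimes h3 hd dvd_rfl) (by norm_num)
    have hcube : (i5 (ρ a')) ^ 3 = 1 := by
      rw [← map_pow, ← map_pow, show a' ^ 3 = 1 from Subtype.ext D.a3, map_one, map_one]
    obtain ⟨σ, hσ⟩ := five_conj _ hcube (fun e => hkb (i5.map_eq_one_iff.1 e))
    let ι : ((Cg ⧸ W') ⧸ N) ≃* A5 := i5.trans (MulAut.conjNormal σ)
    have hιa : ι (ρ a') = B5 := Subtype.ext (by simpa [ι] using hσ)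
    obtain ⟨γ0, hdef⟩ : ∃ γ0 : A5 → A5, ∀ x : Cg, γ0 (ι (ρ x)) = ι (ρ (ε x)) := by
      refine ⟨fun q => ι (ρ (ε (Function.surjInv (ι.surjective.comp hρ) q))), fun x => ?_⟩
      obtain ⟨y, hy⟩ : ∃ y, y = Function.surjInv (ι.surjective.comp hρ) (ι (ρ x)) := ⟨_, rfl⟩
      show ι (ρ (ε (Function.surjInv (ι.surjective.comp hρ) (ι (ρ x))))) = _
      rw [← hy]
      have h : ι (ρ y) = ι (ρ x) := hy ▸ Function.surjInv_eq (ι.surjective.comp hρ) _
      have hyx : ((x⁻¹ * y : Cg) : G) ∈ K :=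
        (hkiff _).1 (by rw [map_mul, map_inv, ι.injective h, inv_mul_cancel])
      have : ρ (ε (x⁻¹ * y)) = 1 := (hkiff _).2 (by rw [hε]; exact h5 _ hyx)
      rw [map_mul, map_mul, map_inv, map_inv, inv_mul_eq_one] at this
      rw [this]
    have hγm : ∀ p q, γ0 (p * q) = γ0 p * γ0 q := by
      intro p q
      obtain ⟨x, rfl⟩ := (ι.surjective.comp hρ) p
      obtain ⟨y, rfl⟩ := (ι.surjective.comp hρ) q
      simp only [Function.comp_apply]
      rw [← map_mul, ← map_mul, hdef, hdef, hdef, map_mul, map_mul, map_mul]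
    have hγ3 : ∀ q, γ0 (γ0 (γ0 q)) = q := by
      intro q
      obtain ⟨x, rfl⟩ := (ι.surjective.comp hρ) q
      simp only [Function.comp_apply]
      rw [hdef, hdef, hdef]
      refine congrArg (fun z => ι (ρ z)) (Subtype.ext ?_)
      rw [hε, hε, hε,
        show D.e * (D.e * (D.e * (x : G) * D.e⁻¹) * D.e⁻¹) * D.e⁻¹ = D.e ^ 3 * x * (D.e ^ 3)⁻¹ by
          rw [pow_succ, pow_two]; group, D.e3]
      group
    let γ : A5 ≃* A5 := { toFun := γ0, invFun := fun q => γ0 (γ0 q), left_inv := hγ3, right_inv := hγ3,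
                          map_mul' := hγm }
    obtain ⟨i, hi⟩ := auto_five γ (by
      show γ0 B5 = B5
      rw [← hιa, hdef]
      refine congrArg (fun z => ι (ρ z)) (Subtype.ext ?_)
      rw [hε]
      show D.e * D.a * D.e⁻¹ = D.a
      rw [← D.ae, mul_inv_cancel_right]) hγ3
    obtain ⟨j, hj⟩ : ∃ j : Fin 3, j = -i := ⟨_, rfl⟩
    refine ⟨j, fun g hg => D.factor h1 h4 h3 ?_ ?_ (fun k hk => ?_) (fun g hg => ?_) hg⟩
    · rw [(show Commute (D.a ^ (j : ℕ)) D.e from (show Commute D.a D.e from D.ae).pow_left _).mul_pow, D.e3,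
        mul_one, ← pow_mul, mul_comm, pow_mul, D.a3, one_pow]
    · intro h
      exact D.sep (by rw [eq_inv_of_mul_eq_one_right h]; exact inv_mem (pow_mem (mem_zpowers _) _))
    · have := h4 _ (pow_mem D.a_mem (j : ℕ)) _ (h5 k hk)
      convert this using 1
      group
    · have hg' := D.e_conj hg
      have hmemC : D.a ^ (j : ℕ) * (D.e * g * D.e⁻¹) * (D.a ^ (j : ℕ))⁻¹ * g⁻¹ ∈ Cg :=
        mul_mem (mul_mem (mul_mem (pow_mem D.a_mem _) hg') (inv_mem (pow_mem D.a_mem _))) (inv_mem hg)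
      rw [show D.a ^ (j : ℕ) * D.e * g * (D.a ^ (j : ℕ) * D.e)⁻¹ * g⁻¹ =
        D.a ^ (j : ℕ) * (D.e * g * D.e⁻¹) * (D.a ^ (j : ℕ))⁻¹ * g⁻¹ by group]
      refine (hkiff ⟨_, hmemC⟩).1 (ι.injective ?_)
      have heq : (⟨_, hmemC⟩ : Cg) = a' ^ (j : ℕ) * ε ⟨g, hg⟩ * (a' ^ (j : ℕ))⁻¹ * (⟨g, hg⟩ : Cg)⁻¹ :=
        Subtype.ext (by push_cast; rw [hε])
      rw [heq]
      simp only [map_mul, map_inv, map_pow, map_one, hιa]
      rw [← hdef, show γ0 (ι (ρ ⟨g, hg⟩)) = γ (ι (ρ ⟨g, hg⟩)) from rfl, hi]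
      have hji : ∀ i : Fin 3, B5 ^ ((-i : Fin 3) : ℕ) * B5 ^ (i : ℕ) = 1 := by decide +kernel
      calc B5 ^ (j : ℕ) * (B5 ^ (i : ℕ) * ι (ρ ⟨g, hg⟩) * (B5 ^ (i : ℕ))⁻¹) * (B5 ^ (j : ℕ))⁻¹ * (ι (ρ ⟨g, hg⟩))⁻¹
          = B5 ^ (j : ℕ) * B5 ^ (i : ℕ) * ι (ρ ⟨g, hg⟩) * (B5 ^ (j : ℕ) * B5 ^ (i : ℕ))⁻¹ * (ι (ρ ⟨g, hg⟩))⁻¹ := by
            group
        _ = 1 := by rw [hj, hji]; group
  · exfalso
    obtain ⟨ePSL⟩ := hPSL
    haveI : Fact (Nat.Prime 7) := ⟨by norm_num⟩
    have hC : Nat.card Cg = 672 := by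
      rw [Subgroup.card_eq_card_quotient_mul_card_subgroup W', hcW, Nat.card_congr ePSL.toEquiv, card_psl_seven]
    obtain ⟨E, hE⟩ : ∃ E : Subgroup G, E = closure ({D.a, D.e} : Set G) := ⟨_, rfl⟩
    have hEN : E ≤ normalizer (Cg : Set G) := by
      rw [hE, closure_le]
      rintro y (rfl | rfl)
      · exact le_normalizer D.a_mem
      · exact Subgroup.mem_normalizer_iff_map_conj_eq.2 (Subgroup.eq_of_le_of_card_ge
          (by rintro _ ⟨k, hk, rfl⟩; exact D.e_conj hk) (by rw [Subgroup.card_map_of_injective (MulAut.conj D.e).injective]))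
    let act : E →* MulAut Cg := Cg.normalizerMonoidHom.comp (inclusion hEN)
    letI : MulAction E (Sylow 7 Cg) := MulAction.compHom _ act
    have hEc : ∀ x ∈ E, x ^ 3 = 1 := by
      have hcm := Subgroup.isMulCommutative_closure (k := ({D.a, D.e} : Set G)) (by
        intro a ha b hb
        rcases ha with rfl | rfl <;> rcases hb with rfl | rfl
        exacts [rfl, D.ae, D.ae.symm, rfl])
      intro x hx
      rw [hE] at hx
      induction hx using Subgroup.closure_induction with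
      | mem y hy => rcases hy with rfl | rfl; exacts [D.a3, D.e3]
      | one => simp
      | mul y z hy hz e1 e2 =>
        rw [(show Commute y z from congrArg Subtype.val (hcm.is_comm.comm ⟨y, hy⟩ ⟨z, hz⟩)).mul_pow, e1, e2, one_mul]
      | inv y _ e1 => rw [inv_pow, e1, inv_one]
    have hEp : IsPGroup 3 E := fun x => ⟨1, Subtype.ext (by simpa using hEc x x.2)⟩
    obtain ⟨P0⟩ : Nonempty (Sylow 7 Cg) := inferInstance
    have hP7 : ∀ P : Sylow 7 Cg, Nat.card P = 7 := fun P => by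
      rw [Sylow.card_eq_multiplicity, hC, show (672 : ℕ) = 7 ^ 1 * 96 by norm_num,
        Nat.factorization_mul (by norm_num) (by norm_num), Finsupp.add_apply, Nat.Prime.factorization_pow (by norm_num),
        Finsupp.single_eq_same, Nat.factorization_eq_zero_of_not_dvd (by norm_num), add_zero, pow_one]
    have hn3 : ¬ 3 ∣ Nat.card (Sylow 7 Cg) := by
      have h1 : Nat.card (Sylow 7 Cg) ≡ 1 [MOD 7] := card_sylow_modEq_one 7 Cg
      have h2 : Nat.card (Sylow 7 Cg) ∣ 96 := by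
        have h := P0.card_dvd_index
        have hi := (P0 : Subgroup Cg).card_mul_index
        rw [hP7 P0, hC] at hi
        rwa [show (P0 : Subgroup Cg).index = 96 by omega] at h
      have h1' : Nat.card (Sylow 7 Cg) % 7 = 1 := h1
      have key : ∀ n ∈ Nat.divisors 96, n % 7 = 1 → ¬ 3 ∣ n := by decide +kernel
      exact key _ (Nat.mem_divisors.2 ⟨h2, by norm_num⟩) h1'
    obtain ⟨P, hP⟩ := hEp.nonempty_fixed_point_of_prime_not_dvd_card (Sylow 7 Cg) hn3
    obtain ⟨s, hs⟩ : ∃ s : (P : Subgroup Cg), orderOf s = 7 := exists_prime_orderOf_dvd_card' 7 (by rw [hP7])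
    have hzs : zpowers s = ⊤ := Subgroup.eq_top_of_card_eq _ (by rw [Nat.card_zpowers, hs, hP7])
    have hact : ∀ x ∈ E, ∃ k : ℕ, x * ((s : Cg) : G) * x⁻¹ = ((s : Cg) : G) ^ k := by
      intro x hx
      have hPx : ((⟨x, hx⟩ : E) • P : Sylow 7 Cg) = P := hP ⟨x, hx⟩
      have hmem : act ⟨x, hx⟩ (s : Cg) ∈ (P : Subgroup Cg) := by
        have hm : act ⟨x, hx⟩ (s : Cg) ∈ (((⟨x, hx⟩ : E) • P : Sylow 7 Cg) : Subgroup Cg) := ⟨s, s.2, rfl⟩
        rwa [hPx] at hm
      have h' : (⟨_, hmem⟩ : (P : Subgroup Cg)) ∈ zpowers s := hzs ▸ mem_top _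
      rw [← mem_powers_iff_mem_zpowers] at h'
      obtain ⟨k, hk⟩ := h'
      refine ⟨k, ?_⟩
      have := congrArg (fun z : (P : Subgroup Cg) => ((z : Cg) : G)) hk
      simpa [act] using this.symm
    have haE : D.a ∈ E := hE ▸ subset_closure (Set.mem_insert _ _)
    have heE : D.e ∈ E := hE ▸ subset_closure (Set.mem_insert_of_mem _ rfl)
    obtain ⟨k, hk⟩ := hact D.a haE
    obtain ⟨l, hl⟩ := hact D.e heE
    obtain ⟨S, hSdef⟩ : ∃ S : G, S = ((s : Cg) : G) := ⟨_, rfl⟩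
    rw [← hSdef] at hk hl
    have hS7 : orderOf S = 7 := by rw [hSdef, Subgroup.orderOf_coe, Subgroup.orderOf_coe, hs]
    have hpow : ∀ m n : ℕ, S ^ m = S ^ n ↔ (m : ZMod 7) = (n : ZMod 7) := fun m n => by
      rw [pow_inj_mod, hS7, ZMod.natCast_eq_natCast_iff']
    have conj3 : ∀ (x : G) (m : ℕ), x ^ 3 = 1 → x * S * x⁻¹ = S ^ m → ((m : ZMod 7)) ^ 3 = 1 := by
      intro x m hx hm
      have h1 : ∀ n, x * S ^ n * x⁻¹ = S ^ (m * n) := fun n => by rw [← conj_pow, hm, ← pow_mul]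
      have h3 : S ^ (m * (m * m)) = S ^ 1 := by
        rw [← h1, ← h1, pow_one]
        conv_lhs => rw [← hm]
        calc x * (x * (x * S * x⁻¹) * x⁻¹) * x⁻¹ = x ^ 3 * S * (x ^ 3)⁻¹ := by rw [pow_succ, pow_two]; group
          _ = S := by rw [hx]; group
      rw [hpow] at h3
      push_cast at h3
      rw [pow_succ', pow_two]; exact h3
    have c7 : ∀ x : G, x * S = S * x → 7 ∣ Nat.card (centralizer ({x} : Set G)) := fun x hx => by
      rw [← hS7]; exact Subgroup.orderOf_dvd_natCard _ (mem_centralizer_singleton_iff.2 hx.symm)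
    rcases seven_lines k l (conj3 _ _ D.a3 hk) (conj3 _ _ D.e3 hl) with h1 | ⟨i, hi⟩
    · refine h7a (c7 _ (mul_inv_eq_iff_eq_mul.1 ?_))
      rw [hk, (hpow k 1).2 (by simpa using h1), pow_one]
    · refine D.seven i (c7 _ (mul_inv_eq_iff_eq_mul.1 ?_))
      have h2 : ∀ n, D.a ^ n * S * (D.a ^ n)⁻¹ = S ^ k ^ n := by
        intro n
        induction n with
        | zero => simp
        | succ n ih =>
          rw [pow_succ', show D.a * D.a ^ n * S * (D.a * D.a ^ n)⁻¹ = D.a * (D.a ^ n * S * (D.a ^ n)⁻¹) * D.a⁻¹ by group,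
            ih, ← conj_pow, hk, ← pow_mul, ← pow_succ']
      calc D.a ^ (i : ℕ) * D.e * S * (D.a ^ (i : ℕ) * D.e)⁻¹
          = D.a ^ (i : ℕ) * (D.e * S * D.e⁻¹) * (D.a ^ (i : ℕ))⁻¹ := by group
        _ = S := by
          rw [hl, ← conj_pow, h2, ← pow_mul]
          nth_rewrite 2 [← pow_one S]
          rw [hpow]
          push_cast
          exact hi

end Quad

end Cfsg.Lib.AltNineLocal
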