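import Cfsg.Agent.LocalThree.AltNineLocal.Conj
import Cfsg.Agent.LocalThree.AltNineLocal.FourData
import Cfsg.Agent.LocalThree.AltNineLocal.Quad

/-!
The centraliser of a four-group in the centraliser of a three-cycle.
-/

set_option autoImplicit false
set_option linter.unusedSectionVars false
set_option synthInstance.maxSize 4096
set_option maxRecDepth 100000
set_option maxHeartbeats 1000000

namespace Cfsg.Lib.AltNineLocal

open Equiv Subgroup Cfsg.Lib.Monomial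

universe u

/-- A four-group. -/
def fourGrp {H : Type u} [Group H] (x y : H) (hx : x * x = 1) (hy : y * y = 1) (hxy : x * y = y * x) : Subgroup H where
  carrier := {g | g = 1 ∨ g = x ∨ g = y ∨ g = x * y}
  one_mem' := Or.inl rfl
  mul_mem' {a b} ha hb := by
    have e1 : x * (x * y) = y := by rw [← mul_assoc, hx, one_mul]
    have e2 : y * x = x * y := hxy.symm
    have e3 : y * (x * y) = x := by rw [← mul_assoc, e2, mul_assoc, hy, mul_one]
    have e4 : x * y * x = y := by rw [mul_assoc, e2, e1]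
    have e5 : x * y * y = x := by rw [mul_assoc, hy, mul_one]
    have e6' : x * y * (x * y) = 1 := by rw [← mul_assoc, e4, hy]
    rcases ha with rfl | rfl | rfl | rfl <;> rcases hb with rfl | rfl | rfl | rfl <;>
      simp [hx, hy, e1, e2, e3, e4, e5, e6']
  inv_mem' {a} ha := by
    have e6' : x * y * (x * y) = 1 := by
      rw [mul_assoc, ← mul_assoc y, ← hxy, mul_assoc x y y, hy, mul_one, hx]
    rcases ha with rfl | rfl | rfl | rfl
    · exact Or.inl inv_one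
    · exact Or.inr (Or.inl (inv_eq_of_mul_eq_one_right hx))
    · exact Or.inr (Or.inr (Or.inl (inv_eq_of_mul_eq_one_right hy)))
    · exact Or.inr (Or.inr (Or.inr (inv_eq_of_mul_eq_one_right e6')))

theorem mem_fourGrp {H : Type u} [Group H] {x y : H} {hx : x * x = 1} {hy : y * y = 1} {hxy : x * y = y * x} {g : H} :
    g ∈ fourGrp x y hx hy hxy ↔ g = 1 ∨ g = x ∨ g = y ∨ g = x * y := Iff.rfl

theorem card_fourGrp {H : Type u} [Group H] {x y : H} {hx : x * x = 1} {hy : y * y = 1} {hxy : x * y = y * x}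
    (h1 : x ≠ 1) (h2 : y ≠ 1) (h3 : x ≠ y) : Nat.card (fourGrp x y hx hy hxy) = 4 := by
  classical
  have hz1 : x * y ≠ 1 := fun e => h3 ((inv_eq_of_mul_eq_one_right hx).symm.trans (inv_eq_of_mul_eq_one_right e))
  have hzx : x * y ≠ x := fun e => h2 (mul_eq_left.1 e)
  have hzy : x * y ≠ y := fun e => h1 (mul_eq_right.1 e)
  rw [show Nat.card (fourGrp x y hx hy hxy) = Nat.card ({1, x, y, x * y} : Finset H) from
    Nat.card_congr (Equiv.subtypeEquivRight fun g => by simp [mem_fourGrp]), Nat.card_eq_finsetCard]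
  rw [Finset.card_insert_of_notMem (by simp [h1.symm, h2.symm, hz1.symm]),
    Finset.card_insert_of_notMem (by simp [h3, hzx.symm]), Finset.card_insert_of_notMem (by simp [hzy.symm]),
    Finset.card_singleton]

theorem four_no_fix : ∀ σ : Perm (Fin 6), Perm.sign σ = 1 → σ * σ ≠ 1 → σ * σ * (σ * σ) = 1 →
    ∀ i, σ i ≠ i := by decide +kernel

/-- A subgroup of index six in the alternating group of degree six has no element of order four. -/
theorem no_four_sixty (Y : Subgroup A6) (hY : Nat.card Y = 60) {w : A6} (hw : w ∈ Y) :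
    ¬ (w * w ≠ 1 ∧ w * w * (w * w) = 1) := by
  classical
  rintro ⟨h2, h4⟩
  haveI : IsSimpleGroup A6 := alternatingGroup.isSimpleGroup (by simp)
  have hidx : Nat.card (A6 ⧸ Y) = 6 := by
    have h := Subgroup.card_eq_card_quotient_mul_card_subgroup Y
    rw [hY, nat_card_alternatingGroup, Nat.card_fin, show Nat.factorial 6 = 720 from rfl] at h
    omega
  haveI : Finite (A6 ⧸ Y) := inferInstance
  let q : A6 ⧸ Y ≃ Fin 6 := (Finite.equivFin _).trans (finCongr hidx)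
  let ρ : A6 →* Perm (Fin 6) := (q.permCongrHom : Perm (A6 ⧸ Y) ≃* Perm (Fin 6)).toMonoidHom.comp
    (MulAction.toPermHom A6 (A6 ⧸ Y))
  have hfix : ∀ y ∈ Y, ρ y (q ((1 : A6) : A6 ⧸ Y)) = q ((1 : A6) : A6 ⧸ Y) := by
    intro y hy
    show q (y • ((q.symm (q ((1 : A6) : A6 ⧸ Y))))) = _
    rw [q.symm_apply_apply, MulAction.Quotient.smul_mk Y y 1]
    exact congrArg q (QuotientGroup.eq.2 (by simpa using hy))
  have hsgn : ∀ x, Perm.sign (ρ x) = 1 := by
    intro x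
    rcases ((Perm.sign.comp ρ).normal_ker).eq_bot_or_eq_top with h | h
    · exfalso
      have hinj := (MonoidHom.ker_eq_bot_iff _).1 h
      exact (show B6 * R6 ≠ R6 * B6 by decide +kernel) (hinj (by rw [map_mul, map_mul, mul_comm]))
    · have hx : x ∈ (Perm.sign.comp ρ).ker := by rw [h]; exact mem_top x
      exact hx
  have hinj : Function.Injective ρ := by
    rw [← MonoidHom.ker_eq_bot_iff]
    refine ρ.normal_ker.eq_bot_or_eq_top.resolve_right fun h => ?_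
    have hY1 : Y = ⊤ := eq_top_iff.2 fun x _ => by
      have hx : ρ x (q ((1 : A6) : A6 ⧸ Y)) = q ((1 : A6) : A6 ⧸ Y) := by
        rw [MonoidHom.mem_ker.1 (h ▸ mem_top x)]; rfl
      have hx' : x • ((q.symm (q ((1 : A6) : A6 ⧸ Y)))) = ((1 : A6) : A6 ⧸ Y) := q.injective hx
      rw [q.symm_apply_apply, MulAction.Quotient.smul_mk Y x 1] at hx'
      simpa using QuotientGroup.eq.1 hx'.symm
    rw [hY1, Subgroup.card_top, nat_card_alternatingGroup, Nat.card_fin, show Nat.factorial 6 = 720 from rfl] at hY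
    omega
  exact four_no_fix (ρ w) (hsgn w) (fun e => h2 (hinj (by rw [map_mul, map_one]; exact e)))
    (by rw [← map_mul, ← map_mul, h4, map_one]) _ (hfix w hw)

namespace Big

variable {G : Type u} [Group G] [Finite G] (L : Big G)

/-- The embedding of the alternating group attached to a block. -/
def ψ (i : Fin 3) : A6 →* G := (L.f i).comp sndX

include L

theorem ψ_inj (i : Fin 3) : Function.Injective (L.ψ i) := (L.f_inj i).comp sndX_inj

theorem ψ_comm (i : Fin 3) (x : A6) : L.ψ i x * L.f i aL = L.f i aL * L.ψ i x := L.comm_iff.2 (sndX_comm x)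

theorem ψ_split {i : Fin 3} {j : Fin 3} {x : A6} :
    L.f i (aL ^ (j : ℕ) * sndX x) = L.f i aL ^ (j : ℕ) * L.ψ i x := by
  rw [map_mul, map_pow]; rfl

/-- The four-group. -/
def R : Subgroup G :=
  fourGrp (L.ψ 0 r1) (L.ψ 0 r2) (by rw [← map_mul, four_spec.1.1, map_one]) (by rw [← map_mul, four_spec.1.2.1, map_one])
    (by rw [← map_mul, four_spec.1.2.2.1, map_mul])

/-- The second four-group. -/
def W : Subgroup G :=
  fourGrp (L.ψ 2 t6) (L.ψ 2 w2) (by rw [← map_mul, four_spec.2.1.1, map_one])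
    (by rw [← map_mul, four_spec.2.1.2.1, map_one]) (by rw [← map_mul, four_spec.2.1.2.2.1, map_mul])

theorem card_R : Nat.card L.R = 4 := card_fourGrp (fun e => four_spec.1.2.2.2.1 ((L.ψ_inj 0) (e.trans (map_one _).symm)))
  (fun e => four_spec.1.2.2.2.2.1 ((L.ψ_inj 0) (e.trans (map_one _).symm)))
  (fun e => four_spec.1.2.2.2.2.2 (L.ψ_inj 0 e))

theorem card_W : Nat.card L.W = 4 := card_fourGrp (fun e => four_spec.2.1.2.2.2.1 ((L.ψ_inj 2) (e.trans (map_one _).symm)))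
  (fun e => four_spec.2.1.2.2.2.2.1 ((L.ψ_inj 2) (e.trans (map_one _).symm)))
  (fun e => four_spec.2.1.2.2.2.2.2 (L.ψ_inj 2 e))

theorem mem_R {g : G} : g ∈ L.R ↔ ∃ τ ∈ [1, r1, r2, r1 * r2], g = L.ψ 0 τ := by
  rw [R, mem_fourGrp]
  simp only [List.mem_cons, List.not_mem_nil, or_false, exists_eq_or_imp, map_one, map_mul, exists_eq_left]

theorem mem_W {g : G} : g ∈ L.W ↔ ∃ τ ∈ [1, t6, w2, t6 * w2], g = L.ψ 2 τ := by
  rw [W, mem_fourGrp]
  simp only [List.mem_cons, List.not_mem_nil, or_false, exists_eq_or_imp, map_one, map_mul, exists_eq_left]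

theorem centR {g : G} : g ∈ centralizer (L.R : Set G) ↔
    g * L.ψ 0 r1 = L.ψ 0 r1 * g ∧ g * L.ψ 0 r2 = L.ψ 0 r2 * g := by
  rw [mem_centralizer_iff]
  refine ⟨fun h => ⟨(h _ (Or.inr (Or.inl rfl))).symm, (h _ (Or.inr (Or.inr (Or.inl rfl)))).symm⟩, fun ⟨h1, h2⟩ w hw => ?_⟩
  rcases hw with rfl | rfl | rfl | rfl
  exacts [by simp, h1.symm, h2.symm, ((show Commute g _ from h1).mul_right (show Commute g _ from h2)).eq.symm]

theorem centW {g : G} : g ∈ centralizer (L.W : Set G) ↔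
    g * L.ψ 2 t6 = L.ψ 2 t6 * g ∧ g * L.ψ 2 w2 = L.ψ 2 w2 * g := by
  rw [mem_centralizer_iff]
  refine ⟨fun h => ⟨(h _ (Or.inr (Or.inl rfl))).symm, (h _ (Or.inr (Or.inr (Or.inl rfl)))).symm⟩, fun ⟨h1, h2⟩ w hw => ?_⟩
  rcases hw with rfl | rfl | rfl | rfl
  exacts [by simp, h1.symm, h2.symm, ((show Commute g _ from h1).mul_right (show Commute g _ from h2)).eq.symm]

/-! ### Elements in two of the embeddings -/

theorem a_eq : L.f 0 aL = L.ψ 2 B6 ∧ L.f 0 aL = L.tr 1 := by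
  refine ⟨L.link (i := 0) (j := 2) ?_ (tv 1) (by decide +kernel), L.f_aL 0⟩
  exact Equiv.ext (by decide +kernel)

theorem c_eq : L.f 2 aL = L.ψ 0 C6 ∧ L.f 2 aL = L.tr 9 := by
  refine ⟨L.link (i := 2) (j := 0) ?_ (tv 9) (by decide +kernel), L.f_aL 2⟩
  exact Equiv.ext (by decide +kernel)

theorem t_eq : L.f 0 tL = L.ψ 2 t6 := by
  refine L.link (i := 0) (j := 2) ?_ tK (by decide +kernel)
  exact Equiv.ext (by decide +kernel)

theorem b_eq : L.ψ 2 C6 = L.tr 3 := by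
  refine L.agree (i := 2) (p := sndX C6) (k := tv 3) (Equiv.ext fun x => ?_)
  rw [toNine_apply]; revert x; decide +kernel

/-- Centralised by a conjugate of an element with two or three nonzero coordinates. -/
theorem fixed_big {K : Subgroup G} (hK : (Nat.card K).Coprime 3) {g : G} {v w : Fin 27}
    (hw : cls (tv w) = 12 ∨ cls (tv w) = 13) (hv : ∀ k ∈ K, g * L.tr v * g⁻¹ * k * (g * L.tr v * g⁻¹)⁻¹ ∈ K)
    {z : G} (hz : z ∈ K) (hzw : z * (g * L.tr w * g⁻¹) = g * L.tr w * g⁻¹ * z) :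
    z * (g * L.tr v * g⁻¹) = g * L.tr v * g⁻¹ * z := by
  obtain ⟨k, hk⟩ := L.toLoc.cent_big hw (x := g⁻¹ * z * g) (mem_centralizer_singleton_iff.2 (by
    calc g⁻¹ * z * g * L.tr w = g⁻¹ * (z * (g * L.tr w * g⁻¹)) * g := by group
      _ = g⁻¹ * (g * L.tr w * g⁻¹ * z) * g := by rw [hzw]
      _ = _ := by group))
  have hmemK : g * L.tr v * g⁻¹ * z * (g * L.tr v * g⁻¹)⁻¹ * z⁻¹ ∈ K := mul_mem (hv z hz) (inv_mem hz)
  have hJ : L.tr v * (g⁻¹ * z * g) * (L.tr v)⁻¹ * (g⁻¹ * z * g)⁻¹ ∈ L.J := by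
    rw [show L.tr v * (g⁻¹ * z * g) * (L.tr v)⁻¹ * (g⁻¹ * z * g)⁻¹ =
      L.tr v * (g⁻¹ * z * g * (L.tr v)⁻¹ * (g⁻¹ * z * g)⁻¹) by group, ← hk]
    exact mul_mem (L.toLoc.tr_mem v) (L.toLoc.conj_mem ⟨k, rfl⟩ (inv_mem (L.toLoc.tr_mem v)))
  obtain ⟨q, hq⟩ : ∃ q, q = g * L.tr v * g⁻¹ * z * (g * L.tr v * g⁻¹)⁻¹ * z⁻¹ := ⟨_, rfl⟩
  rw [← hq] at hmemK
  have hq3 : q ^ 3 = 1 := by
    have e : q = g * (L.tr v * (g⁻¹ * z * g) * (L.tr v)⁻¹ * (g⁻¹ * z * g)⁻¹) * g⁻¹ := by rw [hq]; group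
    rw [e, conj_pow, pow_succ', pow_two, L.toLoc.J_cube hJ]; group
  have h1 := orderOf_eq_one_iff.1 (Nat.eq_one_of_dvd_coprimes hK (Subgroup.orderOf_dvd_natCard K hmemK)
    (orderOf_dvd_of_pow_eq_one hq3))
  rw [hq, mul_inv_eq_one, mul_inv_eq_iff_eq_mul] at h1
  exact h1.symm

theorem card_cent_big {g : G} {w : Fin 27} (hw : cls (tv w) = 12 ∨ cls (tv w) = 13) :
    Nat.card (centralizer ({g * L.tr w * g⁻¹} : Set G)) ∣ 648 := by
  have e : Nat.card (centralizer ({g * L.tr w * g⁻¹} : Set G)) = Nat.card (centralizer ({L.tr w} : Set G)) := by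
    refine (Nat.card_congr ((MulAut.conj g).toEquiv.subtypeEquiv fun c => ?_)).symm
    show c ∈ centralizer ({L.tr w} : Set G) ↔ g * c * g⁻¹ ∈ centralizer ({g * L.tr w * g⁻¹} : Set G)
    rw [mem_centralizer_singleton_iff, mem_centralizer_singleton_iff,
      show (g * c * g⁻¹) * (g * L.tr w * g⁻¹) = g * (c * L.tr w) * g⁻¹ by group,
      show (g * L.tr w * g⁻¹) * (g * c * g⁻¹) = g * (L.tr w * c) * g⁻¹ by group, mul_left_inj, mul_right_inj]
  rw [e, ← L.toLoc.cardH]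
  exact Subgroup.card_dvd_of_le (L.toLoc.cent_big hw)

/-! ### The two configurations -/

/-- The first configuration. -/
def quadR : Quad G where
  W := L.R
  a := L.f 0 aL
  e := L.f 2 aL
  cardW := L.card_R
  sq w hw := by
    obtain ⟨τ, hτ, rfl⟩ := L.mem_R.1 hw
    rw [← map_mul, (show ∀ τ ∈ [1, r1, r2, r1 * r2], τ * τ = 1 by decide +kernel) τ hτ, map_one]
  comm v hv w hw := by
    obtain ⟨σ, hσ, rfl⟩ := L.mem_R.1 hv
    obtain ⟨τ, hτ, rfl⟩ := L.mem_R.1 hw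
    rw [← map_mul, ← map_mul, (show ∀ σ ∈ [1, r1, r2, r1 * r2], ∀ τ ∈ [1, r1, r2, r1 * r2], σ * τ = τ * σ by
      decide +kernel) σ hσ τ hτ]
  ha w hw := by
    obtain ⟨τ, -, rfl⟩ := L.mem_R.1 hw
    exact (L.ψ_comm 0 τ).symm
  he w hw := by
    obtain ⟨τ, hτ, rfl⟩ := L.mem_R.1 hw
    rw [L.c_eq.1, ← map_inv, ← map_mul, ← map_mul]
    exact L.mem_R.2 ⟨_, (show ∀ τ ∈ [1, r1, r2, r1 * r2], C6 * τ * C6⁻¹ ∈ [1, r1, r2, r1 * r2] by
      decide +kernel) τ hτ, rfl⟩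
  a3 := by rw [← map_pow, show aL ^ 3 = 1 by decide +kernel, map_one]
  e3 := by rw [← map_pow, show aL ^ 3 = 1 by decide +kernel, map_one]
  a1 h := (show aL ≠ 1 by decide +kernel) (L.f_inj 0 (h.trans (map_one _).symm))
  ae := by rw [L.c_eq.1]; exact (L.ψ_comm 0 C6).symm
  sep h := by
    classical
    rw [L.c_eq.1, mem_zpowers_iff_mem_range_orderOf] at h
    obtain ⟨i, -, hi⟩ := Finset.mem_image.1 h
    rw [← map_pow] at hi
    have := congrArg (fun p : L9 => (p : Pr).2) (L.f_inj 0 hi)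
    exact (show C6 ≠ 1 by decide +kernel) (Subtype.ext (this.symm.trans (one_pow i)))
  self x hx hxa := by
    obtain ⟨h1, h2⟩ := L.centR.1 hx
    obtain ⟨j, τ, rfl⟩ := L.cent hxa
    rw [L.ψ_split] at h1 h2 ⊢
    have hc : ∀ r, L.f 0 aL ^ (j : ℕ) * L.ψ 0 τ * L.ψ 0 r = L.ψ 0 r * (L.f 0 aL ^ (j : ℕ) * L.ψ 0 τ) → τ * r = r * τ := by
      intro r hr
      rw [mul_assoc, ← mul_assoc (L.ψ 0 r), ((show Commute (L.ψ 0 r) (L.f 0 aL) from L.ψ_comm 0 r).pow_right _).eq,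
        mul_assoc, mul_right_inj, ← map_mul, ← map_mul] at hr
      exact L.ψ_inj 0 hr
    refine ⟨j, L.mem_R.2 ⟨τ, self_R τ (hc _ h1) (hc _ h2), ?_⟩⟩
    rw [((show Commute (L.ψ 0 τ) (L.f 0 aL) from L.ψ_comm 0 τ).pow_right _).symm.eq, mul_inv_cancel_right]
  seven i h := by
    by_cases hi : i = 0
    · subst hi
      rw [show L.f 0 aL ^ ((0 : Fin 3) : ℕ) * L.f 2 aL = L.f 2 aL by simp] at h
      exact absurd (h.trans (L.card_cent_dvd 2)) (by norm_num)
    · obtain ⟨v, hv, he⟩ := big_lines i hi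
      rw [L.a_eq.2, L.c_eq.2, ← map_pow, ← map_mul, he] at h
      have := L.card_cent_big (g := 1) hv
      rw [one_mul, inv_one, mul_one] at this
      exact absurd (h.trans this) (by norm_num)

theorem sW_eq : ∀ i : Fin 3, L.f 2 aL ^ (i : ℕ) * L.ψ 2 sW =
    L.ψ 2 gW * L.φ (tv 9 ^ (i : ℕ) * tv 4) * (L.ψ 2 gW)⁻¹ := by
  intro i
  rw [four_spec.2.2.1.2.2.2.2, map_mul, map_mul, map_mul, map_inv, L.b_eq, ← L.a_eq.1, L.a_eq.2, map_mul L.φ, tv_four, map_mul L.φ,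
    map_pow, ← show L.f 2 aL = L.φ (tv 9) from L.c_eq.2]
  have hc := ((show Commute (L.ψ 2 gW) (L.f 2 aL) from L.ψ_comm 2 gW).pow_right (i : ℕ)).eq
  show L.f 2 aL ^ (i : ℕ) * (L.ψ 2 gW * (L.tr 1 * L.tr 3) * (L.ψ 2 gW)⁻¹) =
    L.ψ 2 gW * (L.f 2 aL ^ (i : ℕ) * (L.tr 1 * L.tr 3)) * (L.ψ 2 gW)⁻¹
  rw [← mul_assoc (L.ψ 2 gW) (L.f 2 aL ^ (i : ℕ)), hc]
  group

/-- The second configuration. -/
def quadW : Quad G where
  W := L.W
  a := L.f 2 aL
  e := L.ψ 2 sW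
  cardW := L.card_W
  sq w hw := by
    obtain ⟨τ, hτ, rfl⟩ := L.mem_W.1 hw
    rw [← map_mul, (show ∀ τ ∈ [1, t6, w2, t6 * w2], τ * τ = 1 by decide +kernel) τ hτ, map_one]
  comm v hv w hw := by
    obtain ⟨σ, hσ, rfl⟩ := L.mem_W.1 hv
    obtain ⟨τ, hτ, rfl⟩ := L.mem_W.1 hw
    rw [← map_mul, ← map_mul, (show ∀ σ ∈ [1, t6, w2, t6 * w2], ∀ τ ∈ [1, t6, w2, t6 * w2], σ * τ = τ * σ by
      decide +kernel) σ hσ τ hτ]
  ha w hw := by
    obtain ⟨τ, -, rfl⟩ := L.mem_W.1 hw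
    exact (L.ψ_comm 2 τ).symm
  he w hw := by
    obtain ⟨τ, hτ, rfl⟩ := L.mem_W.1 hw
    rw [← map_inv, ← map_mul, ← map_mul]
    exact L.mem_W.2 ⟨_, (show ∀ τ ∈ [1, t6, w2, t6 * w2], sW * τ * sW⁻¹ ∈ [1, t6, w2, t6 * w2] by
      decide +kernel) τ hτ, rfl⟩
  a3 := by rw [← map_pow, show aL ^ 3 = 1 by decide +kernel, map_one]
  e3 := by rw [← map_pow, pow_succ, pow_two, four_spec.2.2.1.1, map_one]
  a1 h := (show aL ≠ 1 by decide +kernel) (L.f_inj 2 (h.trans (map_one _).symm))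
  ae := (L.ψ_comm 2 sW).symm
  sep h := by
    classical
    rw [mem_zpowers_iff_mem_range_orderOf] at h
    obtain ⟨i, -, hi⟩ := Finset.mem_image.1 h
    rw [← map_pow] at hi
    have := congrArg (fun p : L9 => (p : Pr).2) (L.f_inj 2 hi)
    exact four_spec.2.2.1.2.2.2.1 (Subtype.ext (this.symm.trans (one_pow i)))
  self x hx hxa := by
    obtain ⟨h1, h2⟩ := L.centW.1 hx
    obtain ⟨j, τ, rfl⟩ := L.cent hxa
    rw [L.ψ_split] at h1 h2 ⊢
    have hc : ∀ r, L.f 2 aL ^ (j : ℕ) * L.ψ 2 τ * L.ψ 2 r = L.ψ 2 r * (L.f 2 aL ^ (j : ℕ) * L.ψ 2 τ) → τ * r = r * τ := by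
      intro r hr
      rw [mul_assoc, ← mul_assoc (L.ψ 2 r), ((show Commute (L.ψ 2 r) (L.f 2 aL) from L.ψ_comm 2 r).pow_right _).eq,
        mul_assoc, mul_right_inj, ← map_mul, ← map_mul] at hr
      exact L.ψ_inj 2 hr
    refine ⟨j, L.mem_W.2 ⟨τ, self_W τ (hc _ h1) (hc _ h2), ?_⟩⟩
    rw [((show Commute (L.ψ 2 τ) (L.f 2 aL) from L.ψ_comm 2 τ).pow_right _).symm.eq, mul_inv_cancel_right]
  seven i h := by
    obtain ⟨v, hv, he⟩ := big_lines' i
    rw [L.sW_eq i, he] at h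
    exact absurd (h.trans (L.card_cent_big hv)) (by norm_num)

theorem seven_a (i : Fin 3) : ¬ 7 ∣ Nat.card (centralizer ({L.f i aL} : Set G)) :=
  fun h => absurd (h.trans (L.card_cent_dvd i)) (by norm_num)

theorem coprime_cube {K : Subgroup G} (hK : (Nat.card K).Coprime 3) {q : G} (hq : q ∈ K) (h : q ^ 3 = 1) : q = 1 :=
  orderOf_eq_one_iff.1 (Nat.eq_one_of_dvd_coprimes hK (Subgroup.orderOf_dvd_natCard K hq) (orderOf_dvd_of_pow_eq_one h))

theorem fix_a {D : Quad G} {K : Subgroup G} (hK : (Nat.card K).Coprime 3) (hKC : K ≤ centralizer (D.W : Set G))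
    (hWK : D.W ≤ K) {k : G} (hk : k ∈ K) (hka : k * D.a = D.a * k) : k ∈ D.W := by
  obtain ⟨l, hl⟩ := D.self k (hKC hk) hka
  have hl0 : D.a ^ (l : ℕ) ∈ K := by
    have := mul_mem (inv_mem (hWK hl)) hk
    simpa using this
  rwa [L.coprime_cube hK hl0 (by rw [← pow_mul, mul_comm, pow_mul, D.a3, one_pow]), inv_one, mul_one] at hl

/-- The two four-groups do not commute. -/
theorem no_w : ¬ (L.ψ 2 w2 * L.ψ 0 r1 = L.ψ 0 r1 * L.ψ 2 w2 ∧ L.ψ 2 w2 * L.ψ 0 r2 = L.ψ 0 r2 * L.ψ 2 w2) := by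
  intro hw
  have htR : L.ψ 2 t6 ∈ centralizer (L.R : Set G) := by
    rw [← L.t_eq]
    refine L.centR.2 ⟨L.comm_iff.2 ?_, L.comm_iff.2 ?_⟩ <;> decide +kernel
  have hWR : L.W ≤ centralizer (L.R : Set G) := by
    intro g hg
    rcases hg with rfl | rfl | rfl | rfl
    exacts [one_mem _, htR, L.centR.2 hw, mul_mem htR (L.centR.2 hw)]
  have hRW : L.R ≤ centralizer (L.W : Set G) := fun r hr => mem_centralizer_iff.2 fun w hw' =>
    (mem_centralizer_iff.1 (hWR hw') r hr).symm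
  have hRC : ∀ r ∈ L.R, ∀ w ∈ L.W, r * w = w * r := fun r hr w hw' => (mem_centralizer_iff.1 (hWR hw') r hr)
  obtain ⟨K, hKC, hWK, hK, hKn, hKe, hcase⟩ := L.quadW.dichotomy (L.seven_a 2)
  have hKa : ∀ k ∈ K, L.quadW.a * k * L.quadW.a⁻¹ ∈ K := fun k hk => hKn _ L.quadW.a_mem k hk
  have hKW : K = L.W := by
    refine L.quadW.fix_le K hK hKC hKa hKe hWK fun i z hz hzi => L.fix_a hK hKC hWK hz ?_
    obtain ⟨v, hv, he⟩ := big_lines' i
    change z * (L.f 2 aL ^ (i : ℕ) * L.ψ 2 sW) = _ at hzi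
    rw [L.sW_eq i, he] at hzi
    have hc : L.ψ 2 gW * L.tr 9 * (L.ψ 2 gW)⁻¹ = L.f 2 aL := by
      rw [← L.c_eq.2, L.ψ_comm 2 gW, mul_inv_cancel_right]
    have := L.fixed_big (g := L.ψ 2 gW) (v := 9) hK hv (fun k hk => by rw [hc]; exact hKa k hk) hz
      (hzi.trans (by show L.f 2 aL ^ (i : ℕ) * L.ψ 2 sW * z = _; rw [L.sW_eq i, he]))
    rw [hc] at this
    exact this
  have h16 : 16 ∣ Nat.card (centralizer (L.W : Set G)) := by
    let m : L.R × L.W →* centralizer (L.W : Set G) :=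
      MonoidHom.mk' (fun p => ⟨p.1 * p.2, mul_mem (hRW p.1.2) (L.quadW.W_le p.2.2)⟩) fun p q => Subtype.ext (by
        show (p.1 : G) * q.1 * ((p.2 : G) * q.2) = (p.1 : G) * p.2 * ((q.1 : G) * q.2)
        rw [mul_assoc, ← mul_assoc (q.1 : G), hRC _ q.1.2 _ p.2.2]; group)
    have hm : Function.Injective m := by
      rw [injective_iff_map_eq_one]
      intro p hp
      have hp' : (p.1 : G) * p.2 = 1 := congrArg Subtype.val hp
      obtain ⟨σ, hσ, hpσ⟩ := L.mem_R.1 p.1.2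
      obtain ⟨τ, hτ, hpτ⟩ := L.mem_W.1 p.2.2
      have hτ1 : τ = 1 := by
        by_contra hne
        refine w_not_B τ (by simp only [List.mem_cons] at hτ ⊢; tauto) (L.ψ_inj 2 ?_)
        rw [map_mul, map_mul, ← L.a_eq.1, ← hpτ, eq_inv_of_mul_eq_one_right hp']
        exact ((show Commute (p.1 : G) (L.f 0 aL) from hpσ ▸ L.ψ_comm 0 σ).inv_left).eq
      have h2 : (p.2 : G) = 1 := by rw [hpτ, hτ1, map_one]
      rw [h2, mul_one] at hp'
      exact Prod.ext (Subtype.ext hp') (Subtype.ext h2)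
    have := Subgroup.card_dvd_of_injective m hm
    rwa [Nat.card_prod, L.card_R, L.card_W] at this
  rw [hKW, L.card_W] at hcase
  change Nat.card (centralizer (L.W : Set G)) ∣ 6 * 4 ∨ (Nat.card (centralizer (L.W : Set G)) = 60 * 4 ∧ _) at hcase
  rcases hcase with h | ⟨h240, i, hi⟩
  · exact absurd (h16.trans h) (by norm_num)
  · obtain ⟨v, hv, he⟩ := big_lines' i
    obtain ⟨x, hx⟩ : ∃ x, x = L.f 2 aL ^ (i : ℕ) * L.ψ 2 sW := ⟨_, rfl⟩
    change ∀ g ∈ centralizer (L.W : Set G), ∃ k ∈ L.W, ∃ y ∈ centralizer (L.W : Set G), Commute y (L.f 2 aL ^ (i : ℕ) * L.ψ 2 sW) ∧ g = k * y at hi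
    have h5 : 5 ∣ Nat.card (centralizer ({x} : Set G)) := by
      obtain ⟨s, hs⟩ := exists_prime_orderOf_dvd_card' 5 (G := centralizer (L.W : Set G)) (hp := ⟨by norm_num⟩)
        (by rw [h240]; norm_num)
      obtain ⟨k, hk, y, hy, hyx, hsy⟩ := hi s s.2
      have hky : Commute k y := (L.quadW.comm_W hy hk).symm
      have hk2 : k * k = 1 := L.quadW.sq k hk
      have hd : orderOf y ∣ Nat.card (centralizer ({x} : Set G)) :=
        Subgroup.orderOf_dvd_natCard _ (mem_centralizer_singleton_iff.2 (hx ▸ hyx.eq))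
      refine dvd_trans ?_ hd
      have h10 : (s : G) ^ (2 * orderOf y) = 1 := by
        rw [hsy, hky.mul_pow, pow_mul k, pow_two, hk2, one_pow, one_mul, pow_mul', pow_orderOf_eq_one, one_pow]
      have := orderOf_dvd_of_pow_eq_one h10
      rw [Subgroup.orderOf_coe, hs] at this
      exact (Nat.Coprime.dvd_of_dvd_mul_left (by norm_num) this)
    rw [hx, L.sW_eq i, he] at h5
    exact absurd (h5.trans (L.card_cent_big hv)) (by norm_num)

theorem R_cent_c {g : G} (hg : g ∈ L.R) (hc : g * L.f 2 aL = L.f 2 aL * g) : g = 1 := by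
  obtain ⟨τ, hτ, rfl⟩ := L.mem_R.1 hg
  by_contra hne
  refine four_spec.2.2.2.2 τ ?_ (L.ψ_inj 0 ?_)
  · have : τ ≠ 1 := fun e => hne (by rw [e, map_one])
    simp only [List.mem_cons] at hτ ⊢; tauto
  · rw [map_mul, map_mul, ← L.c_eq.1]; exact hc

set_option maxHeartbeats 2000000 in
/-- The centraliser of the four-group. -/
theorem cent_R : Nat.card (centralizer (L.R : Set G)) ∣ 24 ∨
    ((L.ψ 2 s0 * L.ψ 0 r1 = L.ψ 0 r1 * L.ψ 2 s0 ∧ L.ψ 2 s0 * L.ψ 0 r2 = L.ψ 0 r2 * L.ψ 2 s0) ∧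
      Nat.card (centralizer (L.R : Set G)) = 240 ∧
      ∀ g ∈ centralizer (L.R : Set G), ∃ k ∈ L.R, ∃ y ∈ (L.f 2).range, g = k * y) := by
  classical
  obtain ⟨K, hKC, hRK, hK, hKn, hKe, hcase⟩ := L.quadR.dichotomy (L.seven_a 0)
  have hKa : ∀ k ∈ K, L.quadR.a * k * L.quadR.a⁻¹ ∈ K := fun k hk => hKn _ L.quadR.a_mem k hk
  have hWR : L.ψ 2 t6 ∈ centralizer (L.R : Set G) := by
    rw [← L.t_eq]
    refine L.centR.2 ⟨L.comm_iff.2 ?_, L.comm_iff.2 ?_⟩ <;> decide +kernel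
  -- the fixed points of the second three-cycle
  obtain ⟨Z, hZ⟩ : ∃ Z : Subgroup A6, Z = K.comap (L.ψ 2) := ⟨_, rfl⟩
  have hZB : ∀ τ ∈ Z, B6 * τ * B6⁻¹ ∈ Z := fun τ hτ => by
    rw [hZ, mem_comap] at hτ ⊢
    rw [map_mul, map_mul, map_inv, ← L.a_eq.1]
    exact hKa _ hτ
  have hZt : ∀ τ ∈ Z, t6 * τ * t6⁻¹ ∈ Z := fun τ hτ => by
    rw [hZ, mem_comap] at hτ ⊢
    rw [map_mul, map_mul, map_inv]
    exact hKn _ hWR _ hτ
  have hZV : ∀ τ ∈ Z, τ ∈ V6 := by
    intro τ hτ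
    rcases z_six τ with h | ⟨w, hw, hw1, hw2⟩
    · exact h
    exfalso
    have hwZ : w ∈ Z := by
      have h1 := hZB τ hτ
      have h2 := hZB _ h1
      simp only [zwords, List.mem_cons, List.not_mem_nil, or_false] at hw
      rcases hw with rfl | rfl | rfl | rfl | rfl
      · exact mul_mem (mul_mem (mul_mem hτ hτ) h1) h2
      · exact mul_mem (mul_mem (mul_mem hτ hτ) h2) h1
      · exact mul_mem (mul_mem (mul_mem hτ h1) hτ) h2
      · exact mul_mem (mul_mem (mul_mem hτ (hZt _ hτ)) h1) (hZt _ h1)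
      · exact mul_mem hτ (hZt _ h1)
    rw [hZ, mem_comap] at hwZ
    rcases hw2 with hw3 | hwB
    · exact hw1 (L.ψ_inj 2 ((L.coprime_cube hK hwZ (by rw [← map_pow, pow_succ', pow_two, hw3, map_one])).trans
        (map_one _).symm))
    · have hR := L.fix_a (D := L.quadR) hK hKC hRK hwZ
        (by show L.ψ 2 w * L.f 0 aL = L.f 0 aL * L.ψ 2 w; rw [L.a_eq.1, ← map_mul, ← map_mul, hwB])
      exact hw1 (L.ψ_inj 2 ((L.R_cent_c hR (L.ψ_comm 2 w)).trans (map_one _).symm))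
  have hZ1 : ∀ τ ∈ Z, τ = 1 := by
    intro τ hτ
    by_contra hne
    have h1 := hZB τ hτ
    have hw := v6_cycle τ (hZV τ hτ) hne
    have hw2 : w2 ∈ Z := by
      simp only [List.mem_cons, List.not_mem_nil, or_false] at hw
      rcases hw with e | e | e <;> rw [e]
      exacts [hτ, h1, hZB _ h1]
    rw [hZ, mem_comap] at hw2
    exact L.no_w (L.centR.1 (hKC hw2))
  have hfix0 : ∀ z ∈ K, z * L.f 2 aL = L.f 2 aL * z → z = 1 := by
    intro z hz hzc
    obtain ⟨j, x, rfl⟩ := L.cent hzc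
    rw [L.ψ_split] at hz ⊢
    have h3 : (L.f 2 aL ^ (j : ℕ) * L.ψ 2 x) ^ Nat.card K = 1 :=
      congrArg Subtype.val (pow_card_eq_one' (x := (⟨_, hz⟩ : K)))
    rw [← map_pow (L.f 2) aL, ← show L.f 2 (sndX x) = L.ψ 2 x from rfl, ← map_mul, ← map_pow,
      ← map_one (L.f 2)] at h3
    have h4 := congrArg (fun p : L9 => (p : Pr).1) (L.f_inj 2 h3)
    have h5 : (c3 ^ (j : ℕ)) ^ Nat.card K = 1 := by
      simpa [aL, el, sndX] using h4
    have hj : j = 0 := c3_pow.2.2 j (orderOf_eq_one_iff.1 (Nat.eq_one_of_dvd_coprimes hK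
      (orderOf_dvd_of_pow_eq_one h5) (orderOf_dvd_of_pow_eq_one (by rw [← pow_mul, mul_comm, pow_mul, c3_pow.2.1, one_pow]))))
    subst hj
    rw [Fin.val_zero, pow_zero, one_mul] at hz ⊢
    rw [hZ1 x (hZ ▸ hz), map_one]
  have hKR : K = L.R := by
    refine L.quadR.fix_le K hK hKC hKa hKe hRK fun i z hz hzi => ?_
    change z * (L.f 0 aL ^ (i : ℕ) * L.f 2 aL) = L.f 0 aL ^ (i : ℕ) * L.f 2 aL * z at hzi
    by_cases hi : i = 0
    · subst hi
      rw [hfix0 z hz (by simpa using hzi)]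
      exact one_mem _
    · refine L.fix_a hK hKC hRK hz ?_
      obtain ⟨v, hv, he⟩ := big_lines i hi
      rw [L.a_eq.2, L.c_eq.2, ← map_pow, ← map_mul, he] at hzi
      have hga : (1 : G) * L.tr 1 * 1⁻¹ = L.f 0 aL := by rw [L.a_eq.2, one_mul, inv_one, mul_one]
      have h := L.fixed_big (g := 1) (v := 1) hK hv (fun k hk => by rw [hga]; exact hKa k hk) hz
        (by rw [one_mul, inv_one, mul_one]; exact hzi)
      rw [hga] at h
      exact h
  rw [hKR] at hcase hKn hfix0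
  rw [L.card_R] at hcase
  change Nat.card (centralizer (L.R : Set G)) ∣ 6 * 4 ∨ (Nat.card (centralizer (L.R : Set G)) = 60 * 4 ∧
    ∃ i : Fin 3, ∀ g ∈ centralizer (L.R : Set G), ∃ k ∈ L.R, ∃ y ∈ centralizer (L.R : Set G),
      Commute y (L.f 0 aL ^ (i : ℕ) * L.f 2 aL) ∧ g = k * y) at hcase
  rcases hcase with h | ⟨h240, i, hi⟩
  · exact Or.inl h
  refine Or.inr ?_
  have hi0 : i = 0 := by
    by_contra hne
    obtain ⟨v, hv, he⟩ := big_lines i hne
    obtain ⟨s, hs⟩ := exists_prime_orderOf_dvd_card' 5 (G := centralizer (L.R : Set G)) (hp := ⟨by norm_num⟩)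
      (by rw [h240]; norm_num)
    obtain ⟨k, hk, y, hy, hyx, hsy⟩ := hi s s.2
    have hky : Commute k y := (L.quadR.comm_W hy hk).symm
    have h10 : (s : G) ^ (2 * orderOf y) = 1 := by
      rw [hsy, hky.mul_pow, pow_mul k, pow_two, L.quadR.sq k hk, one_pow, one_mul, pow_mul', pow_orderOf_eq_one, one_pow]
    have h5 := orderOf_dvd_of_pow_eq_one h10
    rw [Subgroup.orderOf_coe, hs] at h5
    have h5' : 5 ∣ orderOf y := Nat.Coprime.dvd_of_dvd_mul_left (by norm_num) h5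
    rw [L.a_eq.2, L.c_eq.2, ← map_pow, ← map_mul, he] at hyx
    have := L.card_cent_big (g := 1) hv
    rw [one_mul, inv_one, mul_one] at this
    exact absurd ((h5'.trans (Subgroup.orderOf_dvd_natCard _ (mem_centralizer_singleton_iff.2 hyx.eq))).trans this)
      (by norm_num)
  subst hi0
  simp only [Fin.val_zero, pow_zero, one_mul] at hi
  obtain ⟨D, hD⟩ : ∃ D : Subgroup G, D = centralizer (L.R : Set G) ⊓ centralizer ({L.f 2 aL} : Set G) := ⟨_, rfl⟩
  have hDmem : ∀ g, g ∈ D ↔ g ∈ centralizer (L.R : Set G) ∧ g * L.f 2 aL = L.f 2 aL * g := fun g => by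
    rw [hD, mem_inf, mem_centralizer_singleton_iff]
  have hcardD : Nat.card D = 60 := by
    have hb : Function.Bijective (fun p : L.R × D =>
        (⟨p.1 * p.2, mul_mem (L.quadR.W_le p.1.2) ((hDmem _).1 p.2.2).1⟩ : centralizer (L.R : Set G))) := by
      constructor
      · intro p q h
        have h' : (p.1 : G) * p.2 = q.1 * q.2 := congrArg Subtype.val h
        have e : (q.1 : G)⁻¹ * p.1 = q.2 * (p.2 : G)⁻¹ := by
          calc (q.1 : G)⁻¹ * p.1 = (q.1 : G)⁻¹ * ((p.1 : G) * p.2) * (p.2 : G)⁻¹ := by group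
            _ = _ := by rw [h']; group
        have h1 := hfix0 _ (mul_mem (inv_mem q.1.2) p.1.2) (by
          rw [e]; exact ((hDmem _).1 (mul_mem q.2.2 (inv_mem p.2.2))).2)
        have hp : p.1 = q.1 := Subtype.ext (inv_mul_eq_one.1 h1).symm
        exact Prod.ext hp (Subtype.ext (mul_left_cancel (by rw [hp] at h'; exact h')))
      · intro g
        obtain ⟨k, hk, y, hy, hyc, e⟩ := hi g g.2
        exact ⟨(⟨k, hk⟩, ⟨y, (hDmem y).2 ⟨hy, hyc.eq⟩⟩), Subtype.ext e.symm⟩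
    have := Nat.card_eq_of_bijective _ hb
    rw [Nat.card_prod, L.card_R, h240] at this
    omega
  have hDf : ∀ d ∈ D, ∃ (j : Fin 3) (x : A6), d = L.f 2 aL ^ (j : ℕ) * L.ψ 2 x := by
    intro d hd
    obtain ⟨j, x, e⟩ := L.cent ((hDmem d).1 hd).2
    exact ⟨j, x, e.trans L.ψ_split⟩
  choose jj xx hjx using fun d : D => hDf d d.2
  have hcc : ∀ (j : Fin 3) (x : A6) (n : ℕ), (L.f 2 aL ^ (j : ℕ) * L.ψ 2 x) ^ n =
      L.f 2 aL ^ ((j : ℕ) * n) * L.ψ 2 (x ^ n) := fun j x n => by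
    rw [(((show Commute (L.ψ 2 x) (L.f 2 aL) from L.ψ_comm 2 x).pow_right _).symm).mul_pow, ← pow_mul, map_pow]
  have huniq : ∀ (j j' : Fin 3) (x x' : A6), L.f 2 aL ^ (j : ℕ) * L.ψ 2 x = L.f 2 aL ^ (j' : ℕ) * L.ψ 2 x' →
      j = j' ∧ x = x' := by
    intro j j' x x' h
    rw [← map_pow, ← map_pow, ← show L.f 2 (sndX x) = L.ψ 2 x from rfl, ← show L.f 2 (sndX x') = L.ψ 2 x' from rfl,
      ← map_mul, ← map_mul] at h
    have h1 := congrArg (fun p : L9 => (p : Pr).1) (L.f_inj 2 h)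
    have h2 := congrArg (fun p : L9 => (p : Pr).2) (L.f_inj 2 h)
    simp [aL, el, sndX] at h1 h2
    exact ⟨(show ∀ j j' : Fin 3, c3 ^ (j : ℕ) = c3 ^ (j' : ℕ) → j = j' by decide +kernel) j j' h1, h2⟩
  have hxm : ∀ d e : D, xx (d * e) = xx d * xx e := by
    intro d e
    have h : L.f 2 aL ^ (jj (d * e) : ℕ) * L.ψ 2 (xx (d * e)) =
        L.f 2 aL ^ ((((jj d : ℕ) + (jj e : ℕ)) % 3 : ℕ)) * L.ψ 2 (xx d * xx e) := by
      rw [← hjx (d * e)]
      push_cast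
      rw [hjx d, hjx e, map_mul]
      have h3 : L.f 2 aL ^ 3 = 1 := L.quadW.a3
      rw [show ((jj d : ℕ) + (jj e : ℕ)) % 3 = ((jj d : ℕ) + (jj e : ℕ)) % 3 from rfl]
      have : ∀ n, L.f 2 aL ^ (n % 3) = L.f 2 aL ^ n := fun n => by
        conv_rhs => rw [← Nat.mod_add_div n 3, pow_add, pow_mul, h3, one_pow, mul_one]
      rw [this, pow_add, mul_assoc, ← mul_assoc (L.ψ 2 (xx d)),
        ((show Commute (L.ψ 2 (xx d)) (L.f 2 aL) from L.ψ_comm 2 _).pow_right _).eq]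
      group
    exact (huniq _ ⟨_, Nat.mod_lt _ (by norm_num)⟩ _ _ h).2
  let μ : D →* A6 := MonoidHom.mk' xx hxm
  have hμ : Function.Injective μ := by
    rw [injective_iff_map_eq_one]
    intro d hd
    have hdd : (d : G) = L.f 2 aL ^ (jj d : ℕ) := by
      rw [hjx d, show xx d = 1 from hd, map_one, mul_one]
    by_contra hne
    obtain ⟨j, hj⟩ : ∃ j, j = jj d := ⟨_, rfl⟩
    rw [← hj] at hdd
    have hd1 := (L.centR.1 ((hDmem _).1 d.2).1).1
    rw [hdd, L.c_eq.1, ← map_pow, ← map_mul, ← map_mul] at hd1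
    have : ∀ j : Fin 3, C6 ^ (j : ℕ) * r1 = r1 * C6 ^ (j : ℕ) → j = 0 := by decide +kernel
    exact hne (Subtype.ext (by rw [hdd, this j (L.ψ_inj 0 hd1)]; simp))
  have hmemY : ∀ (x : A6), (∃ j : Fin 3, L.f 2 aL ^ (j : ℕ) * L.ψ 2 x ∈ D) → x ∈ μ.range := by
    rintro x ⟨j, hx⟩
    exact ⟨⟨_, hx⟩, ((huniq j _ x _ (hjx ⟨_, hx⟩)).2).symm⟩
  have hBY : B6 ∈ μ.range := hmemY _ ⟨0, by
    rw [Fin.val_zero, pow_zero, one_mul, hDmem, ← L.a_eq.1]
    exact ⟨L.quadR.a_mem, L.quadR.ae⟩⟩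
  have htY : t6 ∈ μ.range := hmemY _ ⟨0, by
    rw [Fin.val_zero, pow_zero, one_mul, hDmem]
    exact ⟨hWR, L.ψ_comm 2 t6⟩⟩
  have hYc : Nat.card μ.range = 60 := by
    rw [← Nat.card_congr (MonoidHom.ofInjective hμ).toEquiv, hcardD]
  have h30 : ∀ w ∈ μ.range, ¬ (w * w ≠ 1 ∧ w * w * (w * w) = 1) := fun w hw => no_four_sixty μ.range hYc hw
  have hYsub : ∀ τ ∈ μ.range, (τ : Perm (Fin 6)) 5 = 5 ∨ ((τ : Perm (Fin 6)) 5 ≠ 5 ∧
      ((τ : Perm (Fin 6)) 0).val < 3 ∧ ((τ : Perm (Fin 6)) 1).val < 3 ∧ ((τ : Perm (Fin 6)) 2).val < 3) := by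
    intro τ hτ
    by_cases h5 : (τ : Perm (Fin 6)) 5 = 5
    · exact Or.inl h5
    rcases order_four τ with h | h | ⟨w, hw, hw'⟩
    · exact Or.inl h
    · exact Or.inr ⟨h5, h⟩
    · exfalso
      refine h30 w ?_ hw'
      simp only [order4words, List.mem_cons, List.not_mem_nil, or_false] at hw
      rcases hw with rfl | rfl | rfl | rfl | rfl | rfl | rfl
      exacts [mul_mem (mul_mem (mul_mem (mul_mem hτ hτ) hBY) hτ) htY,
        mul_mem (mul_mem (mul_mem (mul_mem (mul_mem hτ hτ) htY) hτ) hBY) htY, hτ, mul_mem hτ htY, mul_mem hτ hBY,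
        mul_mem (mul_mem (mul_mem (mul_mem (mul_mem hτ hτ) hτ) hBY) hτ) htY, mul_mem (mul_mem hτ hBY) htY]
  have hle5 : stab5 ≤ μ.range := by
    have hcount : 48 ≤ Nat.card (stab5 ⊓ μ.range : Subgroup A6) := by
      have hYf : (Finset.univ.filter fun τ : A6 => τ ∈ μ.range).card = 60 := by
        rw [← Fintype.card_subtype, ← Nat.card_eq_fintype_card]; exact hYc
      have hsub : (Finset.univ.filter fun τ : A6 => τ ∈ μ.range) ⊆
          (Finset.univ.filter fun τ : A6 => τ ∈ stab5 ⊓ μ.range) ∪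
          (Finset.univ.filter fun τ : A6 => (τ : Perm (Fin 6)) 5 ≠ 5 ∧ ((τ : Perm (Fin 6)) 0).val < 3 ∧
            ((τ : Perm (Fin 6)) 1).val < 3 ∧ ((τ : Perm (Fin 6)) 2).val < 3) := by
        intro τ hτ
        have hτ' := (Finset.mem_filter.1 hτ).2
        rcases hYsub τ hτ' with h | h
        · exact Finset.mem_union_left _ (Finset.mem_filter.2 ⟨Finset.mem_univ _, h, hτ'⟩)
        · exact Finset.mem_union_right _ (Finset.mem_filter.2 ⟨Finset.mem_univ _, h⟩)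
      have := (Finset.card_le_card hsub).trans (Finset.card_union_le _ _)
      rw [hYf, fix_counts.2.1] at this
      rw [Nat.card_eq_fintype_card, Fintype.card_subtype]
      omega
    have h60 : Nat.card stab5 = 60 := by
      rw [Nat.card_eq_fintype_card, Fintype.card_subtype]; convert fix_counts.1 using 3; rfl
    obtain ⟨m, hm⟩ := h60 ▸ Subgroup.card_dvd_of_le (inf_le_left : stab5 ⊓ μ.range ≤ stab5)
    have hm1 : m = 1 := by
      rcases Nat.lt_or_ge m 2 with h | h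
      · interval_cases m
        · omega
        · rfl
      · have := Nat.mul_le_mul hcount h
        omega
    exact fun τ hτ => ((Subgroup.eq_of_le_of_card_ge (inf_le_left : stab5 ⊓ μ.range ≤ stab5)
      (by rw [h60, hm, hm1, mul_one])).ge hτ).2
  refine ⟨?_, h240, fun g hg => ?_⟩
  · obtain ⟨d, hd⟩ := hle5 (show s0 ∈ stab5 from fix_counts.2.2.1)
    have hd3 : ((d : G)) ^ 3 = L.ψ 2 s0 := by
      rw [hjx d, show xx d = s0 from hd, hcc, mul_comm _ 3, pow_mul, show L.f 2 aL ^ 3 = 1 from L.quadW.a3, one_pow, one_mul,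
        pow_succ, pow_two, fix_counts.2.2.2, one_mul]
    rw [← hd3]
    exact L.centR.1 (pow_mem ((hDmem _).1 d.2).1 3)
  · obtain ⟨k, hk, y, hy, hyc, e⟩ := hi g hg
    obtain ⟨j, x, hy'⟩ := L.cent hyc.eq
    exact ⟨k, hk, y, ⟨_, hy'.symm⟩, e⟩

end Big

end Cfsg.Lib.AltNineLocal
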