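import Cfsg.Agent.LocalThree.AltNineLocal.Coords
import Cfsg.Agent.LocalThree.AltNineLocal.CentA
import Cfsg.Agent.Transfer.Abelian
import Cfsg.Agent.S0497

/-!
The embedding of the normaliser of a three-cycle.
-/

set_option autoImplicit false
set_option linter.unusedSectionVars false
set_option synthInstance.maxSize 4096
set_option maxRecDepth 100000
set_option maxHeartbeats 1000000

namespace Cfsg.Lib.AltNineLocal

open Equiv Subgroup Cfsg.Lib.Monomial
open scoped commutatorElement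

universe u

/-- The local data with the embedding. -/
structure Big (G : Type u) [Group G] extends Loc G where
  f0 : L9 →* G
  f0_inj : Function.Injective f0
  f0_norm : ∀ g : G, g * φ (tv 1) * g⁻¹ = φ (tv 1) ∨ g * φ (tv 1) * g⁻¹ = (φ (tv 1))⁻¹ → g ∈ f0.range
  f0_agree : ∀ k p, toNine k = em0 p → f0 p = φ k

namespace Loc

variable {G : Type u} [Group G] [Finite G] (L : Loc G)

include L

/-- The complement in the centraliser. -/
theorem exists_psi
    (hn : (zpowers (⟨L.tr 1, mem_centralizer_singleton_iff.2 rfl⟩ : centralizer ({L.tr 1} : Set G))).Normal)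
    (hs : IsSimpleGroup ((centralizer ({L.tr 1} : Set G)) ⧸
        zpowers (⟨L.tr 1, mem_centralizer_singleton_iff.2 rfl⟩ : centralizer ({L.tr 1} : Set G))))
    (hc : Nat.card ((centralizer ({L.tr 1} : Set G)) ⧸
        zpowers (⟨L.tr 1, mem_centralizer_singleton_iff.2 rfl⟩ : centralizer ({L.tr 1} : Set G))) = 360) :
    ∃ ψ : A6 →* G, Function.Injective ψ ∧ (∀ x, ψ x * L.tr 1 = L.tr 1 * ψ x) ∧
      ψ.range = ⁅centralizer ({L.tr 1} : Set G), centralizer ({L.tr 1} : Set G)⁆ ∧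
      (∀ g, g * L.tr 1 = L.tr 1 * g → ∃ i : Fin 3, ∃ x, g = L.tr 1 ^ (i : ℕ) * ψ x) ∧
      (∀ i : Fin 3, ∀ x, L.tr 1 ^ (i : ℕ) * ψ x = 1 → i = 0 ∧ x = 1) ∧
      ψ B6 = L.tr 3 ∧ ψ C6 = L.tr 9 ∧ ψ R6 = L.φ ⟨0, 5⟩ := by
  classical
  have : Fact (Nat.Prime 3) := ⟨Nat.prime_three⟩
  obtain ⟨C, hC⟩ : ∃ C : Subgroup G, C = centralizer ({L.tr 1} : Set G) := ⟨_, rfl⟩
  let d : centralizer ({L.tr 1} : Set G) := ⟨L.tr 1, mem_centralizer_singleton_iff.2 rfl⟩
  let Cg := centralizer ({L.tr 1} : Set G)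
  let π : Cg →* Cg ⧸ zpowers d := QuotientGroup.mk' _
  have hd3 : orderOf d = 3 := by
    rw [← Subgroup.orderOf_coe]; exact L.ord_tr (by decide)
  have hdz : d ∈ center Cg := mem_center_iff.2 fun g => Subtype.ext (mem_centralizer_singleton_iff.1 g.2)
  have hcard : Nat.card Cg = 1080 := by
    rw [Subgroup.card_eq_card_quotient_mul_card_subgroup (zpowers d), hc, Nat.card_zpowers, hd3]
  have hJC : L.J ≤ Cg := fun a ha => mem_centralizer_singleton_iff.2 (L.J_comm ha (L.tr_mem 1))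
  let J' : Subgroup Cg := L.J.subgroupOf Cg
  have hJ' : Nat.card J' = 27 := (Nat.card_congr (subgroupOfEquivOfLe hJC).toEquiv).trans L.card_J
  haveI : IsMulCommutative J' := ⟨⟨fun a b => Subtype.ext (Subtype.ext (L.J_comm a.2 b.2))⟩⟩
  have hhall : (Nat.card J').Coprime J'.index := by
    have := J'.card_mul_index
    rw [hJ', hcard] at this
    rw [hJ', show J'.index = 40 by omega]
    norm_num
  have hdX : ∀ z ∈ zpowers d, z ∈ commutator Cg → z = 1 := fun z hz hzc =>
    Cfsg.Lib.Transfer.eq_one_of_mem_commutator_of_central J' hhall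
      (by obtain ⟨m, rfl⟩ := mem_zpowers_iff.1 hz; exact zpow_mem (show d ∈ J' from L.tr_mem 1) m) hzc
      (by obtain ⟨m, rfl⟩ := mem_zpowers_iff.1 hz; exact zpow_mem hdz m)
  haveI := hs
  have hnc : commutator (Cg ⧸ zpowers d) = ⊤ := by
    refine (inferInstance : (commutator (Cg ⧸ zpowers d)).Normal).eq_bot_or_eq_top.resolve_left fun h => ?_
    have hab : ∀ a b : Cg ⧸ zpowers d, a * b = b * a := fun a b =>
      commutatorElement_eq_one_iff_mul_comm.1 (mem_bot.1 (h.le (commutator_mem_commutator (mem_top a) (mem_top b))))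
    letI : CommGroup (Cg ⧸ zpowers d) := { mul_comm := hab }
    have := IsSimpleGroup.prime_card (α := Cg ⧸ zpowers d)
    rw [hc] at this
    norm_num at this
  have hmapX : (commutator Cg).map π = ⊤ := by
    rw [← hnc, _root_.commutator_def, _root_.commutator_def, map_commutator,
      ← MonoidHom.range_eq_map, MonoidHom.range_eq_top.2 (QuotientGroup.mk'_surjective (zpowers d))]
  let θ : commutator Cg →* Cg ⧸ zpowers d := π.comp (commutator Cg).subtype
  have hθ : Function.Bijective θ := by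
    constructor
    · rw [injective_iff_map_eq_one]
      intro x hx
      exact Subtype.ext (hdX _ ((QuotientGroup.eq_one_iff (x : Cg)).1 hx) x.2)
    · intro q
      obtain ⟨x, hx, rfl⟩ := hmapX.ge (mem_top q)
      exact ⟨⟨x, hx⟩, rfl⟩
  haveI : IsSimpleGroup (commutator Cg) := (MulEquiv.ofBijective θ hθ).isSimpleGroup
  obtain ⟨e⟩ := Cfsg.Agent.S0497.result (G := commutator Cg)
    ((Nat.card_congr (Equiv.ofBijective θ hθ)).trans hc)
  let ψ0 : A6 →* G := (Cg.subtype.comp (commutator Cg).subtype).comp e.symm.toMonoidHom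
  have hψ0 : Function.Injective ψ0 :=
    (Cg.subtype_injective.comp (commutator Cg).subtype_injective).comp e.symm.injective
  have hr0 : ψ0.range = ⁅Cg, Cg⁆ := by
    rw [MonoidHom.range_comp, MonoidHom.range_eq_top.2 e.symm.surjective, ← MonoidHom.range_eq_map,
      MonoidHom.range_comp, Subgroup.range_subtype, Subgroup.map_subtype_commutator]
  have hfac : ∀ g, g * L.tr 1 = L.tr 1 * g → ∃ i : Fin 3, ∃ x, g = L.tr 1 ^ (i : ℕ) * ψ0 x := by
    intro g hg
    obtain ⟨x, hx, hxg⟩ := hmapX.ge (mem_top (π ⟨g, mem_centralizer_singleton_iff.2 hg⟩))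
    have hz : (⟨g, mem_centralizer_singleton_iff.2 hg⟩ : Cg) * x⁻¹ ∈ zpowers d := by
      refine (QuotientGroup.eq_one_iff _).1 ?_
      show π (_ * x⁻¹) = 1
      rw [map_mul, map_inv, hxg, mul_inv_cancel]
    rw [mem_zpowers_iff_mem_range_orderOf, hd3] at hz
    obtain ⟨i, hi, hi'⟩ := Finset.mem_image.1 hz
    refine ⟨⟨i, Finset.mem_range.1 hi⟩, e ⟨x, hx⟩, ?_⟩
    show g = L.tr 1 ^ i * ψ0 (e ⟨x, hx⟩)
    rw [show ψ0 (e ⟨x, hx⟩) = ((x : Cg) : G) from congrArg (fun y : commutator Cg => ((y : Cg) : G)) (e.symm_apply_apply _)]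
    have := congrArg Subtype.val hi'
    push_cast at this
    rw [this]
    group
  have huniq : ∀ i : Fin 3, ∀ x, L.tr 1 ^ (i : ℕ) * ψ0 x = 1 → i = 0 ∧ x = 1 := by
    intro i x h
    have hmem : d ^ (i : ℕ) = ((e.symm x : commutator Cg) : Cg)⁻¹ :=
      Subtype.ext (by push_cast; exact eq_inv_of_mul_eq_one_left h)
    have h1 : d ^ (i : ℕ) = 1 := hdX _ (pow_mem (mem_zpowers d) _) (by rw [hmem]; exact inv_mem (e.symm x).2)
    have hi : i = 0 := Fin.ext (Nat.eq_zero_of_dvd_of_lt (dvd_trans (dvd_of_eq hd3.symm) (orderOf_dvd_of_pow_eq_one h1)) i.2)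
    refine ⟨hi, hψ0 ?_⟩
    rw [hi] at h
    rw [map_one]
    simpa using h
  have hcomm0 : ∀ x, ψ0 x * L.tr 1 = L.tr 1 * ψ0 x := fun x =>
    mem_centralizer_singleton_iff.1 ((e.symm x : commutator Cg) : Cg).2
  -- the three elements
  obtain ⟨hr1, hr3, hr9, hr4⟩ := rot_spec
  have R3 : L.φ rot * L.tr 3 * (L.φ rot)⁻¹ = L.tr 9 := by rw [← map_inv, ← map_mul, ← map_mul, hr3]
  have R9 : L.φ rot * L.tr 9 * (L.φ rot)⁻¹ = (L.tr 3)⁻¹ := by rw [← map_inv, ← map_mul, ← map_mul, hr9, map_inv]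
  have hrC : L.φ rot ∈ Cg := mem_centralizer_singleton_iff.2 (by rw [← map_mul, hr1, map_mul])
  have hcom : ∀ v : Fin 27, ⁅L.φ rot, L.tr v⁆ ∈ ψ0.range := fun v =>
    hr0 ▸ commutator_mem_commutator hrC (hJC (L.tr_mem v))
  have h3 : L.tr 3 ∈ ψ0.range := by
    have h := inv_mem (mul_mem (hcom 3) (hcom 9))
    rw [commutatorElement_def, commutatorElement_def, R3, R9] at h
    have hinv : ∀ v, L.tr v * L.tr v * L.tr v = 1 := fun v => by rw [mul_assoc, L.J_cube (L.tr_mem v)]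
    convert inv_mem h using 1
    rw [inv_inv, show L.tr 9 * (L.tr 3)⁻¹ * ((L.tr 3)⁻¹ * (L.tr 9)⁻¹) = L.tr 9 * ((L.tr 3)⁻¹ * (L.tr 3)⁻¹) * (L.tr 9)⁻¹ by group,
      show (L.tr 3)⁻¹ * (L.tr 3)⁻¹ = L.tr 3 from mul_left_cancel (a := L.tr 3 * L.tr 3) (by rw [hinv]; group),
      L.J_comm (L.tr_mem 9) (L.tr_mem 3), mul_inv_cancel_right]
  have h9 : L.tr 9 ∈ ψ0.range := by
    have h := mul_mem (hcom 3) h3
    rwa [commutatorElement_def, R3, inv_mul_cancel_right] at h
  have h5 : L.φ rot ∈ ψ0.range := by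
    obtain ⟨i, x, hx⟩ := hfac _ (mem_centralizer_singleton_iff.1 hrC)
    have h4 : L.φ rot ^ 4 = 1 := by rw [← map_pow, hr4, map_one]
    rw [hx, ((show Commute (ψ0 x) (L.tr 1) from hcomm0 x).symm.pow_left _).mul_pow, ← pow_mul, ← map_pow ψ0,
      ← pow_mod_orderOf, L.ord_tr (show (1 : Fin 27) ≠ 0 by decide)] at h4
    have hi := (huniq ⟨(i : ℕ) * 4 % 3, Nat.mod_lt _ (by norm_num)⟩ _ h4).1
    have : i = 0 := Fin.ext (by have := congrArg Fin.val hi; simp at this ⊢; omega)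
    subst this
    exact ⟨x, by rw [hx]; simp⟩
  obtain ⟨b', hb'⟩ := h3
  obtain ⟨c', hc'⟩ := h9
  obtain ⟨r', hr'⟩ := h5
  obtain ⟨α, hαB, hαC, hαR⟩ := adjust_six (b := b') (c := c') (r := r')
    (hψ0 (by rw [map_pow, hb', map_one, pow_succ', pow_two, L.J_cube (L.tr_mem 3)]))
    (fun e => L.tr_ne (show (3 : Fin 27) ≠ 0 by decide) (by rw [← hb', e, map_one]))
    (hψ0 (by rw [map_pow, hc', map_one, pow_succ', pow_two, L.J_cube (L.tr_mem 9)]))
    (hψ0 (by rw [map_mul, map_mul, hb', hc', L.J_comm (L.tr_mem 9) (L.tr_mem 3)]))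
    (fun e => (show tv 9 ≠ tv 3 by decide +kernel) (L.inj (by show L.tr 9 = L.tr 3; rw [← hb', ← hc', e])))
    (fun e => (show tv 9 ≠ (tv 3)⁻¹ by decide +kernel) (L.inj (by
      rw [map_inv]; show L.tr 9 = (L.tr 3)⁻¹; rw [← hb', ← hc', e, map_inv])))
    (hψ0 (by rw [map_mul, map_mul, map_inv, hr', hb', hc', R3]))
    (hψ0 (by rw [map_mul, map_mul, map_inv, map_inv, hr', hb', hc', R9]))
    (hψ0 (by rw [map_pow, hr', map_one, ← map_pow, hr4, map_one]))
  refine ⟨ψ0.comp α.toMonoidHom, hψ0.comp α.injective, fun x => hcomm0 _, ?_, fun g hg => ?_, fun i x h => ?_,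
    ?_, ?_, ?_⟩
  · rw [MonoidHom.range_comp, MonoidHom.range_eq_top.2 α.surjective, ← MonoidHom.range_eq_map, hr0]
  · obtain ⟨i, x, hx⟩ := hfac g hg
    exact ⟨i, α.symm x, by rw [hx]; simp⟩
  · obtain ⟨h1, h2⟩ := huniq i (α x) h
    exact ⟨h1, α.map_eq_one_iff.1 h2⟩
  · show ψ0 (α B6) = _; rw [hαB, hb']
  · show ψ0 (α C6) = _; rw [hαC, hc']
  · show ψ0 (α R6) = _; rw [hαR, hr']; rfl

/-- The embedding exists. -/
theorem exists_big
    (hn : (zpowers (⟨L.tr 1, mem_centralizer_singleton_iff.2 rfl⟩ : centralizer ({L.tr 1} : Set G))).Normal)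
    (hs : IsSimpleGroup ((centralizer ({L.tr 1} : Set G)) ⧸
        zpowers (⟨L.tr 1, mem_centralizer_singleton_iff.2 rfl⟩ : centralizer ({L.tr 1} : Set G))))
    (hc : Nat.card ((centralizer ({L.tr 1} : Set G)) ⧸
        zpowers (⟨L.tr 1, mem_centralizer_singleton_iff.2 rfl⟩ : centralizer ({L.tr 1} : Set G))) = 360) :
    Nonempty (Big G) := by
  classical
  obtain ⟨ψ, hψ, hψa, hψr, hfac, huniq, hψB, hψC, hψR⟩ := L.exists_psi hn hs hc
  obtain ⟨a, ha⟩ : ∃ a, a = L.tr 1 := ⟨_, rfl⟩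
  rw [← ha] at hψa hfac huniq
  have ha3 : orderOf a = 3 := ha ▸ L.ord_tr (by decide)
  obtain ⟨T, hT⟩ : ∃ T, T = L.φ tK := ⟨_, rfl⟩
  obtain ⟨ht2, hta, htb, htc⟩ := tK_spec
  have hT2 : T * T = 1 := by rw [hT, ← map_mul, ht2, map_one]
  have hTi : T⁻¹ = T := inv_eq_of_mul_eq_one_right hT2
  have hTa : T * a * T⁻¹ = a⁻¹ := by rw [hT, ha, ← map_inv, ← map_mul, ← map_mul, hta, map_inv]
  -- the action of the odd element
  have hTX : ∀ x, ∃ y, ψ y = T * ψ x * T⁻¹ := by
    intro x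
    have hC : (centralizer ({L.tr 1} : Set G)).map (MulAut.conj T).toMonoidHom ≤ centralizer ({L.tr 1} : Set G) := by
      rintro _ ⟨g, hg, rfl⟩
      rw [mem_centralizer_singleton_iff, ← ha]
      have hga0 : Commute g a := ha ▸ mem_centralizer_singleton_iff.1 hg
      have hga := hga0.inv_right
      have e : T * a⁻¹ * T⁻¹ = a := by rw [← conj_inv, hTa, inv_inv]
      show T * g * T⁻¹ * a = a * (T * g * T⁻¹)
      conv_lhs => rw [← e]
      conv_rhs => rw [← e]
      calc T * g * T⁻¹ * (T * a⁻¹ * T⁻¹) = T * (g * a⁻¹) * T⁻¹ := by group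
        _ = T * (a⁻¹ * g) * T⁻¹ := by rw [hga.eq]
        _ = _ := by group
    have hm : T * ψ x * T⁻¹ ∈ ψ.range := by
      rw [hψr]
      refine commutator_mono hC hC ?_
      rw [← map_commutator, ← hψr]
      exact ⟨ψ x, ⟨x, rfl⟩, rfl⟩
    exact hm
  let s : A6 ≃* A6 := MulAut.conjNormal (swap (0 : Fin 6) 1)
  choose β hβ using fun x => hTX (s x)
  have hβm : ∀ x y, β (x * y) = β x * β y := fun x y => hψ (by
    rw [map_mul, hβ, hβ, hβ, map_mul, map_mul]; group)
  have hβb : Function.Bijective β := by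
    have hi : Function.Injective β := fun x y h => by
      have := hβ x
      rw [h, hβ] at this
      exact s.injective (hψ (mul_left_cancel (mul_right_cancel this)).symm)
    exact ⟨hi, Finite.injective_iff_surjective.1 hi⟩
  let γ : A6 ≃* A6 := { Equiv.ofBijective β hβb with map_mul' := hβm }
  have hγ : ∀ x, γ x = x := by
    refine fixed_six γ (hψ ?_) (hψ ?_) (hψ ?_) <;> show ψ (β _) = _ <;> rw [hβ]
    · rw [show s B6 = B6⁻¹ from (show ∀ (h : s B6 = B6⁻¹), s B6 = B6⁻¹ from fun h => h) (Subtype.ext (by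
        simp only [s, MulAut.conjNormal_apply, InvMemClass.coe_inv]; decide +kernel)),
        map_inv, hψB, hT, ← map_inv, ← map_inv, ← map_mul, ← map_mul, htb]
    · rw [show s C6 = C6 from Subtype.ext (by simp only [s, MulAut.conjNormal_apply]; decide +kernel),
        hψC, hT, ← map_inv, ← map_mul, ← map_mul, htc]
    · obtain ⟨i, j, l, h1, h2⟩ := twist
      rw [show s R6 = B6 ^ (i : ℕ) * C6 ^ (j : ℕ) * R6 ^ (l : ℕ) from
          Subtype.ext ((MulAut.conjNormal_apply _ _).trans h1),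
        map_mul, map_mul, map_pow, map_pow, map_pow, hψB, hψC, hψR, hT]
      simp only [← map_pow, ← map_mul, ← map_inv]
      rw [h2]
  have hTψ : ∀ x, T * ψ (s x) * T⁻¹ = ψ x := fun x => by rw [← hβ]; exact congrArg ψ (hγ x)
  -- the map
  let h : L9 → G := fun p => a ^ ((p : Pr).1 0).val *
    ψ (if e : Perm.sign (p : Pr).2 = 1 then ⟨(p : Pr).2, Perm.mem_alternatingGroup.2 e⟩ else 1)
  have hev : ∀ p : L9, Perm.sign (p : Pr).1 = 1 → ∀ e : (p : Pr).2 ∈ alternatingGroup (Fin 6),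
      h p = a ^ ((p : Pr).1 0).val * ψ ⟨(p : Pr).2, e⟩ := fun p hp e => by
    show _ * ψ _ = _
    rw [dif_pos (Perm.mem_alternatingGroup.1 e)]
  have hmem : ∀ p : L9, Perm.sign (p : Pr).1 = 1 → (p : Pr).2 ∈ alternatingGroup (Fin 6) := fun p hp =>
    Perm.mem_alternatingGroup.2 ((sign_eq p).trans hp)
  obtain ⟨hc1, hc2, hc3⟩ := c3_facts
  have hapow : ∀ n, a ^ (n % 3) = a ^ n := fun n => ha3 ▸ pow_mod_orderOf a n
  have hhm : ∀ p q : L9, Perm.sign (p : Pr).1 = 1 → Perm.sign (q : Pr).1 = 1 → h (p * q) = h p * h q := by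
    intro p q hp hq
    rw [hev p hp (hmem p hp), hev q hq (hmem q hq),
      hev (p * q) (by simp [hp, hq]) (hmem _ (by simp [hp, hq]))]
    show a ^ (((p : Pr).1 * (q : Pr).1) 0).val * _ = _
    rw [hc1 _ _ hp hq, hapow, pow_add,
      show (⟨((p * q : L9) : Pr).2, hmem _ (by simp [hp, hq])⟩ : A6) = ⟨_, hmem p hp⟩ * ⟨_, hmem q hq⟩ from rfl,
      map_mul]
    generalize (⟨_, hmem p hp⟩ : A6) = x
    generalize (⟨_, hmem q hq⟩ : A6) = y
    rw [mul_assoc, mul_assoc]
    congr 1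
    rw [← mul_assoc, ((show Commute (ψ x) a from hψa x).symm.pow_left ((q : Pr).1 0).val).eq, mul_assoc]
  have hconj : ∀ p : L9, Perm.sign (p : Pr).1 = 1 → T * h p * T = h (tL * p * tL) := by
    intro p hp
    have hp' : Perm.sign ((tL * p * tL : L9) : Pr).1 = 1 := by simp [tL, el, hp]
    rw [hev p hp (hmem p hp), hev _ hp' (hmem _ hp')]
    show _ = a ^ ((swap 0 1 * (p : Pr).1 * swap 0 1 : Perm (Fin 3)) 0).val * _
    rw [hc2 _ hp, hapow, ← hTψ ⟨((tL * p * tL : L9) : Pr).2, hmem _ hp'⟩]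
    rw [show s ⟨((tL * p * tL : L9) : Pr).2, hmem _ hp'⟩ = ⟨(p : Pr).2, hmem p hp⟩ from Subtype.ext (by
      simp only [s, MulAut.conjNormal_apply]
      show swap 0 1 * (swap 0 1 * (p : Pr).2 * swap 0 1) * (swap (0 : Fin 6) 1)⁻¹ = _
      simp [mul_assoc, Equiv.swap_inv])]
    rw [hTi]
    have e : T * a ^ ((p : Pr).1 0).val * T = a ^ (3 - ((p : Pr).1 0).val) := by
      have h3 : a ^ 3 = 1 := ha3 ▸ pow_orderOf_eq_one a
      have e1 : T * a ^ ((p : Pr).1 0).val * T⁻¹ = (a ^ ((p : Pr).1 0).val)⁻¹ := by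
        rw [← conj_pow, hTa, inv_pow]
      rw [hTi] at e1
      rw [e1, inv_eq_iff_mul_eq_one, ← pow_add,
        show ((p : Pr).1 0).val + (3 - ((p : Pr).1 0).val) = 3 by omega, h3]
    rw [← e]
    generalize (⟨(p : Pr).2, hmem p hp⟩ : A6) = y
    simp only [mul_assoc]
    rw [← mul_assoc T T, hT2, one_mul]
  have htt : tL * tL = 1 := by decide +kernel
  have hsgn : ∀ p : L9, Perm.sign ((p : Pr).1) ≠ 1 →
      Perm.sign ((p * tL : L9) : Pr).1 = 1 ∧ Perm.sign ((tL * p : L9) : Pr).1 = 1 := fun p hp => by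
    rcases Int.units_eq_one_or (Perm.sign (p : Pr).1) with e | e
    · exact absurd e hp
    · constructor <;> simp [tL, el, e]
  let f : L9 → G := fun p => if Perm.sign (p : Pr).1 = 1 then h p else h (p * tL) * T
  have hfm : ∀ p q, f (p * q) = f p * f q := by
    intro p q
    by_cases hp : Perm.sign (p : Pr).1 = 1 <;> by_cases hq : Perm.sign (q : Pr).1 = 1
    · simp only [f, if_pos hp, if_pos hq, if_pos (show Perm.sign ((p * q : L9) : Pr).1 = 1 by simp [hp, hq])]
      exact hhm p q hp hq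
    · simp only [f, if_pos hp, if_neg hq, if_neg (show ¬ Perm.sign ((p * q : L9) : Pr).1 = 1 by simpa [hp] using hq)]
      rw [mul_assoc p, hhm p _ hp (hsgn q hq).1, mul_assoc]
    · have hq' : Perm.sign ((tL * q * tL : L9) : Pr).1 = 1 := by simp [tL, el, hq]
      simp only [f, if_neg hp, if_pos hq, if_neg (show ¬ Perm.sign ((p * q : L9) : Pr).1 = 1 by simpa [hq] using hp)]
      rw [show p * q * tL = p * tL * (tL * q * tL) by simp only [mul_assoc]; rw [← mul_assoc tL tL, htt, one_mul],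
        hhm _ _ (hsgn p hp).1 hq', ← hconj q hq]
      calc h (p * tL) * (T * h q * T) * T = h (p * tL) * T * h q * (T * T) := by group
        _ = _ := by rw [hT2, mul_one]
    · have hq1 := (hsgn q hq).1
      have hpq : Perm.sign ((p * q : L9) : Pr).1 = 1 := by
        rcases Int.units_eq_one_or (Perm.sign (p : Pr).1) with e | e
        · exact absurd e hp
        rcases Int.units_eq_one_or (Perm.sign (q : Pr).1) with e' | e'
        · exact absurd e' hq
        simp [e, e']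
      simp only [f, if_neg hp, if_neg hq, if_pos hpq]
      rw [show p * q = p * tL * (tL * (q * tL) * tL) by
        simp only [mul_assoc]; rw [← mul_assoc tL tL, htt, one_mul, mul_one],
        hhm _ _ (hsgn p hp).1 (by simpa [tL, el] using hq1), ← hconj _ hq1]
      group
  let f0 : L9 →* G := MonoidHom.mk' f hfm
  have hinj : Function.Injective f0 := by
    rw [injective_iff_map_eq_one]
    intro p hp
    change f p = 1 at hp
    by_cases hp1 : Perm.sign (p : Pr).1 = 1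
    · simp only [f, if_pos hp1] at hp
      rw [hev p hp1 (hmem p hp1)] at hp
      obtain ⟨h1, h2⟩ := huniq ((p : Pr).1 0) _ hp
      exact Subtype.ext (Prod.ext (hc3 _ hp1 (by rw [h1]; rfl)) (congrArg Subtype.val h2))
    · simp only [f, if_neg hp1] at hp
      exfalso
      have hc : Commute (h (p * tL)) a :=
        ((Commute.refl a).pow_left _).mul_left (show Commute (ψ _) a from hψa _)
      have : T * a * T⁻¹ = a := by
        rw [show T = (h (p * tL))⁻¹ from eq_inv_of_mul_eq_one_right hp, hc.inv_left.eq, mul_inv_cancel_right]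
      rw [hTa] at this
      have h2 : a ^ 2 = 1 := by rw [pow_two]; nth_rewrite 1 [← this]; exact inv_mul_cancel a
      have := orderOf_dvd_of_pow_eq_one h2
      rw [ha3] at this
      norm_num at this
  have hfC : ∀ g, g * a = a * g → g ∈ f0.range := by
    intro g hg
    obtain ⟨i, x, hx⟩ := hfac g hg
    have hs : ∀ i : Fin 3, Perm.sign (c3 ^ (i : ℕ)) = 1 ∧ (c3 ^ (i : ℕ)) 0 = i := by decide +kernel
    refine ⟨⟨(c3 ^ (i : ℕ), (x : Perm (Fin 6))), mem_L9.2 (by
      rw [(hs i).1, Perm.mem_alternatingGroup.1 x.2, one_mul])⟩, ?_⟩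
    show f _ = g
    simp only [f, if_pos (hs i).1]
    rw [hev _ (hs i).1 x.2, hx]
    exact congrArg (fun n : Fin 3 => a ^ (n : ℕ) * ψ x) (hs i).2
  have hft : f0 tL = T := by
    show f tL = T
    have : ¬ Perm.sign ((tL : L9) : Pr).1 = 1 := by decide +kernel
    simp only [f, if_neg this, htt]
    rw [hev 1 (by simp) (hmem 1 (by simp))]
    show a ^ ((1 : Perm (Fin 3)) 0).val * ψ 1 * T = T
    simp
  refine ⟨{ toLoc := L, f0 := f0, f0_inj := hinj, f0_norm := fun g hg => ?_, f0_agree := ?_ }⟩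
  · rw [show L.φ (tv 1) = a from ha.symm] at hg
    rcases hg with e | e
    · exact hfC g (mul_inv_eq_iff_eq_mul.1 e)
    · have h1 : g * T * a = a * (g * T) := by
        have e' : g * a⁻¹ * g⁻¹ = a := by rw [← conj_inv, e, inv_inv]
        calc g * T * a = g * (T * a * T⁻¹) * g⁻¹ * (g * T) := by group
          _ = _ := by rw [hTa, e']
      have := mul_mem (hfC _ h1) (⟨tL, hft⟩ : T ∈ f0.range)
      rwa [mul_assoc, hT2, mul_one] at this
  · intro k p hkp
    obtain ⟨i, j, l, m, n, rfl⟩ := stab_block k fun x hx => by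
      rw [← toNine_apply, hkp]; exact em0_low p x hx
    obtain ⟨⟨i1, i3, i9⟩, i5, it⟩ := images
    have hp : p = aL ^ (i : ℕ) * bL ^ (j : ℕ) * cL ^ (l : ℕ) * rL ^ (m : ℕ) * tL ^ (n : ℕ) := em0_inj (by
      rw [← hkp]; simp only [map_mul, map_pow, i1, i3, i9, i5, it])
    rw [hp]
    have hA : f0 aL = L.φ (tv 1) := by
      show f aL = _
      have : Perm.sign ((aL : L9) : Pr).1 = 1 := by decide +kernel
      simp only [f, if_pos this]
      rw [hev _ this (hmem _ this), show ((aL : L9) : Pr).1 0 = 1 by decide +kernel,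
        show (⟨((aL : L9) : Pr).2, hmem _ this⟩ : A6) = 1 from rfl, map_one, mul_one]
      show a ^ 1 = _
      rw [pow_one, ha]
    have hX : ∀ x : A6, f0 ⟨(1, (x : Perm (Fin 6))), mem_L9.2 (by simp [Perm.mem_alternatingGroup.1 x.2])⟩ = ψ x := by
      intro x
      simp only [f0, MonoidHom.mk'_apply, f, Perm.sign_one, if_true]
      rw [hev _ Perm.sign_one x.2]
      simp
    simp only [map_mul, map_pow]
    rw [hft, hA, show f0 bL = L.φ (tv 3) from (hX B6).trans hψB, show f0 cL = L.φ (tv 9) from (hX C6).trans hψC,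
      show f0 rL = L.φ ⟨0, 5⟩ from (hX R6).trans hψR, hT]

end Loc

end Cfsg.Lib.AltNineLocal
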