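import Cfsg.Agent.LocalThree.MonomialValue

/-!
The counting of `MonomialValue` from six of the equations and a weaker congruence.
-/

set_option autoImplicit false
set_option linter.unusedSectionVars false
set_option maxRecDepth 8000

namespace Cfsg.Lib.AltNineLocal

open GramSplit Cfsg.Lib.Monomial

variable {ι : Type*} [Fintype ι] [DecidableEq ι]

/-- No solution in a range. -/
theorem no_small : ∀ s : Fin 54, ∀ t : Fin 243, (0 : ℤ) < s → (0 : ℤ) < t →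
    ((-((2 * (t : ℤ) - s) * (2 * (s : ℤ) - t))) % (24 * (t : ℤ)) = 0 ∧
      10 ≤ (-((2 * (t : ℤ) - s) * (2 * (s : ℤ) - t))) / (24 * (t : ℤ)) ∧
      (-((2 * (t : ℤ) - s) * (2 * (s : ℤ) - t))) / (24 * (t : ℤ)) % 9 = 1) →
    (s : ℤ) = 30 ∧ (-((2 * (t : ℤ) - s) * (2 * (s : ℤ) - t))) / (24 * (t : ℤ)) = 19 := by
  decide +kernel

theorem arith {k x0 x12 x2 x4 : ℤ} (hk : 10 ≤ k) (hk9 : k % 9 = 1) (n2 : x2 ≠ 0) (n4 : x4 ≠ 0)
    (n0 : x0 ≠ 0) (n12 : x12 ≠ 0) (hs : x2 + x4 = x0 + 2 * x12)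
    (e1 : 8 * k * (x12 + 2 * x0) = -3 * (x0 * x12)) (e3 : 6 * k * (x2 + x4) = -(x2 * x4))
    (q1 : x0 * x0 + x12 * x12 ≤ 648 * k) (q3 : x2 * x2 + x4 * x4 ≤ 648 * k) : False := by
  obtain ⟨s, hsd⟩ : ∃ s, x2 + x4 = s := ⟨_, rfl⟩
  obtain ⟨t, htd⟩ : ∃ t, x12 + 2 * x0 = t := ⟨_, rfl⟩
  rw [hsd] at e3 hs
  rw [htd] at e1
  have hs0 : s ≠ 0 := fun e => by subst e; simp [n2, n4] at e3
  have ht0 : t ≠ 0 := fun e => by subst e; simp [n0, n12] at e1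
  have hspos : 0 < s := by
    by_contra hc
    have hsn : s < 0 := lt_of_le_of_ne (not_lt.1 hc) hs0
    have d1 : 0 ≤ s * (s + 24 * k) := by
      have e : s * (s + 24 * k) = (x2 - x4) * (x2 - x4) := by subst hsd; linear_combination 4 * e3
      rw [e]; exact mul_self_nonneg _
    have d2 : s + 24 * k ≤ 0 := by nlinarith only [d1, hsn]
    have d3 : s * (s + 12 * k) ≤ 648 * k := by
      have e : s * (s + 12 * k) = x2 * x2 + x4 * x4 := by subst hsd; linear_combination 2 * e3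
      rw [e]; exact q3
    nlinarith only [d2, d3, hk, mul_nonneg (by linarith only [d2, hk] : (0:ℤ) ≤ -s - 24 * k) (by linarith only [hk] : (0:ℤ) ≤ k)]
  have key : -((2 * t - s) * (2 * s - t)) = 24 * t * k := by
    subst htd
    rw [hs]
    linear_combination -3 * e1
  have htpos : 0 < t := by
    by_contra hc
    have htn : t < 0 := lt_of_le_of_ne (not_lt.1 hc) ht0
    nlinarith only [key, mul_pos (by linarith only [htn, hspos] : (0:ℤ) < s - 2 * t)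
      (by linarith only [htn, hspos] : (0:ℤ) < 2 * s - t), mul_neg_of_neg_of_pos htn (by linarith only [hk] : (0:ℤ) < k)]
  have hs54 : s < 54 := by
    have e : s * (s + 12 * k) = x2 * x2 + x4 * x4 := by subst hsd; linear_combination 2 * e3
    nlinarith only [e, q3, hspos, hk]
  have ht243 : t < 243 := by
    have e : t * (3 * t + 32 * k) = 3 * (4 * (x0 * x0) + x12 * x12) := by subst htd; linear_combination 4 * e1
    nlinarith only [e, q1, htpos, hk, mul_self_nonneg x12]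
  have := no_small ⟨s.toNat, by omega⟩ ⟨t.toNat, by omega⟩
  simp only [Int.toNat_of_nonneg hspos.le, Int.toNat_of_nonneg htpos.le] at this
  rw [key, Int.mul_ediv_cancel_left _ (by omega : (24 * t : ℤ) ≠ 0)] at this
  obtain ⟨h30, h19⟩ := this hspos htpos ⟨Int.mul_emod_right _ _, hk, hk9⟩
  subst h19
  obtain rfl : x4 = 30 - x2 := by omega
  rcases le_or_gt x2 (-46) with hx | hx
  · nlinarith only [e3, hx, h30, hsd, mul_nonneg (by linarith only [hx] : (0:ℤ) ≤ -46 - x2) (by linarith only [hx] : (0:ℤ) ≤ -46 - x2)]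
  rcases le_or_gt 76 x2 with hx' | hx'
  · nlinarith only [e3, hx', h30, hsd]
  · nlinarith only [e3, h30, mul_nonneg (by linarith only [hx] : (0:ℤ) ≤ x2 + 45) (by linarith only [hx'] : (0:ℤ) ≤ 75 - x2)]

set_option maxHeartbeats 1000000 in
/-- The conclusion of the counting. -/
theorem card_eq {n : ℕ → ι → ℤ} {d : ι → ℤ} {o : ι} (h : Vecs n d o) (k : ℕ) (hk : k % 9 = 1)
    (hsq : ∑ x, d x * d x = 648 * (k : ℤ))
    (eq : ∀ a b c : Fin 3, ∀ N : ℕ,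
      ((a, b, c), N) ∈ ([((0, 0, 1), 23328), ((0, 0, 2), 0), ((0, 1, 1), 11664), ((0, 1, 2), 17496),
        ((0, 2, 2), 26244), ((1, 1, 2), 17496)] : List ((Fin 3 × Fin 3 × Fin 3) × ℕ)) →
      (N : ℂ) = 648 * (k : ℂ) * msum n d a b c) : k = 1 := by
  obtain ⟨D, hD, hne, hdeg, hle, hms⟩ := exists_split h
  rw [hsq] at hle
  have hk0 : (k : ℂ) ≠ 0 := Nat.cast_ne_zero.2 (by omega)
  have E1 := eq 0 0 1 23328 (by simp); have E2 := eq 0 0 2 0 (by simp); have E3 := eq 0 1 1 11664 (by simp)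
  have E4 := eq 0 1 2 17496 (by simp); have E5 := eq 0 2 2 26244 (by simp)
  have E6 := eq 1 1 2 17496 (by simp)
  rw [hms] at E1 E2 E3 E4 E5 E6
  have g : ∀ i : Fin 9, ent prin i + (D.map fun p => ent p.1 i * p.2).sum = 0 := fun i => hdeg i i.2
  have g0 := g 0; have g1 := g 1; have g2 := g 2; have g3 := g 3; have g4 := g 4; have g5 := g 5
  have g6 := g 6; have g7 := g 7; have g8 := g 8
  simp only [sols, List.mem_cons, List.not_mem_nil, or_false] at hD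
  rcases hD with hD | hD | hD | hD
  · simp only [sol0, List.map_eq_cons_iff, List.map_eq_nil_iff] at hD
    obtain ⟨⟨r0, x0⟩, _, rfl, rfl, ⟨r1, x1⟩, _, rfl, rfl, ⟨r2, x2⟩, _, rfl, rfl, ⟨r3, x3⟩, _, rfl, rfl, ⟨r4, x4⟩, _,
      rfl, rfl, ⟨r5, x5⟩, _, rfl, rfl, ⟨r6, x6⟩, _, rfl, rfl, ⟨r7, x7⟩, _, rfl, rfl, ⟨r8, x8⟩, _, rfl, rfl, ⟨r9, x9⟩, _,
      rfl, rfl, ⟨r10, x10⟩, _, rfl, rfl, ⟨r11, x11⟩, _, rfl, rfl, ⟨r12, x12⟩, _, rfl, rfl, rfl⟩ := hD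
    simp [ent, prin, List.getD_eq_getElem?_getD] at g0 g1 g2 g3 g4 g5 g6 g7 g8
    simp [vr, ent, coefTab, List.range_succ, List.getD_eq_getElem?_getD] at E1 E2 E3 E4 E5 E6
    simp only [List.forall_mem_cons] at hne
    obtain ⟨n0, n1, n2, n3, n4, n5, n6, n7, n8, n9, n10, n11, n12, -⟩ := hne
    simp only [List.map_cons, List.map_nil, List.sum_cons, List.sum_nil] at hle
    by_contra hk1
    have hk28 : (10 : ℤ) ≤ k := by omega
    have hx11 : x11 = -x12 := by omega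
    subst hx11
    have c0 : (x0 : ℂ) ≠ 0 := Int.cast_ne_zero.2 n0
    have c2 : (x2 : ℂ) ≠ 0 := Int.cast_ne_zero.2 n2
    have c4 : (x4 : ℂ) ≠ 0 := Int.cast_ne_zero.2 n4
    have c12 : (x12 : ℂ) ≠ 0 := Int.cast_ne_zero.2 n12
    have t1 : (k : ℂ) * (1 / (x0 : ℂ) + 2 / (x12 : ℂ)) = -3 / 8 := by
      push_cast [div_neg] at E1 E4 ⊢
      linear_combination (-(1 : ℂ) / 648) * ((-1 / 24 : ℂ) * E1 + (1 / 24 : ℂ) * E4)
    have t3 : (k : ℂ) * (1 / (x2 : ℂ) + 1 / (x4 : ℂ)) = -1 / 6 := by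
      push_cast [div_neg] at E1 E4 E6 ⊢
      linear_combination (-(1 : ℂ) / 648) * ((-1 / 54 : ℂ) * E1 + (1 / 18 : ℂ) * E4 + (-1 / 27 : ℂ) * E6)
    field_simp at t1 t3
    refine arith hk28 (by omega) n2 n4 n0 n12 (by omega) ?_ ?_ ?_ ?_
    · apply Int.cast_injective (α := ℂ); push_cast; linear_combination t1
    · apply Int.cast_injective (α := ℂ); push_cast; linear_combination t3
    · linarith only [hle, mul_self_nonneg x1, mul_self_nonneg x2, mul_self_nonneg x3, mul_self_nonneg x4,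
        mul_self_nonneg x5, mul_self_nonneg x6, mul_self_nonneg x7, mul_self_nonneg x8, mul_self_nonneg x9,
        mul_self_nonneg x10, mul_self_nonneg x12]
    · linarith only [hle, mul_self_nonneg x0, mul_self_nonneg x1, mul_self_nonneg x3,
        mul_self_nonneg x5, mul_self_nonneg x6, mul_self_nonneg x7, mul_self_nonneg x8, mul_self_nonneg x9,
        mul_self_nonneg x10, mul_self_nonneg x12]
  · simp only [sol1, List.map_eq_cons_iff, List.map_eq_nil_iff] at hD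
    obtain ⟨⟨r0, x0⟩, _, rfl, rfl, ⟨r1, x1⟩, _, rfl, rfl, ⟨r2, x2⟩, _, rfl, rfl, ⟨r3, x3⟩, _, rfl, rfl, ⟨r4, x4⟩, _,
      rfl, rfl, ⟨r5, x5⟩, _, rfl, rfl, ⟨r6, x6⟩, _, rfl, rfl, ⟨r7, x7⟩, _, rfl, rfl, ⟨r8, x8⟩, _, rfl, rfl, ⟨r9, x9⟩, _,
      rfl, rfl, ⟨r10, x10⟩, _, rfl, rfl, ⟨r11, x11⟩, _, rfl, rfl, rfl⟩ := hD
    simp [ent, prin, List.getD_eq_getElem?_getD] at g0 g1 g2 g3 g4 g5 g6 g7 g8
    simp only [List.forall_mem_cons] at hne
    omega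
  · simp only [sol2, List.map_eq_cons_iff, List.map_eq_nil_iff] at hD
    obtain ⟨⟨r0, x0⟩, _, rfl, rfl, ⟨r1, x1⟩, _, rfl, rfl, ⟨r2, x2⟩, _, rfl, rfl, ⟨r3, x3⟩, _, rfl, rfl, ⟨r4, x4⟩, _,
      rfl, rfl, ⟨r5, x5⟩, _, rfl, rfl, ⟨r6, x6⟩, _, rfl, rfl, ⟨r7, x7⟩, _, rfl, rfl, ⟨r8, x8⟩, _, rfl, rfl, ⟨r9, x9⟩, _,
      rfl, rfl, ⟨r10, x10⟩, _, rfl, rfl, rfl⟩ := hD
    simp [ent, prin, List.getD_eq_getElem?_getD] at g0 g1 g2 g3 g4 g5 g6 g7 g8
    simp only [List.forall_mem_cons] at hne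
    omega
  · simp only [sol3, List.map_eq_cons_iff, List.map_eq_nil_iff] at hD
    obtain ⟨⟨r0, x0⟩, _, rfl, rfl, ⟨r1, x1⟩, _, rfl, rfl, ⟨r2, x2⟩, _, rfl, rfl, ⟨r3, x3⟩, _, rfl, rfl, ⟨r4, x4⟩, _,
      rfl, rfl, ⟨r5, x5⟩, _, rfl, rfl, ⟨r6, x6⟩, _, rfl, rfl, ⟨r7, x7⟩, _, rfl, rfl, ⟨r8, x8⟩, _, rfl, rfl, ⟨r9, x9⟩, _,
      rfl, rfl, ⟨r10, x10⟩, _, rfl, rfl, ⟨r11, x11⟩, _, rfl, rfl, rfl⟩ := hD
    simp [ent, prin, List.getD_eq_getElem?_getD] at g0 g1 g2 g3 g4 g5 g6 g7 g8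
    simp [vr, ent, coefTab, List.range_succ, List.getD_eq_getElem?_getD] at E1 E2 E3 E4 E5 E6
    simp only [List.forall_mem_cons] at hne
    obtain ⟨n0, n1, n2, n3, n4, n5, n6, n7, n8, n9, n10, n11, -⟩ := hne
    have c2 : (x2 : ℂ) ≠ 0 := Int.cast_ne_zero.2 n2
    have c3 : (x3 : ℂ) ≠ 0 := Int.cast_ne_zero.2 n3
    have c4 : (x4 : ℂ) ≠ 0 := Int.cast_ne_zero.2 n4
    have E2' := E2.resolve_left (by omega)
    have tA : (k : ℂ) * (1 / (x2 : ℂ) + 2 / (x3 : ℂ)) = 0 := by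
      linear_combination (1 : ℂ) / (648 * 9) * ((-1 / 2 : ℂ) * E1 + (-1 / 2 : ℂ) * E3 + E4)
    have tC : (k : ℂ) * (2 / (x2 : ℂ) + 3 / (x4 : ℂ)) = 0 := by
      linear_combination (-1 : ℂ) / (648 * 27) * (E1 + (-2 : ℂ) * E3 + (-3 : ℂ) * E4 + (2 : ℂ) * E5) +
        (2 * (k : ℂ) / 27) * E2'
    have tB : (k : ℂ) * (1 / (x2 : ℂ) - 1 / (x10 : ℂ) + 1 / (x11 : ℂ)) = -3 / 8 := by
      linear_combination (-1 : ℂ) / (648 * 36) * ((-2 : ℂ) * E4 + E5) + ((k : ℂ) / 36) * E2'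
    field_simp at tA tC
    have h3 : x3 + 2 * x2 = 0 := by
      apply Int.cast_injective (α := ℂ); push_cast
      exact (mul_eq_zero.1 (by linear_combination tA : (k : ℂ) * ((x3 : ℂ) + 2 * x2) = 0)).resolve_left hk0
    have h4 : 2 * x4 + 3 * x2 = 0 := by
      apply Int.cast_injective (α := ℂ); push_cast
      exact (mul_eq_zero.1 (by linear_combination tC : (k : ℂ) * (2 * (x4 : ℂ) + 3 * x2) = 0)).resolve_left hk0
    obtain rfl : x11 = -(2 * x2) := by omega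
    obtain rfl : x10 = 2 * x2 := by omega
    push_cast at tB
    field_simp at tB
    norm_num at tB
    exact absurd tB n2

end Cfsg.Lib.AltNineLocal
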