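import Mathlib.GroupTheory.Sylow
import Mathlib.Algebra.Group.Conj

/-!
Three elements of order three with product one have a common centralising element of order three,
unless the first is conjugate to the inverse of the product.
-/

set_option autoImplicit false

namespace Cfsg.Lib.AltNineLocal

open Subgroup
open scoped Pointwise

universe u

variable {G : Type u} [Group G] [Finite G]

/-- The common centralising element. -/
theorem exists_central {x y : G} (hx : x * (x * x) = 1) (hy : y * (y * y) = 1)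
    (hc : x * y * (x * y * (x * y)) = 1) (hne : ¬ IsConj x (x * y)⁻¹) :
    ∃ p : G, p * (p * p) = 1 ∧ p ≠ 1 ∧ Commute p x ∧ Commute p y := by
  have : Fact (Nat.Prime 3) := ⟨Nat.prime_three⟩
  have x2 : x⁻¹ = x * x := inv_eq_of_mul_eq_one_right hx
  obtain ⟨u, hu⟩ : ∃ u, u = x * y⁻¹ := ⟨_, rfl⟩
  obtain ⟨v, hv⟩ : ∃ v, v = y⁻¹ * x := ⟨_, rfl⟩
  have hxv : x⁻¹ * u * x = v := by rw [hu, hv]; group
  have huv : u * v = v * u := by
    rw [hu, hv]
    calc x * y⁻¹ * (y⁻¹ * x) = x * (y * (y * y))⁻¹ * y * x := by group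
      _ = x * y * x := by rw [hy, inv_one, mul_one]
      _ = (y * x * y)⁻¹ := eq_inv_of_mul_eq_one_left (by rw [← hc]; group)
      _ = y⁻¹ * x⁻¹ * y⁻¹ := by group
      _ = y⁻¹ * x * (x * y⁻¹) := by rw [x2]; group
  have hxv' : x⁻¹ * v * x = (u * v)⁻¹ := by
    rw [hu, hv]
    calc x⁻¹ * (y⁻¹ * x) * x = x⁻¹ * y⁻¹ * (x * x) := by group
      _ = x⁻¹ * y⁻¹ * x⁻¹ := by rw [← x2]
      _ = (x * y * x)⁻¹ := by group
      _ = (x * (y * (y * y))⁻¹ * y * x)⁻¹ := by rw [hy, inv_one, mul_one]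
      _ = (x * y⁻¹ * (y⁻¹ * x))⁻¹ := by group
  obtain ⟨A, hA⟩ : ∃ A : Subgroup G, A = closure {u, v} := ⟨_, rfl⟩
  have huA : u ∈ A := hA ▸ subset_closure (Set.mem_insert _ _)
  have hvA : v ∈ A := hA ▸ subset_closure (Set.mem_insert_of_mem _ rfl)
  have hab : ∀ a ∈ A, ∀ b ∈ A, a * b = b * a := by
    have := Subgroup.isMulCommutative_closure (k := ({u, v} : Set G)) (by
      intro a ha b hb
      rcases ha with rfl | rfl <;> rcases hb with rfl | rfl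
      exacts [rfl, huv, huv.symm, rfl])
    intro a ha b hb
    rw [hA] at ha hb
    exact congrArg Subtype.val (this.is_comm.comm ⟨a, ha⟩ ⟨b, hb⟩)
  have hxA : ∀ a ∈ A, x⁻¹ * a * x ∈ A := by
    intro a ha
    have hle : A ≤ A.comap (MulAut.conj x⁻¹).toMonoidHom := by
      conv_lhs => rw [hA]
      refine (Subgroup.closure_le _).2 ?_
      rintro b (rfl | rfl)
      · show x⁻¹ * b * x⁻¹⁻¹ ∈ A
        rw [inv_inv, hxv]; exact hvA
      · show x⁻¹ * b * x⁻¹⁻¹ ∈ A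
        rw [inv_inv, hxv']; exact inv_mem (mul_mem huA hvA)
    simpa using hle ha
  have hxA' : ∀ a ∈ A, x * a * x⁻¹ ∈ A := fun a ha => by
    have := hxA _ (hxA a ha)
    convert this using 1
    calc x * a * x⁻¹ = (x * (x * x)) * (x⁻¹ * (x⁻¹ * a * x) * x) * (x * (x * x))⁻¹ := by group
      _ = x⁻¹ * (x⁻¹ * a * x) * x := by rw [hx]; group
  have hxn : zpowers x ≤ normalizer (A : Set G) := zpowers_le.2 (mem_normalizer_iff.2 fun a =>
    ⟨fun ha => hxA' a ha, fun ha => by simpa [mul_assoc] using hxA _ ha⟩)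
  -- a nontrivial fixed element
  have fixed : ∀ q ∈ A, q * (q * q) = 1 → q ≠ 1 → ∃ p : G, p * (p * p) = 1 ∧ p ≠ 1 ∧ Commute p x ∧ Commute p y := by
    intro q hq hq3 hq1
    have fin : ∀ p ∈ A, p * (p * p) = 1 → p ≠ 1 → x * p * x⁻¹ = p →
        ∃ p : G, p * (p * p) = 1 ∧ p ≠ 1 ∧ Commute p x ∧ Commute p y := by
      intro p hp h3 h1 hfix
      have hpx : Commute p x := (mul_inv_eq_iff_eq_mul.1 hfix).symm
      refine ⟨p, h3, h1, hpx, ?_⟩
      have e : y = u⁻¹ * x := by rw [hu]; group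
      rw [e]
      exact (show Commute p u from hab p hp u huA).inv_right.mul_right hpx
    obtain ⟨r, hr⟩ : ∃ r, r = x * q * x⁻¹ := ⟨_, rfl⟩
    have hrA : r ∈ A := hr ▸ hxA' q hq
    have hr3 : r * (r * r) = 1 := by
      rw [hr, show x * q * x⁻¹ * (x * q * x⁻¹ * (x * q * x⁻¹)) = x * (q * (q * q)) * x⁻¹ by group, hq3]; group
    by_cases hrq : r = q
    · exact fin q hq hq3 hq1 (by rw [← hr, hrq])
    have hcomm := hab r hrA q hq
    have hsA : x * r * x⁻¹ ∈ A := hxA' r hrA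
    by_cases hprod : q * r * (x * r * x⁻¹) = 1
    · have hd3 : r * q⁻¹ * (r * q⁻¹ * (r * q⁻¹)) = 1 := by
        have hc' : Commute r q⁻¹ := (show Commute r q from hcomm).inv_right
        rw [← pow_two, ← pow_succ', hc'.mul_pow, inv_pow, pow_succ', pow_two, pow_succ', pow_two, hr3, hq3, inv_one,
          one_mul]
      refine fin (r * q⁻¹) (mul_mem hrA (inv_mem hq)) hd3 (fun e => hrq (mul_inv_eq_one.1 e)) ?_
      have es : x * r * x⁻¹ = (q * r)⁻¹ := eq_inv_of_mul_eq_one_right hprod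
      calc x * (r * q⁻¹) * x⁻¹ = (x * r * x⁻¹) * (x * q * x⁻¹)⁻¹ := by group
        _ = r⁻¹ * q⁻¹ * r⁻¹ := by rw [es, ← hr, mul_inv_rev]
        _ = r⁻¹ * r⁻¹ * q⁻¹ := by
          rw [mul_assoc, ((show Commute q r from hcomm.symm).inv_inv).eq, ← mul_assoc]
        _ = r * q⁻¹ := by rw [← mul_inv_rev, inv_eq_of_mul_eq_one_left hr3]
    · have c1 := hab q hq r hrA
      have c2 := hab q hq _ hsA
      have c3 := hab r hrA _ hsA
      refine fin (q * r * (x * r * x⁻¹)) (mul_mem (mul_mem hq hrA) hsA) ?_ hprod ?_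
      · have h1 : Commute q r := c1
        have h2 : Commute (q * r) (x * r * x⁻¹) := (show Commute q _ from c2).mul_left (show Commute r _ from c3)
        have hs3 : (x * r * x⁻¹) * ((x * r * x⁻¹) * (x * r * x⁻¹)) = 1 := by
          rw [show x * r * x⁻¹ * (x * r * x⁻¹ * (x * r * x⁻¹)) = x * (r * (r * r)) * x⁻¹ by group, hr3]; group
        rw [← pow_two, ← pow_succ', h2.mul_pow, h1.mul_pow, pow_succ', pow_two, pow_succ', pow_two, pow_succ',
          pow_two, hq3, hr3, hs3, one_mul, one_mul]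
      · have hq' : x * (x * r * x⁻¹) * x⁻¹ = q := by
          rw [hr]
          calc _ = (x * (x * x)) * q * (x * (x * x))⁻¹ := by group
            _ = q := by rw [hx]; group
        calc x * (q * r * (x * r * x⁻¹)) * x⁻¹ = (x * q * x⁻¹) * (x * r * x⁻¹) * (x * (x * r * x⁻¹) * x⁻¹) := by group
          _ = r * (x * r * x⁻¹) * q := by rw [← hr, hq']
          _ = q * r * (x * r * x⁻¹) := by rw [mul_assoc q, hab q hq _ (mul_mem hrA hsA)]
  obtain ⟨K, hK⟩ : ∃ K : Subgroup G, K = A ⊔ zpowers x := ⟨_, rfl⟩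
  have hxK : x ∈ K := hK ▸ Subgroup.mem_sup_right (mem_zpowers x)
  have hyA : y = u⁻¹ * x := by rw [hu]; group
  have hyK : y ∈ K := by rw [hyA]; exact mul_mem (inv_mem (hK ▸ Subgroup.mem_sup_left huA)) hxK
  have hcK : x * y ∈ K := mul_mem hxK hyK
  have pg : ∀ w : K, (w : G) * (w * w) = 1 → IsPGroup 3 (zpowers w) := by
    intro w hw q
    refine ⟨1, Subtype.ext ?_⟩
    obtain ⟨i, hi⟩ := q.2
    show (q : K) ^ (3 ^ 1) = 1
    rw [← hi, pow_one, ← zpow_natCast, ← zpow_mul, mul_comm, zpow_mul, zpow_natCast,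
      show w ^ 3 = 1 from Subtype.ext (by push_cast; rw [pow_succ', pow_two, hw]), one_zpow]
  obtain ⟨P₁, hP₁⟩ := (pg ⟨x, hxK⟩ hx).exists_le_sylow
  obtain ⟨P₂, hP₂⟩ := (pg ⟨x * y, hcK⟩ hc).exists_le_sylow
  obtain ⟨k, hk⟩ := MulAction.exists_smul_eq K P₂ P₁
  have hckP : k * ⟨x * y, hcK⟩ * k⁻¹ ∈ (P₁ : Subgroup K) := by
    rw [← hk, Sylow.coe_subgroup_smul]; exact ⟨_, hP₂ (mem_zpowers _), rfl⟩
  have hkK : (k : G) ∈ (A : Set G) * (zpowers x : Set G) := by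
    rw [← Subgroup.coe_mul_of_right_le_normalizer_left A _ hxn, ← hK]; exact k.2
  obtain ⟨a, ha, z, hz, hkz⟩ := hkK
  obtain ⟨i, rfl⟩ := hz
  simp only at hkz
  obtain ⟨w, hw⟩ : ∃ w, w = (k : G) * (x * y) * (k : G)⁻¹ := ⟨_, rfl⟩
  have hwx : w * (x * x)⁻¹ ∈ A := by
    rw [hw, ← hkz, hyA, show a * x ^ i * (x * (u⁻¹ * x)) * (a * x ^ i)⁻¹ * (x * x)⁻¹ =
      a * (x ^ i * (x * u⁻¹ * x⁻¹) * (x ^ i)⁻¹) * (x * (x * a⁻¹ * x⁻¹) * x⁻¹) by group]
    refine mul_mem (mul_mem ha ?_) (hxA' _ (hxA' _ (inv_mem ha)))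
    exact (mem_normalizer_iff.1 (hxn (zpow_mem (mem_zpowers x) i)) _).1 (hxA' _ (inv_mem huA))
  obtain ⟨q, hq⟩ : ∃ q : K, q = k * ⟨x * y, hcK⟩ * k⁻¹ * (⟨x, hxK⟩ * ⟨x, hxK⟩)⁻¹ := ⟨_, rfl⟩
  have hqA : (q : G) ∈ A := by rw [hq]; push_cast; rw [← hw]; exact hwx
  have hqP : q ∈ (P₁ : Subgroup K) := hq ▸ mul_mem hckP (inv_mem (mul_mem (hP₁ (mem_zpowers _)) (hP₁ (mem_zpowers _))))
  have hq1 : (q : G) ≠ 1 := by
    intro e
    rw [hq] at e; push_cast at e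
    rw [← hw, mul_inv_eq_one, ← x2] at e
    refine hne (isConj_iff.2 ⟨(k : G)⁻¹, ?_⟩)
    have ex : x = w⁻¹ := by rw [e, inv_inv]
    calc (k : G)⁻¹ * x * (k : G)⁻¹⁻¹ = (k : G)⁻¹ * w⁻¹ * (k : G)⁻¹⁻¹ := by rw [← ex]
      _ = _ := by rw [hw]; group
  obtain ⟨j, hj⟩ := P₁.isPGroup' ⟨q, hqP⟩
  have hj' : (q : G) ^ 3 ^ j = 1 := congrArg (fun z : (P₁ : Subgroup K) => ((z : K) : G)) hj
  obtain ⟨m, hm1, hm2⟩ : ∃ m, (q : G) ^ 3 ^ m ≠ 1 ∧ (q : G) ^ 3 ^ (m + 1) = 1 := by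
    clear hj
    induction j with
    | zero => exact absurd (by simpa using hj') hq1
    | succ j ih =>
      by_cases h : (q : G) ^ 3 ^ j = 1
      · exact ih h
      · exact ⟨j, h, hj'⟩
  exact fixed _ (pow_mem hqA _) (by rw [← pow_two, ← pow_succ', ← pow_mul, ← pow_succ, hm2]) hm1

end Cfsg.Lib.AltNineLocal
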