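import Cfsg.Agent.LocalThree.MonomialCentral
import Cfsg.Agent.LocalThree.AltNineLocal.Basic
import Cfsg.Agent.LocalThree.AltNineLocal.FusedValue
import Cfsg.Agent.LocalThree.AltNineLocal.Tri

/-!
The local group is everything when it contains the centralisers of all nontrivial elements of `J`.
-/

set_option autoImplicit false
set_option linter.unusedSectionVars false
set_option maxRecDepth 8000

namespace Cfsg.Lib.AltNineLocal

open Subgroup Cfsg.Lib.Chars Cfsg.Lib.GramSplit Cfsg.Lib.Monomial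
open scoped ComplexConjugate Pointwise

universe u

theorem small_comm : ∀ v : Fin 27, v ≠ 0 → cls (tv v) ≠ acls 2 → ∀ k : Mon, k * tv v = tv v * k →
    k * (k * k) = 1 → InV k := by decide +kernel

theorem outer_comm : ∀ k : Mon, k * (k * k) = 1 → ¬ InV k →
    ∃ w : Fin 27, cls (tv w) = acls 2 ∧ k * tv w = tv w * k := by decide +kernel

theorem cube_bad : ∀ w : Fin 27, cls (tv w) = acls 2 → ∀ k : Mon, k * tv w = tv w * k → k * (k * k) = 1 →
    ¬ InV k → rep (acls 0) * k * (rep (acls 0) * k * (rep (acls 0) * k)) ≠ 1 := by decide +kernel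

theorem rep_comm : ∀ a : Fin 3, a ≠ 2 → ∀ k : Mon, k * rep (acls a) = rep (acls a) * k →
    k * (k * k) = 1 → InV k := by decide +kernel

theorem top_line : ∀ v w : Fin 27, cls (tv v) = acls 2 → cls (tv w) = acls 2 →
    cls (tv v * tv w) = acls 2 ∨ tv v * tv w = 1 → cls ((tv v)⁻¹ * tv w) = acls 2 ∨ (tv v)⁻¹ * tv w = 1 →
    tv w = tv v ∨ tv w = tv v * tv v := by decide +kernel

/-- In a cyclic group the elements of order three are powers of each other. -/
theorem cube_mem {X : Type u} [Group X] [Finite X] {x : X} {n m : ℕ} (hn : (x ^ n) ^ 3 = 1) (hn1 : x ^ n ≠ 1)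
    (hm : (x ^ m) ^ 3 = 1) : x ^ m ∈ zpowers (x ^ n) := by
  rw [← pow_mul] at hn hm
  have hN := orderOf_dvd_of_pow_eq_one hn
  have hN1 : ¬ orderOf x ∣ n := fun h => hn1 (orderOf_dvd_iff_pow_eq_one.1 h)
  have hM := orderOf_dvd_of_pow_eq_one hm
  obtain ⟨M, hM'⟩ : 3 ∣ orderOf x := by
    by_contra h
    exact hN1 ((((Nat.prime_three.coprime_iff_not_dvd).2 h).symm).dvd_of_dvd_mul_right hN)
  rw [hM', mul_comm n 3] at hN
  rw [hM', mul_comm m 3] at hM
  obtain ⟨l, hl⟩ := Nat.dvd_of_mul_dvd_mul_left (by norm_num) hN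
  obtain ⟨i, hi⟩ := Nat.dvd_of_mul_dvd_mul_left (by norm_num) hM
  have hl3 : l % 3 = 1 ∨ l % 3 = 2 := by
    have : l % 3 ≠ 0 := by
      intro h
      obtain ⟨q, rfl⟩ := Nat.dvd_of_mod_eq_zero h
      exact hN1 ⟨q, by rw [hM', hl]; ring⟩
    omega
  refine mem_zpowers_iff.2 ⟨((i * l : ℕ) : ℤ), ?_⟩
  rw [zpow_natCast, ← pow_mul]
  refine pow_eq_pow_iff_modEq.2 ?_
  have : i * l * l ≡ i [MOD 3] := by
    unfold Nat.ModEq
    rcases hl3 with h | h <;> simp [Nat.mul_mod, h] <;> omega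
  rw [hM', hi, hl, mul_comm 3 M, show M * l * (i * l) = M * (i * l * l) by ring]
  exact this.mul_left' M

variable {G : Type u} [Group G] [Finite G]

/-- The data. -/
structure Fused (H J : Subgroup G) where
  φ : ↥H ≃* Mon
  memJ : ∀ x : H, (x : G) ∈ J ↔ InV (φ x)
  le : J ≤ H
  hC : ∀ j ∈ J, j ≠ 1 → centralizer ({j} : Set G) ≤ H
  hweak : ∀ j : H, (j : G) ∈ J → (j : G) ≠ 1 → cls (φ j) ≠ acls 2 → ∀ g : G,
    g * j * g⁻¹ ∈ H → g * j * g⁻¹ ∈ J

namespace Fused

variable {H J : Subgroup G} (S : Fused H J)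

include S

theorem card_sub (p : Mon → Prop) [DecidablePred p] :
    Nat.card {x : H // p (S.φ x)} = (Finset.univ.filter p).card := by
  rw [← Nat.card_eq_finsetCard]
  exact Nat.card_congr (Equiv.subtypeEquiv S.φ.toEquiv fun x => by simp)

theorem cardH : Nat.card H = 648 := (Nat.card_congr S.φ.toEquiv).trans card_mon

theorem cardJ : Nat.card J = 27 := by
  rw [← card_inV, ← S.card_sub InV]
  exact Nat.card_congr
    { toFun := fun t => ⟨⟨t.1, S.le t.2⟩, (S.memJ _).1 t.2⟩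
      invFun := fun x => ⟨x.1.1, (S.memJ _).2 x.2⟩
      left_inv := fun _ => rfl
      right_inv := fun _ => rfl }

/-- The representatives in `G`. -/
noncomputable def el (a : Fin 3) : H := S.φ.symm (rep (acls a))

theorem el_spec (a : Fin 3) : S.φ (S.el a) = rep (acls a) := S.φ.apply_symm_apply _

theorem el_mem (a : Fin 3) : (S.el a : G) ∈ J := (S.memJ _).2 (by rw [S.el_spec]; exact (rep_acls a).1)

theorem el_ne (a : Fin 3) : (S.el a : G) ≠ 1 := fun h => (rep_acls a).2 (by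
  rw [← S.el_spec, show S.el a = 1 from Subtype.ext h, map_one])

theorem card_centralizer (a : Fin 3) : Nat.card (centralizer ({(S.el a : G)} : Set G)) = csize a := by
  rw [← card_cent a, ← S.card_sub (fun k => k * rep (acls a) = rep (acls a) * k)]
  refine Nat.card_congr
    { toFun := fun c => ⟨⟨c.1, S.hC _ (S.el_mem a) (S.el_ne a) c.2⟩, ?_⟩
      invFun := fun x => ⟨x.1.1, mem_centralizer_singleton_iff.2 ?_⟩
      left_inv := fun _ => rfl
      right_inv := fun _ => rfl }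
  · rw [← S.el_spec, ← map_mul, ← map_mul]
    exact congrArg S.φ (Subtype.ext (mem_centralizer_singleton_iff.1 c.2))
  · have h2 : S.φ x.1 * S.φ (S.el a) = S.φ (S.el a) * S.φ x.1 := by rw [S.el_spec]; exact x.2
    rw [← map_mul, ← map_mul] at h2
    exact congrArg Subtype.val (S.φ.injective h2)

theorem exists_conj {j : G} (hj : j ∈ J) (hj1 : j ≠ 1) :
    ∃ a : Fin 3, ∃ c : H, (c : G) * S.el a * (c : G)⁻¹ = j := by
  obtain ⟨a, ha⟩ := inV_cls (S.φ ⟨j, S.le hj⟩) ((S.memJ _).1 hj) (fun e => hj1 (by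
    simpa using congrArg Subtype.val (S.φ.map_eq_one_iff.1 e)))
  obtain ⟨c, hc⟩ := isConj_iff.1 (isConj_rep (S.φ ⟨j, S.le hj⟩))
  rw [ha] at hc
  refine ⟨a, S.φ.symm c, congrArg Subtype.val (S.φ.injective (a₁ := S.φ.symm c * S.el a * (S.φ.symm c)⁻¹) (a₂ := ⟨j, S.le hj⟩) ?_)⟩
  rw [map_mul, map_mul, map_inv, S.el_spec, S.φ.apply_symm_apply, hc]

theorem card_cent_conj (g a : G) :
    Nat.card (centralizer ({g * a * g⁻¹} : Set G)) = Nat.card (centralizer ({a} : Set G)) := by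
  refine (Nat.card_congr (Equiv.subtypeEquiv (MulAut.conj g).toEquiv fun x => ?_)).symm
  rw [mem_centralizer_singleton_iff, mem_centralizer_singleton_iff]
  show _ ↔ g * x * g⁻¹ * (g * a * g⁻¹) = g * a * g⁻¹ * (g * x * g⁻¹)
  rw [show g * x * g⁻¹ * (g * a * g⁻¹) = g * (x * a) * g⁻¹ by group,
    show g * a * g⁻¹ * (g * x * g⁻¹) = g * (a * x) * g⁻¹ by group]
  simp

theorem eq_of_conj {g : G} {a b : Fin 3} (h : g * S.el a * g⁻¹ = S.el b) : a = b :=
  csize_inj (by rw [← S.card_centralizer a, ← S.card_centralizer b, ← h, S.card_cent_conj])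

theorem ti {g t : G} (ht : t ∈ J) (ht1 : t ≠ 1) (hg : g * t * g⁻¹ ∈ J) : g ∈ H := by
  obtain ⟨a, c, hc⟩ := S.exists_conj ht ht1
  obtain ⟨b, c', hc'⟩ := S.exists_conj hg (fun h => ht1 (conj_eq_one_iff.1 h))
  have hw : ((c' : G)⁻¹ * g * c) * S.el a * ((c' : G)⁻¹ * g * c)⁻¹ = S.el b := by
    calc _ = (c' : G)⁻¹ * (g * ((c : G) * S.el a * (c : G)⁻¹) * g⁻¹) * c' := by group
      _ = (c' : G)⁻¹ * ((c' : G) * S.el b * (c' : G)⁻¹) * c' := by rw [hc, hc']
      _ = _ := by group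
  obtain rfl := S.eq_of_conj hw
  have hwH := S.hC _ (S.el_mem a) (S.el_ne a) (mem_centralizer_singleton_iff.2 (mul_inv_eq_iff_eq_mul.1 hw))
  have := mul_mem (mul_mem c'.2 hwH) (inv_mem c.2)
  convert this using 1
  group

theorem J_cube {j : G} (hj : j ∈ J) : j * (j * j) = 1 := by
  have h := inV_cube (S.φ ⟨j, S.le hj⟩) ((S.memJ _).1 hj)
  rw [powN_eq, ← map_pow, S.φ.map_eq_one_iff, pow_succ', pow_two] at h
  simpa using congrArg Subtype.val h

theorem conj_mem {g j : G} (hg : g ∈ H) (hj : j ∈ J) : g * j * g⁻¹ ∈ J := by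
  have h := (S.memJ (⟨g, hg⟩ * ⟨j, S.le hj⟩ * ⟨g, hg⟩⁻¹)).2 (by
    rw [map_mul, map_mul, map_inv, inV_eq _ ((S.memJ ⟨j, S.le hj⟩).1 hj)]
    exact trans_normal _ _)
  simpa using h

theorem exists_tv {j : G} (hj : j ∈ J) : ∃ v, S.φ ⟨j, S.le hj⟩ = tv v :=
  ⟨_, inV_eq _ ((S.memJ ⟨j, S.le hj⟩).1 hj)⟩

/-- The number of cosets. -/
theorem index_mod : H.index % 9 = 1 := by
  classical
  have := Fintype.ofFinite (G ⧸ H)
  let X := {q : G ⧸ H // q ≠ (1 : G)}
  letI : MulAction J X :=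
    { smul := fun j q => ⟨(j : G) • q.1, fun e => q.2 (by
        have e2 := congrArg (fun z => (j : G)⁻¹ • z) e
        simp only [inv_smul_smul] at e2
        rw [e2]
        exact (MulAction.Quotient.smul_mk H (j : G)⁻¹ 1).trans (QuotientGroup.eq.2 (by simpa using S.le j.2)))⟩
      one_smul := fun q => Subtype.ext (one_smul G q.1)
      mul_smul := fun i j q => Subtype.ext (mul_smul (i : G) (j : G) q.1) }
  have hdiag : ∀ q : X, ∀ j ∈ MulAction.stabilizer J q, j ≠ 1 →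
      cls (S.φ ⟨j, S.le j.2⟩) = acls 2 := by
    rintro ⟨q, hq⟩
    obtain ⟨g, rfl⟩ := QuotientGroup.mk_surjective q
    intro j hj hne
    by_contra hc
    have hgj : g⁻¹ * (j : G) * g ∈ H := by
      have e : (((j : G) * g : G) : G ⧸ H) = (g : G ⧸ H) := congrArg Subtype.val (MulAction.mem_stabilizer_iff.1 hj)
      have := QuotientGroup.eq.1 e.symm
      simpa [mul_assoc] using this
    have hne' : (j : G) ≠ 1 := fun e => hne (Subtype.ext e)
    have hJ' := S.hweak ⟨j, S.le j.2⟩ j.2 hne' hc g⁻¹ (by simpa using hgj)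
    refine hq (QuotientGroup.eq.2 ?_)
    simpa using S.ti j.2 hne' hJ'
  have hstab : ∀ q : X, Nat.card (MulAction.stabilizer J q) = 1 ∨ Nat.card (MulAction.stabilizer J q) = 3 := by
    intro q
    have hle : Nat.card (MulAction.stabilizer J q) ≤ 3 := by
      rcases Subgroup.bot_or_exists_ne_one (MulAction.stabilizer J q) with h | ⟨x, hx, hx1⟩
      · rw [h]; simp
      have hsub : ∀ y ∈ MulAction.stabilizer J q, y = 1 ∨ y = x ∨ y = x * x := by
        intro y hy
        by_cases hy1 : y = 1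
        · exact Or.inl hy1
        refine Or.inr ?_
        obtain ⟨v, hv⟩ := S.exists_tv x.2
        obtain ⟨w, hw⟩ := S.exists_tv y.2
        have hcl : ∀ z ∈ MulAction.stabilizer J q, cls (S.φ ⟨z, S.le z.2⟩) = acls 2 ∨ S.φ ⟨z, S.le z.2⟩ = 1 := by
          intro z hz
          by_cases h : z = 1
          · right; subst h; exact map_one S.φ
          · exact Or.inl (hdiag q z hz h)
        have h1 := hdiag q x hx hx1
        have h2 := hdiag q y hy hy1
        rw [hv] at h1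
        rw [hw] at h2
        have h3 := hcl _ (mul_mem hx hy)
        have h4 := hcl _ (mul_mem (inv_mem hx) hy)
        rw [show (⟨((x * y : J) : G), S.le (x * y).2⟩ : H) = ⟨x, S.le x.2⟩ * ⟨y, S.le y.2⟩ from rfl, map_mul, hv, hw] at h3
        rw [show (⟨((x⁻¹ * y : J) : G), S.le (x⁻¹ * y).2⟩ : H) = ⟨x, S.le x.2⟩⁻¹ * ⟨y, S.le y.2⟩ from rfl,
          map_mul, map_inv, hv, hw] at h4
        rcases top_line v w h1 h2 h3 h4 with e | e
        · refine Or.inl (Subtype.ext ?_)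
          exact congrArg (fun z : H => (z : G)) (S.φ.injective (hw.trans (e.trans hv.symm)))
        · refine Or.inr (Subtype.ext ?_)
          rw [← hv, ← hw, ← map_mul] at e
          exact congrArg (fun z : H => (z : G)) (S.φ.injective e)
      refine (Nat.card_le_card_of_injective (α := MulAction.stabilizer J q) (β := ↥({1, x, x * x} : Finset J))
        (fun y => ⟨y.1, by simpa using hsub y.1 y.2⟩) fun y y' h => Subtype.ext (congrArg (fun z => z.1) h :)).trans ?_
      rw [Nat.card_eq_finsetCard]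
      exact (Finset.card_insert_le _ _).trans (Nat.succ_le_succ ((Finset.card_insert_le _ _).trans (by simp)))
    have hd : Nat.card (MulAction.stabilizer J q) ∣ 27 := S.cardJ ▸ Subgroup.card_subgroup_dvd_card _
    have := Nat.card_pos (α := MulAction.stabilizer J q)
    interval_cases hc : Nat.card (MulAction.stabilizer J q) <;> simp_all
  have horb : ∀ q : X, 9 ∣ Nat.card (J ⧸ MulAction.stabilizer J q) := by
    intro q
    have := Subgroup.card_eq_card_quotient_mul_card_subgroup (MulAction.stabilizer J q)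
    rw [S.cardJ] at this
    rcases hstab q with h | h <;> rw [h] at this <;> omega
  have hcard : 9 ∣ Nat.card X := by
    rw [Nat.card_congr (MulAction.selfEquivSigmaOrbitsQuotientStabilizer J X), Nat.card_sigma]
    exact Finset.dvd_sum fun ω _ => horb _
  have hi : H.index = Nat.card X + 1 := by
    rw [Subgroup.index, Nat.card_eq_fintype_card, Nat.card_eq_fintype_card, Fintype.card_subtype_compl]
    have := Fintype.card_pos (α := G ⧸ H)
    simp; omega
  omega

theorem isConj_iff_cls (a : Fin 3) (x : H) (hx : (x : G) ∈ J) :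
    IsConj (S.el a : G) x ↔ cls (S.φ x) = acls a := by
  constructor
  · intro h
    obtain ⟨g, hg⟩ := isConj_iff.1 h
    have hgH := S.ti (S.el_mem a) (S.el_ne a) (hg ▸ hx)
    rw [show x = ⟨g, hgH⟩ * S.el a * ⟨g, hgH⟩⁻¹ from Subtype.ext hg.symm, map_mul, map_mul, map_inv, cls_conj,
      S.el_spec, cls_rep]
  · intro h
    obtain ⟨c, hc⟩ := isConj_iff.1 (isConj_rep (S.φ x))
    rw [h] at hc
    refine isConj_iff.2 ⟨(S.φ.symm c : H), congrArg Subtype.val (S.φ.injective (a₁ := S.φ.symm c * S.el a * (S.φ.symm c)⁻¹) (a₂ := x) ?_)⟩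
    rw [map_mul, map_mul, map_inv, S.el_spec, S.φ.apply_symm_apply, hc]

/-- Products of two conjugates lie in `J`. -/
theorem triangle (a b c : Fin 3) (hac : a ≠ c) (ha : a ≠ 2) (hb : b ≠ 2 ∨ a = 0) {x y : G}
    (hxa : IsConj (S.el a : G) x) (hyb : IsConj (S.el b : G) y) (hxy : x * y = (S.el c : G)) : x ∈ J ∧ y ∈ J := by
  have hcube : ∀ d {w : G}, IsConj (S.el d : G) w → w * (w * w) = 1 := by
    intro d w hw
    obtain ⟨g, rfl⟩ := isConj_iff.1 hw
    calc _ = g * ((S.el d : G) * ((S.el d : G) * (S.el d : G))) * g⁻¹ := by group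
      _ = 1 := by rw [S.J_cube (S.el_mem d)]; group
  have hne : ¬ IsConj x (x * y)⁻¹ := by
    rw [hxy]
    intro h
    have hm : ((S.el c)⁻¹ : H).1 ∈ J := inv_mem (S.el_mem c)
    have := (S.isConj_iff_cls a (S.el c)⁻¹ hm).1 (hxa.trans h)
    rw [map_inv, inV_inv _ ((S.memJ _).1 (S.el_mem c)), S.el_spec, cls_rep] at this
    exact hac ((show Function.Injective acls by decide +kernel) this).symm
  obtain ⟨p, hp3, hp1, hpx, hpy⟩ := exists_central (hcube a hxa) (hcube b hyb)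
    (by rw [hxy]; exact S.J_cube (S.el_mem c)) hne
  obtain ⟨h₀, hh₀⟩ := isConj_iff.1 hxa
  obtain ⟨g, hg⟩ : ∃ g : G, g * x * g⁻¹ = S.el a :=
    ⟨h₀⁻¹, by rw [← hh₀]; group⟩
  have hela : cls (S.φ (S.el a)) ≠ acls 2 := by
    rw [S.el_spec, cls_rep]; exact fun e => ha ((show Function.Injective acls by decide +kernel) e)
  have fin : p ∈ J → x ∈ J ∧ y ∈ J := by
    intro hpJ
    have hxH : x ∈ H := S.hC p hpJ hp1 (mem_centralizer_singleton_iff.2 hpx.symm.eq)
    have hxJ : x ∈ J := by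
      have e : g⁻¹ * (S.el a : G) * g⁻¹⁻¹ = x := by rw [← hg]; group
      rw [← e]
      exact S.hweak _ (S.el_mem a) (S.el_ne a) hela g⁻¹ (e.symm ▸ hxH)
    refine ⟨hxJ, ?_⟩
    rw [show y = x⁻¹ * (S.el c : G) by rw [← hxy]; group]
    exact mul_mem (inv_mem hxJ) (S.el_mem c)
  have hpc : p * (S.el c : G) = S.el c * p := hxy ▸ (hpx.mul_right hpy).eq
  have hpH : p ∈ H := S.hC _ (S.el_mem c) (S.el_ne c) (mem_centralizer_singleton_iff.2 hpc)
  have hJof : ∀ d : Fin 3, d ≠ 2 → ∀ q : G, q * (S.el d : G) = S.el d * q → q * (q * q) = 1 → q ∈ J := by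
    intro d hd q hq hq3
    have hqH : q ∈ H := S.hC _ (S.el_mem d) (S.el_ne d) (mem_centralizer_singleton_iff.2 hq)
    refine (S.memJ ⟨q, hqH⟩).2 (rep_comm d hd _ ?_ ?_)
    · rw [← S.el_spec, ← map_mul, ← map_mul]; exact congrArg S.φ (Subtype.ext hq)
    · rw [← map_mul, ← map_mul, S.φ.map_eq_one_iff]; exact Subtype.ext hq3
  by_cases hc : c ≠ 2
  · exact fin (hJof c hc p hpc hp3)
  obtain ⟨q, hq⟩ : ∃ q, q = g * p * g⁻¹ := ⟨_, rfl⟩
  have hq1 : q ≠ 1 := hq ▸ fun e => hp1 (conj_eq_one_iff.1 e)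
  have hqJ : q ∈ J := by
    refine hJof a ha q ?_ ?_
    · rw [hq, ← hg]
      calc g * p * g⁻¹ * (g * x * g⁻¹) = g * (p * x) * g⁻¹ := by group
        _ = g * (x * p) * g⁻¹ := by rw [hpx.eq]
        _ = _ := by group
    · rw [hq, show g * p * g⁻¹ * (g * p * g⁻¹ * (g * p * g⁻¹)) = g * (p * (p * p)) * g⁻¹ by group, hp3]; group
  have epq : g⁻¹ * q * g⁻¹⁻¹ = p := by rw [hq]; group
  by_cases hq2 : cls (S.φ ⟨q, S.le hqJ⟩) ≠ acls 2
  · exact fin (epq ▸ S.hweak _ hqJ hq1 hq2 g⁻¹ (by show g⁻¹ * q * g⁻¹⁻¹ ∈ H; rw [epq]; exact hpH))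
  obtain ⟨h₁, hh₁⟩ := isConj_iff.1 hyb
  have hqy : g * y * g⁻¹ * q = q * (g * y * g⁻¹) := by
    rw [hq]
    calc g * y * g⁻¹ * (g * p * g⁻¹) = g * (y * p) * g⁻¹ := by group
      _ = g * (p * y) * g⁻¹ := by rw [hpy.eq]
      _ = _ := by group
  have hyH : g * y * g⁻¹ ∈ H := S.hC q hqJ hq1 (mem_centralizer_singleton_iff.2 hqy)
  have hcy : g * (S.el c : G) * g⁻¹ = S.el a * (g * y * g⁻¹) := by rw [← hxy, ← hg]; group
  have hyJ : g * y * g⁻¹ ∈ J := by
    have e : g * h₁ * (S.el b : G) * (g * h₁)⁻¹ = g * y * g⁻¹ := by rw [← hh₁]; group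
    by_cases hb2 : b ≠ 2
    · rw [← e]
      refine S.hweak _ (S.el_mem b) (S.el_ne b) ?_ _ (e.symm ▸ hyH)
      rw [S.el_spec, cls_rep]; exact fun e' => hb2 ((show Function.Injective acls by decide +kernel) e')
    · obtain rfl := hb.resolve_left hb2
      by_contra hn
      obtain ⟨w, hw⟩ := S.exists_tv hqJ
      refine cube_bad w (hw ▸ not_not.1 hq2) (S.φ ⟨_, hyH⟩) ?_ ?_ (fun h => hn ((S.memJ ⟨_, hyH⟩).2 h)) ?_
      · rw [← hw, ← map_mul, ← map_mul]; exact congrArg S.φ (Subtype.ext hqy)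
      · rw [← map_mul, ← map_mul, S.φ.map_eq_one_iff]
        refine Subtype.ext ?_
        push_cast
        rw [show g * y * g⁻¹ * (g * y * g⁻¹ * (g * y * g⁻¹)) = g * (y * (y * y)) * g⁻¹ by group, hcube b hyb]; group
      · rw [← S.el_spec, ← map_mul, ← map_mul, ← map_mul, S.φ.map_eq_one_iff]
        refine Subtype.ext ?_
        push_cast
        rw [← hcy, show g * (S.el c : G) * g⁻¹ * (g * S.el c * g⁻¹ * (g * S.el c * g⁻¹)) =
          g * ((S.el c : G) * (S.el c * S.el c)) * g⁻¹ by group, S.J_cube (S.el_mem c)]; group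
  have hgH : g ∈ H := S.ti (S.el_mem c) (S.el_ne c) (hcy ▸ mul_mem (S.el_mem a) hyJ)
  exact fin (epq ▸ S.conj_mem (inv_mem hgH) hqJ)

theorem pairs (a b c : Fin 3) (hac : a ≠ c) (ha : a ≠ 2) (hb : b ≠ 2 ∨ a = 0) :
    Nat.card {p : G × G // IsConj (S.el a : G) p.1 ∧ IsConj (S.el b : G) p.2 ∧ p.1 * p.2 = (S.el c : G)} =
      cnt a b c := by
  unfold cnt
  rw [← S.card_sub (fun k => InV k ∧ cls k = acls a ∧ cls (k⁻¹ * rep (acls c)) = acls b)]
  have hmem : ∀ p : {p : G × G // IsConj (S.el a : G) p.1 ∧ IsConj (S.el b : G) p.2 ∧ p.1 * p.2 = (S.el c : G)},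
      p.1.1 ∈ J ∧ p.1.2 ∈ J := fun p => S.triangle a b c hac ha hb p.2.1 p.2.2.1 p.2.2.2
  refine Nat.card_congr
    { toFun := fun p => ⟨⟨p.1.1, S.le (hmem p).1⟩, (S.memJ _).1 (hmem p).1,
        (S.isConj_iff_cls a ⟨_, S.le (hmem p).1⟩ (hmem p).1).1 p.2.1, ?_⟩
      invFun := fun k => ⟨(k.1.1, (k.1.1)⁻¹ * (S.el c : G)), ?_, ?_, mul_inv_cancel_left _ _⟩
      left_inv := fun p => Subtype.ext (Prod.ext rfl (by
        show (p.1.1)⁻¹ * (S.el c : G) = p.1.2
        exact inv_mul_eq_iff_eq_mul.2 p.2.2.2.symm))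
      right_inv := fun k => rfl }
  · rw [← S.el_spec, ← map_inv, ← map_mul]
    rw [show (⟨p.1.1, S.le (hmem p).1⟩ : H)⁻¹ * S.el c = ⟨p.1.2, S.le (hmem p).2⟩ from Subtype.ext (by
      show (p.1.1)⁻¹ * (S.el c : G) = p.1.2
      exact inv_mul_eq_iff_eq_mul.2 p.2.2.2.symm)]
    exact (S.isConj_iff_cls b ⟨_, S.le (hmem p).2⟩ (hmem p).2).1 p.2.2.1
  · exact (S.isConj_iff_cls a k.1 ((S.memJ _).2 k.2.1)).2 k.2.2.1
  · have hk : cls ((S.φ k.1)⁻¹ * S.φ (S.el c)) = acls b := by rw [S.el_spec]; exact k.2.2.2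
    rw [← map_inv, ← map_mul] at hk
    exact (S.isConj_iff_cls b (k.1⁻¹ * S.el c) (mul_mem (inv_mem ((S.memJ _).2 k.2.1)) (S.el_mem c))).2 hk

/-! ### The characters -/

/-- The pull back of a special function. -/
noncomputable def pull (i : Fin 9) : ↥H → ℂ := fun x => pr3 (specP i (cls (S.φ x)))

theorem gen_pull (i : Fin 9) : Cfsg.IsGeneralizedCharacter H (S.pull i) :=
  IsGeneralizedCharacter.comp_hom (gen_spec i) S.φ.toMonoidHom

theorem pull_eq_zero (i : Fin 9) {x : H}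
    (hx : ¬ (((x ^ powc (cls (S.φ x)) : H) : G) ∈ J ∧ ((x ^ powc (cls (S.φ x)) : H) : G) ≠ 1)) : S.pull i x = 0 := by
  rcases specP_supp (S.φ x) with ⟨h1, h2⟩ | h
  · refine absurd ⟨(S.memJ _).2 ?_, fun e => h2 ?_⟩ hx
    · rw [map_pow, ← powN_eq]; exact h1
    · rw [powN_eq, ← map_pow, show x ^ powc (cls (S.φ x)) = 1 from Subtype.ext e, map_one]
  · rw [pull, h i]; simp [pr3]

/-- Induction does not change a special function on its support. -/
theorem ind_apply [Fintype G] (i : Fin 9) {x : H}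
    (hx : ((x ^ powc (cls (S.φ x)) : H) : G) ∈ J ∧ ((x ^ powc (cls (S.φ x)) : H) : G) ≠ 1) :
    Cfsg.indFun H (S.pull i) x = S.pull i x := by
  classical
  have hcl := isClassFunction_generalized (S.gen_pull i)
  have hsupp : ∀ g : G, Cfsg.extendByZero H (S.pull i) (g⁻¹ * x * g) = if g ∈ H then S.pull i x else 0 := by
    intro g
    split_ifs with hg
    · rw [extendByZero_mem _ (H.mul_mem (H.mul_mem (H.inv_mem hg) x.2) hg)]
      have := hcl x (⟨g, hg⟩ : H)⁻¹
      rw [inv_inv] at this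
      exact this
    · by_cases hm : g⁻¹ * x * g ∈ H
      · rw [extendByZero_mem _ hm]
        refine S.pull_eq_zero i fun hgood => hg ?_
        obtain ⟨n, hn⟩ : ∃ n, n = powc (cls (S.φ ⟨g⁻¹ * x * g, hm⟩)) := ⟨_, rfl⟩
        rw [← hn] at hgood
        obtain ⟨hJ1, hne1⟩ := hgood
        have e : ((⟨g⁻¹ * x * g, hm⟩ ^ n : H) : G) = g⁻¹ * (x : G) ^ n * g := by
          rw [SubmonoidClass.coe_pow]; simpa using (conj_pow (a := g⁻¹) (b := (x : G)) (i := n))
        rw [e] at hJ1 hne1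
        have hxn : g * (g⁻¹ * (x : G) ^ n * g) * g⁻¹ = (x : G) ^ n := by group
        refine S.ti hJ1 hne1 ?_
        rw [hxn]
        have hx1 := hx.1
        have hx2 := hx.2
        rw [SubmonoidClass.coe_pow] at hx1 hx2
        refine (zpowers_le.2 hx1 : zpowers ((x : G) ^ powc (cls (S.φ x))) ≤ J) (cube_mem ?_ hx2 ?_)
        · rw [pow_succ', pow_two]; exact S.J_cube hx1
        · have h3 := S.J_cube hJ1
          rw [← hxn, conj_pow, pow_succ', pow_two, h3]; group
      · exact extendByZero_not_mem _ hm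
  rw [indFun_apply, Finset.sum_congr rfl fun g _ => hsupp g, Finset.sum_ite, Finset.sum_const_zero, add_zero,
    Finset.sum_const, nsmul_eq_mul, ← Fintype.card_subtype, ← Nat.card_eq_fintype_card, ← mul_assoc,
    show Nat.card {g : G // g ∈ H} = Nat.card H from rfl,
    inv_mul_cancel₀ (Nat.cast_ne_zero.2 Nat.card_pos.ne'), one_mul]

theorem sum_H [Fintype H] (F : Fin 14 → ℂ) :
    ∑ x : H, F (cls (S.φ x)) = ∑ c : Fin 14, (sizeTab.getD c 0 : ℂ) * F c := by
  classical
  rw [← Finset.sum_fiberwise Finset.univ (fun x : H => cls (S.φ x))]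
  refine Finset.sum_congr rfl fun c _ => ?_
  rw [Finset.sum_congr rfl (g := fun _ => F c) fun x hx => by rw [(Finset.mem_filter.1 hx).2], Finset.sum_const,
    nsmul_eq_mul, ← Fintype.card_subtype, ← Nat.card_eq_fintype_card, S.card_sub (fun k => cls k = c), cls_card]

theorem inner_pull [Fintype H] (i j : Fin 9) :
    Cfsg.classInner (S.pull i) (S.pull j) = ((gram i j : ℤ) : ℂ) := by
  rw [classInner_def, S.cardH]
  have e : ∀ x : H, S.pull i x * conj (S.pull j x) =
      (fun c => pr3 (specP i c) * pr3 (specP j c)) (cls (S.φ x)) := fun x => by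
    simp [pull, pr3, conj_sq3]
  rw [Finset.sum_congr rfl fun x _ => e x, S.sum_H (fun c => pr3 (specP i c) * pr3 (specP j c))]
  obtain ⟨h1, h2⟩ := gram_sum i j
  have h1' := congrArg (fun z : ℤ => (z : ℂ)) h1
  have h2' := congrArg (fun z : ℤ => (z : ℂ)) h2
  push_cast at h1' h2'
  have key : ∑ c : Fin 14, (sizeTab.getD c 0 : ℂ) * (pr3 (specP i c) * pr3 (specP j c)) = 648 * (gram i j : ℂ) := by
    rw [← h1', ← add_zero (∑ c : Fin 14, _ * (_ + 3 * _)), ← zero_mul sq3, ← h2', Finset.sum_mul,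
      ← Finset.sum_add_distrib]
    refine Finset.sum_congr rfl fun c _ => ?_
    simp only [pr3]
    linear_combination ((sizeTab.getD c 0 : ℂ) * (specP i c).2 * (specP j c).2) * sq3_sq
  rw [key]; push_cast; ring

/-- The multiplicities. -/
theorem exists_mults [Fintype G] : ∃ n : ℕ → Cfsg.IrrCharacter G → ℤ,
    (∀ (i : Fin 9) (χ : Cfsg.IrrCharacter G), Cfsg.classInner (Cfsg.indFun H (S.pull i)) (χ : G → ℂ) = (n i χ : ℂ)) ∧
    Vecs n (fun χ => (deg (χ : G → ℂ) : ℤ)) ⟨_, isIrrCharacter_one⟩ := by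
  classical
  have := Fintype.ofFinite H
  have hgen : ∀ i, Cfsg.IsGeneralizedCharacter G (Cfsg.indFun H (S.pull i)) :=
    fun i => IsGeneralizedCharacter.indFun (S.gen_pull i)
  choose m hm using fun (i : Fin 9) (χ : Cfsg.IrrCharacter G) => IsGeneralizedCharacter.exists_mult (hgen i) χ.2
  have hn : ∀ i : Fin 9, (fun i χ => if h : i < 9 then m ⟨i, h⟩ χ else 0 : ℕ → Cfsg.IrrCharacter G → ℤ) i = m i :=
    fun i => by funext χ; simp [i.2]
  refine ⟨fun i χ => if h : i < 9 then m ⟨i, h⟩ χ else 0, fun i χ => by rw [hn]; exact hm i χ,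
    ⟨fun i hi j hj => ?_, fun i hi => ?_, fun i hi => ?_, fun χ => Int.natCast_pos.2 (deg_irr_pos χ), ?_⟩⟩
  · lift i to Fin 9 using hi; lift j to Fin 9 using hj
    simp only [i.2, j.2, dite_true, Fin.eta]
    apply Int.cast_injective (α := ℂ)
    have hj := classFunction_expand (isClassFunction_indFun H (S.pull j))
    have e1 : Cfsg.classInner (Cfsg.indFun H (S.pull i)) (Cfsg.indFun H (S.pull j)) =
        ((∑ χ, m i χ * m j χ : ℤ) : ℂ) := by
      conv_lhs => rw [hj]
      rw [classInner_sum_right]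
      push_cast
      refine Finset.sum_congr rfl fun χ _ => ?_
      rw [classInner_smul_right, hm, hm, mul_comm]
      simp
    rw [← e1, frobenius_reciprocity _ _ (isClassFunction_indFun _ _), ← S.inner_pull i j, classInner_def, classInner_def]
    refine congrArg _ (Finset.sum_congr rfl fun x _ => ?_)
    by_cases hx : ((x ^ powc (cls (S.φ x)) : H) : G) ∈ J ∧ ((x ^ powc (cls (S.φ x)) : H) : G) ≠ 1
    · rw [S.ind_apply j hx]
    · rw [S.pull_eq_zero i hx, zero_mul, zero_mul]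
  · lift i to Fin 9 using hi
    simp only [i.2, dite_true, Fin.eta]
    apply Int.cast_injective (α := ℂ)
    rw [← hm, frobenius_reciprocity _ _ (isClassFunction_irr _), classInner_def, S.cardH,
      Finset.sum_congr rfl (g := fun x => (fun c => pr3 (specP i c)) (cls (S.φ x))) fun x _ => by simp [pull],
      S.sum_H (fun c => pr3 (specP i c))]
    obtain ⟨h1, h2⟩ := prin_sum i
    have h1' := congrArg (fun z : ℤ => (z : ℂ)) h1
    have h2' := congrArg (fun z : ℤ => (z : ℂ)) h2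
    push_cast at h1' h2'
    have key : ∑ c : Fin 14, (sizeTab.getD c 0 : ℂ) * pr3 (specP i c) = 648 * (ent prin i : ℂ) := by
      rw [← h1', ← add_zero (∑ c : Fin 14, (_ : ℂ) * ((_ : ℤ) : ℂ)), ← zero_mul sq3, ← h2', Finset.sum_mul,
        ← Finset.sum_add_distrib]
      exact Finset.sum_congr rfl fun c _ => by simp only [pr3]; ring
    rw [key]; push_cast; ring
  · lift i to Fin 9 using hi
    simp only [i.2, dite_true, Fin.eta]
    apply Int.cast_injective (α := ℂ)
    push_cast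
    have := classFunction_expand_apply (isClassFunction_indFun H (S.pull i)) 1
    rw [indFun_one, S.pull_eq_zero i (fun h => h.2 (by simp)), mul_zero] at this
    rw [this]
    exact Finset.sum_congr rfl fun χ _ => by rw [hm, irr_apply_one_eq_deg]
  · have := irr_apply_one_eq_deg (⟨_, isIrrCharacter_one⟩ : Cfsg.IrrCharacter G)
    have h1 : (deg ((⟨_, isIrrCharacter_one⟩ : Cfsg.IrrCharacter G) : G → ℂ) : ℂ) = 1 := this.symm.trans rfl
    exact_mod_cast h1

theorem value [Fintype G] {n : ℕ → Cfsg.IrrCharacter G → ℤ}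
    (hn : ∀ (i : Fin 9) (χ : Cfsg.IrrCharacter G), Cfsg.classInner (Cfsg.indFun H (S.pull i)) (χ : G → ℂ) = (n i χ : ℂ))
    (χ : Cfsg.IrrCharacter G) (a : Fin 3) : (χ : G → ℂ) (S.el a : G) = (val n a χ : ℂ) := by
  classical
  have := Fintype.ofFinite H
  have hcl := isClassFunction_irr χ
  have hv : val n a χ = ∑ i : Fin 9, (coefTab.getD a []).getD i 0 * n i χ := by
    simp only [val, vr]
    rw [← List.sum_toFinset _ List.nodup_range, List.toFinset_range, ← Fin.sum_univ_eq_sum_range]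
    exact Finset.sum_congr rfl fun i _ => by rw [ent_col i.2]
  have h : ((val n a χ : ℤ) : ℂ) = (648 : ℂ)⁻¹ *
      ∑ x : H, (∑ i : Fin 9, (((coefTab.getD a []).getD i 0 : ℤ) : ℂ) * S.pull i x) * conj ((χ : G → ℂ) x) := by
    rw [hv]
    simp only [Int.cast_sum, Int.cast_mul, Finset.sum_mul, Finset.mul_sum]
    rw [Finset.sum_comm]
    refine Finset.sum_congr rfl fun i _ => ?_
    rw [← hn, frobenius_reciprocity _ _ hcl, classInner_def, S.cardH, Finset.mul_sum, Finset.mul_sum]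
    refine Finset.sum_congr rfl fun x _ => ?_
    push_cast
    ring
  have h2 : ∀ x : H, (∑ i : Fin 9, (((coefTab.getD a []).getD i 0 : ℤ) : ℂ) * S.pull i x) * conj ((χ : G → ℂ) x) =
      if cls (S.φ x) = acls a then (csize a : ℂ) * conj ((χ : G → ℂ) (S.el a : G)) else 0 := by
    intro x
    obtain ⟨i1, i2⟩ := indicator a (cls (S.φ x))
    have e : ∑ i : Fin 9, (((coefTab.getD a []).getD i 0 : ℤ) : ℂ) * S.pull i x =
        ((if cls (S.φ x) = acls a then (csize a : ℤ) else 0 : ℤ) : ℂ) := by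
      have i2' := congrArg (fun z : ℤ => (z : ℂ)) i2
      push_cast at i2'
      rw [← i1, ← add_zero ((_ : ℤ) : ℂ), ← zero_mul sq3, ← i2']
      push_cast
      rw [Finset.sum_mul, ← Finset.sum_add_distrib]
      exact Finset.sum_congr rfl fun i _ => by simp only [pull, pr3]; ring
    rw [e]
    split_ifs with he
    · obtain ⟨c, hc⟩ := isConj_iff.1 (isConj_rep (S.φ x))
      rw [he, ← S.el_spec, ← S.φ.apply_symm_apply c, ← map_inv, ← map_mul, ← map_mul] at hc
      rw [← S.φ.injective hc]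
      push_cast
      rw [hcl (S.el a : G) ((S.φ.symm c : H) : G)]
    · simp
  rw [Finset.sum_congr rfl fun x _ => h2 x, Finset.sum_ite, Finset.sum_const_zero, add_zero, Finset.sum_const,
    nsmul_eq_mul, ← Fintype.card_subtype, ← Nat.card_eq_fintype_card, S.card_sub (fun k => cls k = acls a),
    cls_card] at h
  have hc : (sizeTab.getD (acls a) 0 : ℂ) * (csize a : ℂ) = 648 := by exact_mod_cast size_acls a
  rw [← mul_assoc (sizeTab.getD (acls a) 0 : ℂ), hc, inv_mul_cancel_left₀ (by norm_num)] at h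
  rw [← Complex.conj_conj ((χ : G → ℂ) (S.el a : G)), ← h, map_intCast]

theorem main : H = ⊤ := by
  classical
  have := Fintype.ofFinite G
  obtain ⟨n, hn, hv⟩ := S.exists_mults
  have hG0 : (Nat.card G : ℂ) ≠ 0 := Nat.cast_ne_zero.2 Nat.card_pos.ne'
  have eqn : ∀ a b c : Fin 3, a ≠ c → a ≠ 2 → (b ≠ 2 ∨ a = 0) →
      (cnt a b c : ℂ) * ((csize a : ℂ) * csize b) = (Nat.card G : ℂ) *
        msum n (fun χ : Cfsg.IrrCharacter G => (deg (χ : G → ℂ) : ℤ)) a b c := by
    intro a b c hac ha hb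
    have h := class_mult_formula (G := G) (S.el a : G) (S.el b : G) (S.el c : G)
    rw [S.pairs a b c hac ha hb] at h
    have hcard : ∀ a, (Nat.card {x : G // IsConj (S.el a : G) x} : ℂ) * (csize a : ℂ) = (Nat.card G : ℂ) := by
      intro a
      rw [← S.card_centralizer a]
      exact_mod_cast card_isConj_mul (S.el a : G)
    have hs : ∀ χ : Cfsg.IrrCharacter G, (χ : G → ℂ) (S.el a : G) * (χ : G → ℂ) (S.el b : G) *
        conj ((χ : G → ℂ) (S.el c : G)) / (χ : G → ℂ) 1 =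
        (val n a χ : ℂ) * val n b χ * val n c χ / (((deg (χ : G → ℂ) : ℤ)) : ℂ) := by
      intro χ
      rw [S.value hn, S.value hn, S.value hn, map_intCast, irr_apply_one_eq_deg]
      push_cast
      rfl
    rw [Finset.sum_congr rfl fun χ _ => hs χ] at h
    change (cnt a b c : ℂ) = _ * msum n _ a b c at h
    rw [h]
    generalize msum n _ a b c = M
    calc _ = ((Nat.card {x : G // IsConj (S.el a : G) x} : ℂ) * (csize a : ℂ)) *
          ((Nat.card {x : G // IsConj (S.el b : G) x} : ℂ) * (csize b : ℂ)) / (Nat.card G : ℂ) * M := by ring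
      _ = _ := by rw [hcard, hcard, mul_div_assoc, div_self hG0, mul_one]
  have hG : Nat.card G = 648 * H.index := by rw [← S.cardH, H.card_mul_index]
  obtain ⟨z1, z2, z3, z4, z5, z6, z7⟩ := cnt_vals
  have hk : H.index = 1 := by
    refine card_eq hv H.index S.index_mod ?_ ?_
    · have e : ∑ χ : Cfsg.IrrCharacter G, deg (χ : G → ℂ) ^ 2 = Nat.card G := sum_deg_sq_nat
      rw [hG] at e
      have := congrArg (fun z : ℕ => (z : ℤ)) e
      push_cast at this
      rw [← this]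
      exact Finset.sum_congr rfl fun χ _ => by ring
    · intro a b c N hN
      have key : (648 : ℂ) * (H.index : ℂ) = (Nat.card G : ℂ) := by rw [hG]; push_cast; ring
      simp only [List.mem_cons, Prod.mk.injEq, List.not_mem_nil, or_false] at hN
      rw [key]
      rcases hN with ⟨⟨rfl, rfl, rfl⟩, rfl⟩ | ⟨⟨rfl, rfl, rfl⟩, rfl⟩ | ⟨⟨rfl, rfl, rfl⟩, rfl⟩ | ⟨⟨rfl, rfl, rfl⟩, rfl⟩ |
        ⟨⟨rfl, rfl, rfl⟩, rfl⟩ | ⟨⟨rfl, rfl, rfl⟩, rfl⟩ <;>
      · rw [← eqn _ _ _ (by decide) (by decide) (by decide)]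
        simp only [z1, z2, z3, z4, z5, z6]
        norm_num [csize, show ∀ u v w : ℕ, (![u, v, w] : Fin 3 → ℕ) 2 = w from fun _ _ _ => rfl]
  exact Subgroup.index_eq_one.1 hk

end Fused

namespace Loc

variable (L : Loc G)

include L

/-- The local group is everything. -/
theorem range_top (hcent : ∀ v : Fin 27, v ≠ 0 → centralizer ({L.tr v} : Set G) ≤ L.φ.range) :
    L.φ.range = ⊤ := by
  let e : L.φ.range ≃* Mon := (MonoidHom.ofInjective L.inj).symm
  have he : ∀ x : L.φ.range, L.φ (e x) = x := fun x => MonoidHom.apply_ofInjective_symm L.inj x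
  refine Fused.main (J := L.J)
    { φ := e
      memJ := fun x => by rw [← L.memJ, he]
      le := L.J_le
      hC := fun j hj hj1 => by
        obtain ⟨v, rfl⟩ := L.exists_tr hj
        exact hcent v fun h => hj1 (by subst h; exact map_one L.φ)
      hweak := ?_ }
  intro j hj hj1 hcl g hgj
  obtain ⟨v, hv⟩ := L.exists_tr hj
  have hv0 : v ≠ 0 := fun h => hj1 (by rw [← hv]; subst h; exact map_one L.φ)
  have hev : e j = tv v := L.inj ((he j).trans hv.symm)
  rw [hev] at hcl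
  obtain ⟨k, hk⟩ := hgj
  rw [← hk]
  refine (L.memJ k).2 ?_
  by_contra hkV
  have hk3 : k * (k * k) = 1 := L.inj (by
    rw [map_mul, map_mul, map_one, hk,
      show g * (j : G) * g⁻¹ * (g * j * g⁻¹ * (g * j * g⁻¹)) = g * ((j : G) * (j * j)) * g⁻¹ by group, L.J_cube hj]
    group)
  obtain ⟨w, hw, hwk⟩ := outer_comm k hk3 hkV
  have hw0 : w ≠ 0 := fun h => (show cls (tv 0) ≠ acls 2 by decide +kernel) (h ▸ hw)
  have hcw : g * (j : G) * g⁻¹ * L.tr w = L.tr w * (g * j * g⁻¹) := by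
    rw [← hk, ← map_mul, ← map_mul, hwk]
  have hzc : g⁻¹ * L.tr w * g * L.tr v = L.tr v * (g⁻¹ * L.tr w * g) := by
    rw [hv]
    calc g⁻¹ * L.tr w * g * j = g⁻¹ * (L.tr w * (g * j * g⁻¹)) * g := by group
      _ = g⁻¹ * (g * j * g⁻¹ * L.tr w) * g := by rw [hcw]
      _ = _ := by group
  obtain ⟨l, hl⟩ := hcent v hv0 (mem_centralizer_singleton_iff.2 hzc)
  have hlJ : g⁻¹ * L.tr w * g ∈ L.J := by
    rw [← hl]
    refine (L.memJ l).2 (small_comm v hv0 hcl l (L.inj (by rw [map_mul, map_mul, hl]; exact hzc)) (L.inj ?_))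
    rw [map_mul, map_mul, map_one, hl,
      show g⁻¹ * L.tr w * g * (g⁻¹ * L.tr w * g * (g⁻¹ * L.tr w * g)) = g⁻¹ * (L.tr w * (L.tr w * L.tr w)) * g by group,
      L.J_cube (L.tr_mem w)]
    group
  have hg : g ∈ L.φ.range := by
    rw [L.norm]
    refine Subgroup.mem_normalizer_iff_map_conj_eq.2 (L.eq_J ?_ (L.isPGroup_J.map _)
      (by rw [Subgroup.card_map_of_injective (MulAut.conj g).injective, L.card_J]) ?_)
    · rintro _ ⟨a, ha, rfl⟩
      refine hcent w hw0 (mem_centralizer_singleton_iff.2 ?_)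
      show g * a * g⁻¹ * L.tr w = L.tr w * (g * a * g⁻¹)
      calc g * a * g⁻¹ * L.tr w = g * (a * (g⁻¹ * L.tr w * g)) * g⁻¹ := by group
        _ = g * (g⁻¹ * L.tr w * g * a) * g⁻¹ := by rw [L.J_comm ha hlJ]
        _ = _ := by group
    · rintro _ ⟨a, ha, rfl⟩ _ ⟨b, hb, rfl⟩
      rw [← map_mul, ← map_mul, L.J_comm ha hb]
  exact hkV ((L.memJ k).1 (hk ▸ L.conj_mem hg hj))

end Loc

end Cfsg.Lib.AltNineLocal
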