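import Cfsg.Agent.LocalThree.AltNineLocal.FourData

/-!
Finite facts on a group of order sixteen.
-/

set_option autoImplicit false
set_option synthInstance.maxSize 4096
set_option maxRecDepth 100000
set_option maxHeartbeats 1000000

namespace Cfsg.Lib.AltNineLocal

open Equiv Subgroup Cfsg.Lib.Monomial

def v1 : A6 := e6 (swap 0 3 * swap 1 4)
def v2 : A6 := e6 (swap 0 4 * swap 1 3)
/-- The involution inverting the three-cycle. -/
def iL : L9 := el (swap 0 1) (swap 2 5)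
/-- An element moving the first four-group to the second. -/
def mv : A6 := e6 (swap 0 2 * swap 1 5)

/-- The three involutions of the second class. -/
def second : List (Perm (Fin 6)) :=
  [swap 0 1 * swap 3 4 * swap 2 5, swap 0 3 * swap 1 4 * swap 2 5, swap 0 4 * swap 1 3 * swap 2 5]

theorem v_spec : t6 * v1 = v1 * t6 ∧ v1 * v1 = 1 ∧ t6 * v1 = v2 ∧
    mv * r1 * mv⁻¹ ∈ [t6, v1, v2] ∧ mv * r2 * mv⁻¹ ∈ [t6, v1, v2] ∧ mv * r1 * mv⁻¹ ≠ mv * r2 * mv⁻¹ ∧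
    iL * iL = 1 ∧ (iL : Pr).1 2 = 2 := by decide +kernel

/-- The subgroup of order sixteen. -/
def T0 : Subgroup L9 where
  carrier := {p | (p : Pr).1 2 = 2 ∧ (p : Pr).2 * (t6 : Perm (Fin 6)) = (t6 : Perm (Fin 6)) * (p : Pr).2}
  one_mem' := ⟨rfl, by simp⟩
  mul_mem' {a b} ha hb := by
    refine ⟨?_, ?_⟩
    · show (a : Pr).1 ((b : Pr).1 2) = 2
      rw [hb.1, ha.1]
    · exact (show Commute (a : Pr).2 (t6 : Perm (Fin 6)) from ha.2).mul_left hb.2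
  inv_mem' {a} ha := by
    refine ⟨?_, ?_⟩
    · show (a : Pr).1⁻¹ 2 = 2
      rw [Perm.inv_eq_iff_eq]; exact ha.1.symm
    · exact ((show Commute (a : Pr).2 (t6 : Perm (Fin 6)) from ha.2).inv_left).eq

/-- The set stabiliser. -/
def NV : Subgroup L9 where
  carrier := {p | ∀ j : Fin 6, (j = 2 ∨ j = 5) → ((p : Pr).2 j = 2 ∨ (p : Pr).2 j = 5)}
  one_mem' := fun j hj => hj
  mul_mem' {a b} ha hb := fun j hj => ha _ (hb j hj)
  inv_mem' {a} ha := fun j hj => by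
    have key : ∀ σ : Perm (Fin 6), (σ 2 = 2 ∨ σ 2 = 5) → (σ 5 = 2 ∨ σ 5 = 5) → ∀ j : Fin 6, (σ j = 2 ∨ σ j = 5) →
        j = 2 ∨ j = 5 := by decide +kernel
    refine key (a : Pr).2 (ha 2 (Or.inl rfl)) (ha 5 (Or.inr rfl)) _ ?_
    show (a : Pr).2 ((a : Pr).2⁻¹ j) = 2 ∨ (a : Pr).2 ((a : Pr).2⁻¹ j) = 5
    rw [← Perm.mul_apply, mul_inv_cancel]; exact hj

theorem counts : ((((Finset.univ : Finset (Perm (Fin 3))).filter fun a => a 2 = 2) ×ˢ
      ((Finset.univ : Finset (Perm (Fin 6))).filter fun b => b * (t6 : Perm (Fin 6)) = (t6 : Perm (Fin 6)) * b)).filter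
      fun p => Perm.sign p.1 * Perm.sign p.2 = 1).card = 16 ∧
    (((Finset.univ : Finset (Perm (Fin 3))) ×ˢ ((Finset.univ : Finset (Perm (Fin 6))).filter fun b =>
      (b 2 = 2 ∨ b 2 = 5) ∧ (b 5 = 2 ∨ b 5 = 5))).filter
      fun p => Perm.sign p.1 * Perm.sign p.2 = 1).card = 144 := by decide +kernel

theorem keep_pair : ∀ τ : Perm (Fin 6),
    τ * (t6 : Perm (Fin 6)) * τ⁻¹ ∈ ([t6, v1, v2] : List A6).map (fun x : A6 => (x : Perm (Fin 6))) →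
      (τ 2 = 2 ∨ τ 2 = 5) ∧ (τ 5 = 2 ∨ τ 5 = 5) := by decide +kernel

/-- The involutions. -/
theorem inv_classes : ∀ a : Perm (Fin 3), a 2 = 2 → ∀ b : Perm (Fin 6),
    b * (t6 : Perm (Fin 6)) = (t6 : Perm (Fin 6)) * b → Perm.sign a * Perm.sign b = 1 → b * b = 1 → (a ≠ 1 ∨ b ≠ 1) →
    (a ≠ 1 ∧ b ∈ second) ∨ (a = 1 ∧ ∃ σ : A6, (σ : Perm (Fin 6)) * t6 * (σ : Perm (Fin 6))⁻¹ = b) ∨
      (a = swap 0 1 ∧ ∃ σ : A6, (σ : Perm (Fin 6)) * swap 0 1 * (σ : Perm (Fin 6))⁻¹ = b) := by decide +kernel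

theorem second_spec : ∀ b ∈ second, ∃ σ : A6, (σ : Perm (Fin 6)) * sW * (σ : Perm (Fin 6))⁻¹ * b =
    b * ((σ : Perm (Fin 6)) * sW * (σ : Perm (Fin 6))⁻¹) := by decide +kernel

theorem second_prod : (∀ b ∈ second, ∀ b' ∈ second, b * b' ∈ ([1, t6, v1, v2] : List A6).map (fun x : A6 => (x : Perm (Fin 6)))) ∧
    ∀ x ∈ [t6, v1, v2], ∃ b ∈ second, ∃ b' ∈ second, (x : Perm (Fin 6)) = b * b' := by decide +kernel

theorem squares : (∀ a : Perm (Fin 3), a 2 = 2 → ∀ b : Perm (Fin 6),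
    b * (t6 : Perm (Fin 6)) = (t6 : Perm (Fin 6)) * b → Perm.sign a * Perm.sign b = 1 → a * a = 1 ∧
      (b * b = 1 ∨ b * b = t6)) ∧ ∃ x : A6, x * t6 = t6 * x ∧ x * x = t6 := by decide +kernel

theorem cent_t6 : ∀ x : A6, x * t6 = t6 * x → x * x * (x * x) = 1 := by decide +kernel

end Cfsg.Lib.AltNineLocal
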