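import Cfsg.Agent.LocalThree.AltNineLocal.Four
import Cfsg.Agent.LocalThree.AltNineLocal.FusionData

/-!
The centraliser of the four-group is not small.
-/

set_option autoImplicit false
set_option linter.unusedSectionVars false
set_option synthInstance.maxSize 4096
set_option maxRecDepth 100000
set_option maxHeartbeats 1000000

namespace Cfsg.Lib.AltNineLocal

open Equiv Subgroup Cfsg.Lib.Monomial

universe u

theorem card_T0 : Nat.card T0 = 16 := by
  classical
  rw [← counts.1, ← Nat.card_eq_finsetCard]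
  refine Nat.card_congr
    { toFun := fun p => ⟨(((p : L9) : Pr).1, ((p : L9) : Pr).2), by
        simp only [Finset.mem_filter, Finset.mem_product, Finset.mem_univ, true_and]
        exact ⟨p.2, mem_L9.1 p.1.2⟩⟩
      invFun := fun q => ⟨⟨q.1, mem_L9.2 (Finset.mem_filter.1 q.2).2⟩, by
        have h := q.2
        simp only [Finset.mem_filter, Finset.mem_product, Finset.mem_univ, true_and] at h
        exact h.1⟩
      left_inv := fun _ => rfl
      right_inv := fun _ => rfl }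

theorem card_NV : Nat.card NV = 144 := by
  classical
  rw [← counts.2, ← Nat.card_eq_finsetCard]
  refine Nat.card_congr
    { toFun := fun p => ⟨(((p : L9) : Pr).1, ((p : L9) : Pr).2), by
        simp only [Finset.mem_filter, Finset.mem_product, Finset.mem_univ, true_and]
        exact ⟨⟨p.2 2 (Or.inl rfl), p.2 5 (Or.inr rfl)⟩, mem_L9.1 p.1.2⟩⟩
      invFun := fun q => ⟨⟨q.1, mem_L9.2 (Finset.mem_filter.1 q.2).2⟩, by
        have h := q.2
        simp only [Finset.mem_filter, Finset.mem_product, Finset.mem_univ, true_and] at h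
        rintro j (rfl | rfl)
        exacts [h.1.1, h.1.2]⟩
      left_inv := fun _ => rfl
      right_inv := fun _ => rfl }

namespace Big

variable {G : Type u} [Group G] [Finite G] (L : Big G)

/-- Commutes with a conjugate of an element with two nonzero coordinates. -/
def Second (x : G) : Prop := ∃ h : G, h * L.tr 4 * h⁻¹ * x = x * (h * L.tr 4 * h⁻¹)

include L

theorem second_conj {x : G} (g : G) (hx : L.Second x) : L.Second (g * x * g⁻¹) := by
  obtain ⟨h, hh⟩ := hx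
  refine ⟨g * h, ?_⟩
  calc g * h * L.tr 4 * (g * h)⁻¹ * (g * x * g⁻¹) = g * (h * L.tr 4 * h⁻¹ * x) * g⁻¹ := by group
    _ = g * (x * (h * L.tr 4 * h⁻¹)) * g⁻¹ := by rw [hh]
    _ = _ := by group

theorem conj_f2 (σ : A6) (x : L9) : L.ψ 2 σ * L.f 2 x * (L.ψ 2 σ)⁻¹ = L.f 2 (sndX σ * x * (sndX σ)⁻¹) := by
  rw [map_mul, map_mul, map_inv]; rfl

theorem u_not_second : ¬ L.Second (L.ψ 2 t6) := by
  have : Fact (Nat.Prime 3) := ⟨Nat.prime_three⟩
  rintro ⟨h, hh⟩
  obtain ⟨C, hC⟩ : ∃ C : Subgroup G, C = centralizer ({L.ψ 2 t6} : Set G) := ⟨_, rfl⟩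
  obtain ⟨c, hc⟩ : ∃ c, c = L.f 2 aL := ⟨_, rfl⟩
  have hc3 : orderOf c = 3 := by rw [hc, L.c_eq.2]; exact L.toLoc.ord_tr (by decide)
  have hcC : c ∈ C := hC ▸ hc ▸ mem_centralizer_singleton_iff.2 (L.ψ_comm 2 t6).symm
  have hZ : IsPGroup 3 (zpowers (⟨c, hcC⟩ : C)) :=
    IsPGroup.of_card (n := 1) (by rw [Nat.card_zpowers, Subgroup.orderOf_mk, hc3, pow_one])
  obtain ⟨Q, hQ⟩ := hZ.exists_le_sylow
  have hQeq : (Q : Subgroup C) = zpowers (⟨c, hcC⟩ : C) := by
    refine le_antisymm ?_ hQ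
    haveI : Group.IsNilpotent (Q : Subgroup C) := Q.2.isNilpotent
    obtain ⟨K, hK⟩ : ∃ K : Subgroup (Q : Subgroup C), K = (zpowers (⟨c, hcC⟩ : C)).subgroupOf (Q : Subgroup C) :=
      ⟨_, rfl⟩
    have htop : K = ⊤ := by
      refine normalizerCondition_iff_only_full_group_self_normalizing.1 Group.normalizerCondition_of_isNilpotent K
        (le_antisymm (fun g hg => ?_) Subgroup.le_normalizer)
      have hmem : (g : C) * ⟨c, hcC⟩ * (g : C)⁻¹ ∈ zpowers (⟨c, hcC⟩ : C) := by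
        have := (mem_normalizer_iff.1 hg ⟨⟨c, hcC⟩, hQ (mem_zpowers _)⟩).1 (by rw [hK, mem_subgroupOf]; exact mem_zpowers _)
        rwa [hK, mem_subgroupOf] at this
      classical
      rw [mem_zpowers_iff_mem_range_orderOf, Subgroup.orderOf_mk, hc3] at hmem
      obtain ⟨j, hj, hj'⟩ := Finset.mem_image.1 hmem
      have hgc : ((g : C) : G) * c * ((g : C) : G)⁻¹ = c ^ j := by
        have := congrArg Subtype.val hj'; push_cast at this; exact this.symm
      obtain ⟨n, hn⟩ := Q.2 g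
      have hg3 : ((g : C) : G) ^ (3 ^ n) = 1 := by
        have := congrArg (fun z : (Q : Subgroup C) => ((z : C) : G)) hn
        simpa using this
      have hcom : ((g : C) : G) * c = c * (g : C) := by
        have hj1 : j = 1 := by
          rw [Finset.mem_range] at hj
          interval_cases j
          · rw [pow_zero, conj_eq_one_iff] at hgc
            rw [hgc, orderOf_one] at hc3; norm_num at hc3
          · rfl
          · exfalso
            have h2 : ∀ m : ℕ, ((g : C) : G) ^ m * c * (((g : C) : G) ^ m)⁻¹ = c ^ (2 ^ m) := by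
              intro m
              induction m with
              | zero => simp
              | succ m ih =>
                rw [pow_succ', show ((g : C) : G) * ((g : C) : G) ^ m * c * (((g : C) : G) * ((g : C) : G) ^ m)⁻¹ =
                  ((g : C) : G) * (((g : C) : G) ^ m * c * (((g : C) : G) ^ m)⁻¹) * ((g : C) : G)⁻¹ by group,
                  ih, ← conj_pow, hgc, ← pow_mul, ← pow_succ']
            have h' := h2 (3 ^ n)
            rw [hg3, one_mul, inv_one, mul_one] at h'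
            nth_rewrite 1 [← pow_one c] at h'
            rw [pow_inj_mod, hc3] at h'
            have hodd : (2 : ℕ) ^ (3 ^ n) % 3 = 2 := by
              obtain ⟨m, hm⟩ : Odd (3 ^ n) := Odd.pow (by decide)
              rw [hm, pow_succ, pow_mul, Nat.mul_mod, Nat.pow_mod]; norm_num
            omega
        rw [hj1, pow_one] at hgc
        exact mul_inv_eq_iff_eq_mul.1 hgc
      obtain ⟨i, x, hx⟩ := L.cent (i := 2) (g := ((g : C) : G)) (hc ▸ hcom)
      rw [L.ψ_split, ← hc] at hx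
      have hxt : x * t6 = t6 * x := by
        have h1 : ((g : C) : G) * L.ψ 2 t6 = L.ψ 2 t6 * (g : C) := mem_centralizer_singleton_iff.1 (hC ▸ (g : C).2)
        rw [hx, mul_assoc, ← mul_assoc (L.ψ 2 t6), ((show Commute (L.ψ 2 t6) c from hc ▸ L.ψ_comm 2 t6).pow_right _).eq,
          mul_assoc, mul_right_inj, ← map_mul, ← map_mul] at h1
        exact L.ψ_inj 2 h1
      have hx1 : x = 1 := by
        have h4 := cent_t6 x hxt
        have e : (c ^ (i : ℕ) * L.ψ 2 x) ^ (3 ^ n * 3) = 1 := by rw [← hx, pow_mul, hg3, one_pow]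
        rw [((show Commute (L.ψ 2 x) c from hc ▸ L.ψ_comm 2 x).pow_right _).symm.mul_pow, ← pow_mul,
          show (i : ℕ) * (3 ^ n * 3) = orderOf c * ((i : ℕ) * 3 ^ n) by rw [hc3]; ring, pow_mul, pow_orderOf_eq_one,
          one_pow, one_mul, ← map_pow] at e
        refine orderOf_eq_one_iff.1 (Nat.eq_one_of_dvd_coprimes (?_ : Nat.Coprime (2 ^ 2) (3 ^ (n + 1))) ?_ ?_)
        · exact Nat.Coprime.pow _ _ (by norm_num)
        · refine orderOf_dvd_of_pow_eq_one ?_
          rw [show (2 : ℕ) ^ 2 = 2 + 2 from rfl, pow_add, pow_two]; exact h4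
        · refine orderOf_dvd_of_pow_eq_one (L.ψ_inj 2 ?_)
          rw [pow_succ, e, map_one]
      rw [hK, mem_subgroupOf]
      refine mem_zpowers_iff.2 ⟨((i : ℕ) : ℤ), Subtype.ext ?_⟩
      rw [zpow_natCast]; push_cast
      rw [hx, hx1, map_one, mul_one]
    intro q hq
    have hm : (⟨q, hq⟩ : (Q : Subgroup C)) ∈ K := htop ▸ mem_top _
    rw [hK] at hm
    exact hm
  obtain ⟨s, hs⟩ : ∃ s, s = h * L.tr 4 * h⁻¹ := ⟨_, rfl⟩
  have hsC : s ∈ C := hC ▸ mem_centralizer_singleton_iff.2 (hs ▸ hh)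
  have hs3 : s ^ 3 = 1 := by
    rw [hs, conj_pow, pow_succ', pow_two, L.toLoc.J_cube (L.toLoc.tr_mem 4)]; group
  obtain ⟨Q', hQ'⟩ := (show IsPGroup 3 (zpowers (⟨s, hsC⟩ : C)) from fun z => ⟨1, by
    obtain ⟨m, hm⟩ := z.2
    refine Subtype.ext ?_
    show (z : C) ^ (3 ^ 1) = 1
    rw [← hm, pow_one, ← zpow_natCast, ← zpow_mul, mul_comm, zpow_mul, zpow_natCast,
      show (⟨s, hsC⟩ : C) ^ 3 = 1 from Subtype.ext hs3, one_zpow]⟩).exists_le_sylow
  obtain ⟨y, hy⟩ := MulAction.exists_smul_eq C Q' Q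
  have hmem : y * ⟨s, hsC⟩ * y⁻¹ ∈ zpowers (⟨c, hcC⟩ : C) := by
    rw [← hQeq, ← hy, Sylow.coe_subgroup_smul]
    exact ⟨_, hQ' (mem_zpowers _), rfl⟩
  classical
  rw [mem_zpowers_iff_mem_range_orderOf, Subgroup.orderOf_mk, hc3] at hmem
  obtain ⟨j, hj, hj'⟩ := Finset.mem_image.1 hmem
  have he : ((y : G) * h) * L.tr 4 * ((y : G) * h)⁻¹ = L.tr 9 ^ j := by
    have := congrArg Subtype.val hj'
    push_cast at this
    rw [← L.c_eq.2, ← hc, this, hs]; group
  rw [Finset.mem_range] at hj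
  interval_cases j
  · rw [pow_zero, conj_eq_one_iff] at he
    exact L.toLoc.tr_ne (by decide) he
  · rw [pow_one] at he
    exact absurd (L.toLoc.cls_eq he) (by decide +kernel)
  · rw [show L.tr 9 ^ 2 = L.tr 18 by
      show L.φ (tv 9) ^ 2 = L.φ (tv 18)
      rw [← map_pow, show tv 9 ^ 2 = tv 18 by decide +kernel]] at he
    exact absurd (L.toLoc.cls_eq he) (by decide +kernel)

/-- The involution in the odd part is conjugate to the one in the even part. -/
theorem u_conj_t : ∃ g : G, g * L.ψ 2 t6 * g⁻¹ = L.f 2 tL := by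
  obtain ⟨k, hk⟩ : ∃ k : Mon, ∀ x : Fin 9, pointMap k x = em 0 (el (swap 0 1) (swap 3 4)) x := by decide +kernel
  have hl : L.f 0 (el (swap 0 1) (swap 3 4)) = L.f 2 tL := L.link (Equiv.ext (by decide +kernel)) k hk
  refine ⟨L.ψ 0 (e6 (swap 0 3 * swap 1 4)), ?_⟩
  rw [← L.t_eq, ← hl]
  show L.f 0 (sndX _) * L.f 0 tL * (L.f 0 (sndX _))⁻¹ = _
  rw [← map_inv, ← map_mul, ← map_mul]
  exact congrArg (L.f 0) (by decide +kernel)

set_option maxHeartbeats 2000000 in
/-- The centraliser of the four-group is not small. -/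
theorem cent_R_big : ¬ Nat.card (centralizer (L.R : Set G)) ∣ 24 := by
  classical
  intro h24
  have : Fact (Nat.Prime 2) := ⟨Nat.prime_two⟩
  obtain ⟨hv0, hv11, hv2, hm1, hm2, hm12, hi2, hi3⟩ := v_spec
  -- the second four-group
  obtain ⟨V, hV⟩ : ∃ V : Subgroup G, V = fourGrp (L.ψ 2 t6) (L.ψ 2 v1)
      (by rw [← map_mul, four_spec.2.1.1, map_one]) (by rw [← map_mul, hv11, map_one])
      (by rw [← map_mul, hv0, map_mul]) := ⟨_, rfl⟩
  have hVmem : ∀ g, g ∈ V ↔ ∃ τ ∈ [1, t6, v1, v2], g = L.ψ 2 τ := fun g => by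
    rw [hV, mem_fourGrp, ← hv2]
    simp only [List.mem_cons, List.not_mem_nil, or_false, exists_eq_or_imp, map_one, map_mul, exists_eq_left]
  have hVcard : Nat.card V = 4 := hV ▸ card_fourGrp
    (fun e => (show t6 ≠ 1 by decide +kernel) (L.ψ_inj 2 (e.trans (map_one _).symm)))
    (fun e => (show v1 ≠ 1 by decide +kernel) (L.ψ_inj 2 (e.trans (map_one _).symm)))
    (fun e => (show t6 ≠ v1 by decide +kernel) (L.ψ_inj 2 e))
  obtain ⟨g0, hg0⟩ : ∃ g0, g0 = L.ψ 2 mv * L.φ (sh ^ ((2 : Fin 3) : ℕ)) := ⟨_, rfl⟩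
  have hg0R : ∀ r : A6, g0 * L.ψ 0 r * g0⁻¹ = L.ψ 2 (mv * r * mv⁻¹) := by
    intro r
    have e : L.φ (sh ^ ((2 : Fin 3) : ℕ)) * L.ψ 0 r * (L.φ (sh ^ ((2 : Fin 3) : ℕ)))⁻¹ = L.ψ 2 r := by
      show _ * L.f 0 (sndX r) * _ = L.f 2 (sndX r)
      rw [L.f_apply 2, L.f_apply 0]
      simp
    rw [hg0, map_mul, map_mul, map_inv, ← e]; group
  have hcV : Nat.card (centralizer (V : Set G)) ∣ 24 := by
    refine dvd_trans (dvd_of_eq ?_) h24
    refine (Nat.card_congr ((MulAut.conj g0).toEquiv.subtypeEquiv fun x => ?_)).symm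
    show x ∈ centralizer (L.R : Set G) ↔ g0 * x * g0⁻¹ ∈ centralizer (V : Set G)
    have hc : ∀ a b : G, g0 * a * g0⁻¹ * (g0 * b * g0⁻¹) = g0 * b * g0⁻¹ * (g0 * a * g0⁻¹) ↔ a * b = b * a :=
      fun a b => by
        rw [show g0 * a * g0⁻¹ * (g0 * b * g0⁻¹) = g0 * (a * b) * g0⁻¹ by group,
          show g0 * b * g0⁻¹ * (g0 * a * g0⁻¹) = g0 * (b * a) * g0⁻¹ by group, mul_left_inj, mul_right_inj]
    constructor
    · intro hx
      obtain ⟨h1, h2⟩ := L.centR.1 hx
      rw [← hc, hg0R] at h1 h2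
      refine mem_centralizer_iff.2 fun w hw => ?_
      obtain ⟨τ, hτ, rfl⟩ := (hVmem w).1 hw
      have key : τ ∈ [1, mv * r1 * mv⁻¹, mv * r2 * mv⁻¹, mv * r1 * mv⁻¹ * (mv * r2 * mv⁻¹)] :=
        (show ∀ τ ∈ [1, t6, v1, v2], τ ∈ [1, mv * r1 * mv⁻¹, mv * r2 * mv⁻¹, mv * r1 * mv⁻¹ * (mv * r2 * mv⁻¹)] by
          decide +kernel) τ hτ
      simp only [List.mem_cons, List.not_mem_nil, or_false] at key
      rcases key with rfl | rfl | rfl | rfl
      · simp
      · exact h1.symm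
      · exact h2.symm
      · rw [map_mul]; exact ((show Commute _ _ from h1).mul_right (show Commute _ _ from h2)).eq.symm
    · intro hx
      refine L.centR.2 ⟨?_, ?_⟩ <;> rw [← hc, hg0R] <;> refine ((mem_centralizer_iff.1 hx) _ ((hVmem _).2 ⟨_, ?_, rfl⟩)).symm
      · exact List.mem_cons_of_mem _ hm1
      · exact List.mem_cons_of_mem _ hm2
  obtain ⟨c, hc⟩ : ∃ c, c = L.f 2 aL := ⟨_, rfl⟩
  have hc3 : orderOf c = 3 := by rw [hc, L.c_eq.2]; exact L.toLoc.ord_tr (by decide)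
  have hcV' : c ∈ centralizer (V : Set G) := mem_centralizer_iff.2 fun w hw => by
    obtain ⟨τ, -, rfl⟩ := (hVmem w).1 hw
    rw [hc]; exact L.ψ_comm 2 τ
  have hiV : L.f 2 iL ∈ centralizer (V : Set G) := mem_centralizer_iff.2 fun w hw => by
    obtain ⟨τ, hτ, rfl⟩ := (hVmem w).1 hw
    exact L.comm_iff.2 ((show ∀ τ ∈ [1, t6, v1, v2], sndX τ * iL = iL * sndX τ by decide +kernel) τ hτ)
  have hVle : V ≤ centralizer (V : Set G) := fun a ha => mem_centralizer_iff.2 fun w hw => by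
    obtain ⟨σ, hσ, rfl⟩ := (hVmem a).1 ha
    obtain ⟨τ, hτ, rfl⟩ := (hVmem w).1 hw
    rw [← map_mul, ← map_mul, (show ∀ τ ∈ [1, t6, v1, v2], ∀ σ ∈ [1, t6, v1, v2], τ * σ = σ * τ by
      decide +kernel) τ hτ σ hσ]
  -- the normaliser of the second four-group
  obtain ⟨K, hK⟩ : ∃ K : Subgroup G, K = zpowers c := ⟨_, rfl⟩
  have hCle : ∀ x ∈ centralizer (V : Set G), x * c * x⁻¹ = c ∨ x * c * x⁻¹ = c⁻¹ := by
    have hS : centralizer (V : Set G) ≤ normalizer (zpowers c : Set G) := by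
      obtain ⟨M, hM⟩ : ∃ M : Subgroup G, M = normalizer (zpowers c : Set G) := ⟨_, rfl⟩
      rw [← hM]
      have hVM : V ≤ M := fun a ha => hM ▸ centralizer_le_normalizer _ (mem_centralizer_iff.2 fun z hz => by
        obtain ⟨m, rfl⟩ := mem_zpowers_iff.1 hz
        obtain ⟨τ, -, rfl⟩ := (hVmem a).1 ha
        exact ((show Commute c (L.ψ 2 τ) from hc ▸ (L.ψ_comm 2 τ).symm).zpow_left m).eq)
      have hiM : L.f 2 iL ∈ M := by
        rw [hM, hc]
        have he : L.f 2 iL * L.f 2 aL * (L.f 2 iL)⁻¹ = (L.f 2 aL)⁻¹ := by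
          rw [← map_inv, ← map_mul, ← map_mul, ← map_inv, show iL * aL * iL⁻¹ = aL⁻¹ by decide +kernel]
        refine Subgroup.mem_normalizer_iff_map_conj_eq.2 (Subgroup.eq_of_le_of_card_ge ?_
          (by rw [Subgroup.card_map_of_injective (MulAut.conj _).injective]))
        rintro _ ⟨z, hz, rfl⟩
        obtain ⟨m, rfl⟩ := mem_zpowers_iff.1 hz
        show L.f 2 iL * L.f 2 aL ^ m * (L.f 2 iL)⁻¹ ∈ _
        rw [← conj_zpow, he]
        exact zpow_mem (inv_mem (mem_zpowers _)) m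
      have hcM : c ∈ M := hM ▸ le_normalizer (mem_zpowers c)
      have hCcard := Nat.le_of_dvd (by norm_num) hcV
      have h8 : 8 ∣ Nat.card (centralizer (V : Set G) ⊓ M : Subgroup G) := by
        let m : V × zpowers (L.f 2 iL) →* (centralizer (V : Set G) ⊓ M : Subgroup G) :=
          MonoidHom.mk' (fun p => ⟨p.1 * p.2, mem_inf.2 ⟨mul_mem (hVle p.1.2) ((zpowers_le.2 hiV) p.2.2),
            mul_mem (hVM p.1.2) ((zpowers_le.2 hiM) p.2.2)⟩⟩) fun p q => Subtype.ext (by
            show (p.1 : G) * q.1 * ((p.2 : G) * q.2) = (p.1 : G) * p.2 * ((q.1 : G) * q.2)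
            rw [mul_assoc, ← mul_assoc (q.1 : G),
              (mem_centralizer_iff.1 ((zpowers_le.2 hiV) p.2.2) _ q.1.2)]
            group)
        have hm : Function.Injective m := by
          rw [injective_iff_map_eq_one]
          intro p hp
          have hp' : (p.1 : G) * p.2 = 1 := congrArg Subtype.val hp
          obtain ⟨τ, hτ, hpτ⟩ := (hVmem _).1 p.1.2
          have h2 := p.2.2
          rw [mem_zpowers_iff_mem_range_orderOf, show orderOf (L.f 2 iL) = 2 from orderOf_eq_prime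
            (by rw [pow_two, ← map_mul, hi2, map_one])
            (fun e => (show iL ≠ 1 by decide +kernel) (L.f_inj 2 (e.trans (map_one _).symm)))] at h2
          obtain ⟨n, hn, hn'⟩ := Finset.mem_image.1 h2
          rw [Finset.mem_range] at hn
          interval_cases n
          · rw [pow_zero] at hn'
            rw [← hn', mul_one] at hp'
            exact Prod.ext (Subtype.ext hp') (Subtype.ext hn'.symm)
          · rw [pow_one] at hn'
            rw [hpτ, ← hn'] at hp'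
            have he : sndX τ * iL = 1 := L.f_inj 2 (by rw [map_mul, map_one]; exact hp')
            exact absurd he ((show ∀ τ ∈ [1, t6, v1, v2], sndX τ * iL ≠ 1 by decide +kernel) τ hτ)
        have := Subgroup.card_dvd_of_injective m hm
        rwa [Nat.card_prod, hVcard, Nat.card_zpowers, orderOf_eq_prime (p := 2) (by rw [pow_two, ← map_mul, hi2, map_one])
          (fun e => (show iL ≠ 1 by decide +kernel) (L.f_inj 2 (e.trans (map_one _).symm)))] at this
      have h3 : 3 ∣ Nat.card (centralizer (V : Set G) ⊓ M : Subgroup G) :=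
        hc3 ▸ Subgroup.orderOf_dvd_natCard _ (mem_inf.2 ⟨hcV', hcM⟩)
      have h24' : 24 ∣ Nat.card (centralizer (V : Set G) ⊓ M : Subgroup G) :=
        Nat.Coprime.mul_dvd_of_dvd_of_dvd (by norm_num : Nat.Coprime 8 3) h8 h3
      have heq := Subgroup.eq_of_le_of_card_ge (inf_le_left : centralizer (V : Set G) ⊓ M ≤ centralizer (V : Set G))
        (hCcard.trans (Nat.le_of_dvd Nat.card_pos h24'))
      exact fun x hx => (heq.ge hx).2
    intro x hx
    have hm := (mem_normalizer_iff.1 (hS hx) c).1 (mem_zpowers c)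
    rw [mem_zpowers_iff_mem_range_orderOf, hc3] at hm
    obtain ⟨j, hj, hj'⟩ := Finset.mem_image.1 hm
    rw [Finset.mem_range] at hj
    interval_cases j
    · rw [pow_zero, eq_comm, conj_eq_one_iff] at hj'
      rw [hj', orderOf_one] at hc3; norm_num at hc3
    · exact Or.inl (by rw [← hj', pow_one])
    · exact Or.inr (by
        rw [← hj', eq_inv_iff_mul_eq_one, ← pow_succ, show 2 + 1 = orderOf c from hc3.symm, pow_orderOf_eq_one])
  have hunique : ∀ x ∈ centralizer (V : Set G), x ^ 3 = 1 → x ∈ zpowers c := by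
    intro x hx hx3
    obtain ⟨p, hp⟩ := L.f_norm (i := 2) (g := x) (hc ▸ hCle x hx)
    obtain ⟨M, hM⟩ : ∃ M : Subgroup L9, M = (centralizer (V : Set G)).comap (L.f 2) := ⟨_, rfl⟩
    have hp3 : p ^ 3 = 1 := L.f_inj 2 (by rw [map_pow, hp, hx3, map_one])
    have h1 : (p : Pr).2 * (t6 : Perm (Fin 6)) = (t6 : Perm (Fin 6)) * (p : Pr).2 ∧
        (p : Pr).2 * (v1 : Perm (Fin 6)) = (v1 : Perm (Fin 6)) * (p : Pr).2 := by
      constructor
      · have := mem_centralizer_iff.1 hx _ ((hVmem _).2 ⟨t6, by simp, rfl⟩)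
        exact (congrArg (fun q : L9 => (q : Pr).2) (L.comm_iff.1 (hp.symm ▸ this.symm :
          L.f 2 p * L.f 2 (sndX t6) = L.f 2 (sndX t6) * L.f 2 p)))
      · have := mem_centralizer_iff.1 hx _ ((hVmem _).2 ⟨v1, by simp, rfl⟩)
        exact (congrArg (fun q : L9 => (q : Pr).2) (L.comm_iff.1 (hp.symm ▸ this.symm :
          L.f 2 p * L.f 2 (sndX v1) = L.f 2 (sndX v1) * L.f 2 p)))
    have key : ∀ b : Perm (Fin 6), b * (t6 : Perm (Fin 6)) = (t6 : Perm (Fin 6)) * b →
        b * (v1 : Perm (Fin 6)) = (v1 : Perm (Fin 6)) * b → b ^ 3 = 1 → b = 1 := by decide +kernel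
    have hb := key _ h1.1 h1.2 (congrArg (fun q : L9 => (q : Pr).2) hp3)
    obtain ⟨j, hj⟩ := (show ∀ a : Perm (Fin 3), a ^ 3 = 1 → ∃ j : Fin 3, a = c3 ^ (j : ℕ) by decide +kernel) _
      (congrArg (fun q : L9 => (q : Pr).1) hp3)
    refine mem_zpowers_iff.2 ⟨((j : ℕ) : ℤ), ?_⟩
    rw [zpow_natCast, hc, ← hp, ← map_pow]
    refine congrArg _ (Subtype.ext (Prod.ext hj.symm ?_))
    rw [hb]
    exact one_pow (j : ℕ)
  have hNV : ∀ g : G, (∀ w ∈ V, g * w * g⁻¹ ∈ V) → g ∈ (L.f 2).range := by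
    intro g hg
    have hVeq : V.map (MulAut.conj g).toMonoidHom = V := Subgroup.eq_of_le_of_card_ge
      (by rintro _ ⟨w, hw, rfl⟩; exact hg w hw) (by rw [Subgroup.card_map_of_injective (MulAut.conj g).injective])
    have hgc : g * c * g⁻¹ ∈ centralizer (V : Set G) := by
      refine mem_centralizer_iff.2 fun w hw => ?_
      obtain ⟨w', hw', e⟩ := hVeq.ge hw
      rw [← e]
      show g * w' * g⁻¹ * (g * c * g⁻¹) = g * c * g⁻¹ * (g * w' * g⁻¹)
      calc g * w' * g⁻¹ * (g * c * g⁻¹) = g * (w' * c) * g⁻¹ := by group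
        _ = g * (c * w') * g⁻¹ := by rw [mem_centralizer_iff.1 hcV' w' hw']
        _ = _ := by group
    have hm := hunique _ hgc (by
      rw [conj_pow, ← hc3, pow_orderOf_eq_one]; group)
    rw [mem_zpowers_iff_mem_range_orderOf, hc3] at hm
    obtain ⟨j, hj, hj'⟩ := Finset.mem_image.1 hm
    rw [Finset.mem_range] at hj
    apply L.f_norm
    rw [← hc]
    interval_cases j
    · rw [pow_zero, eq_comm, conj_eq_one_iff] at hj'
      rw [hj', orderOf_one] at hc3; norm_num at hc3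
    · exact Or.inl (by rw [← hj', pow_one])
    · exact Or.inr (by rw [← hj', eq_inv_iff_mul_eq_one, ← pow_succ, show 2 + 1 = orderOf c from hc3.symm, pow_orderOf_eq_one])
  -- the group of order sixteen
  obtain ⟨S, hS⟩ : ∃ S : Subgroup G, S = T0.map (L.f 2) := ⟨_, rfl⟩
  have hScard : Nat.card S = 16 := by rw [hS, Subgroup.card_map_of_injective (L.f_inj 2), card_T0]
  have hSp : IsPGroup 2 S := IsPGroup.of_card (n := 4) (by rw [hScard]; norm_num)
  have huS : L.ψ 2 t6 ∈ S := hS ▸ ⟨sndX t6, ⟨rfl, rfl⟩, rfl⟩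
  have hiS : L.f 2 iL ∈ S := hS ▸ ⟨iL, ⟨hi3, by decide +kernel⟩, rfl⟩
  have hSfix : ∀ g : G, (∀ x ∈ S, g * x * g⁻¹ ∈ S) →
      g * L.ψ 2 t6 * g⁻¹ = L.ψ 2 t6 ∧ ∀ w ∈ V, g * w * g⁻¹ ∈ V := by
    intro g hg
    refine ⟨?_, ?_⟩
    · obtain ⟨x, hx, hx2⟩ := squares.2
      have hxS : L.ψ 2 x ∈ S := hS ▸ ⟨sndX x, ⟨rfl, congrArg Subtype.val hx⟩, rfl⟩
      have h := hg _ hxS
      rw [hS] at h
      obtain ⟨p, hp, hp'⟩ := h
      have e : g * L.ψ 2 t6 * g⁻¹ = L.f 2 (p * p) := by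
        rw [map_mul, hp', ← hx2, map_mul]; group
      obtain ⟨ha, hb⟩ := squares.1 _ hp.1 _ hp.2 (mem_L9.1 p.2)
      rcases hb with hb | hb
      · exfalso
        have e1 : p * p = 1 := Subtype.ext (Prod.ext ha hb)
        rw [e1, map_one, conj_eq_one_iff] at e
        exact (show t6 ≠ 1 by decide +kernel) (L.ψ_inj 2 (e.trans (map_one _).symm))
      · rw [e]
        exact congrArg (L.f 2) (Subtype.ext (Prod.ext ha hb))
    · have hsec : ∀ b ∈ second, ∀ h, ∃ b' ∈ second, ∀ h', g * L.f 2 (el (swap 0 1) b h) * g⁻¹ =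
          L.f 2 (el (swap 0 1) b' h') := by
        intro b hb hsb
        have hbt : b * (t6 : Perm (Fin 6)) = (t6 : Perm (Fin 6)) * b ∧ b * b = 1 :=
          (show ∀ b ∈ second, b * (t6 : Perm (Fin 6)) = (t6 : Perm (Fin 6)) * b ∧ b * b = 1 by decide +kernel) b hb
        have hmemS : L.f 2 (el (swap 0 1) b hsb) ∈ S := hS ▸ ⟨_, ⟨by show swap (0 : Fin 3) 1 2 = 2; decide, hbt.1⟩, rfl⟩
        have hP : L.Second (L.f 2 (el (swap 0 1) b hsb)) := by
          obtain ⟨σ, hσ⟩ := second_spec b hb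
          refine ⟨L.ψ 2 σ * L.ψ 2 gW, ?_⟩
          have e : L.ψ 2 gW * L.tr 4 * (L.ψ 2 gW)⁻¹ = L.ψ 2 sW := by
            have := L.sW_eq 0
            simpa using this.symm
          rw [show L.ψ 2 σ * L.ψ 2 gW * L.tr 4 * (L.ψ 2 σ * L.ψ 2 gW)⁻¹ =
            L.ψ 2 σ * (L.ψ 2 gW * L.tr 4 * (L.ψ 2 gW)⁻¹) * (L.ψ 2 σ)⁻¹ by group, e, ← map_inv, ← map_mul, ← map_mul]
          refine L.comm_iff.2 (Subtype.ext (Prod.ext ?_ hσ))
          show (1 : Perm (Fin 3)) * swap 0 1 = swap 0 1 * 1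
          simp
        have h := hg _ hmemS
        rw [hS] at h
        obtain ⟨p, hp, hp'⟩ := h
        have hpp : p * p = 1 := L.f_inj 2 (by
          rw [map_mul, map_one, hp', conj_mul, ← map_mul,
            show el (swap 0 1) b hsb * el (swap 0 1) b hsb = 1 from Subtype.ext (Prod.ext (by
              show swap (0 : Fin 3) 1 * swap 0 1 = 1; simp) hbt.2), map_one]
          group)
        have hp1 : (p : Pr).1 ≠ 1 ∨ (p : Pr).2 ≠ 1 := by
          by_contra hne
          push Not at hne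
          rw [show p = 1 from Subtype.ext (Prod.ext hne.1 hne.2), map_one, eq_comm, conj_eq_one_iff] at hp'
          have := congrArg (fun q : L9 => (q : Pr).1 0) (L.f_inj 2 (hp'.trans (map_one _).symm))
          exact absurd this (by show swap (0 : Fin 3) 1 0 ≠ 0; decide)
        have hP' : L.Second (L.f 2 p) := hp' ▸ L.second_conj g hP
        rcases inv_classes _ hp.1 _ hp.2 (mem_L9.1 p.2) (congrArg (fun q : L9 => (q : Pr).2) hpp) hp1 with
          ⟨ha, hb'⟩ | ⟨ha, σ, hσ⟩ | ⟨ha, σ, hσ⟩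
        · have ha' : (p : Pr).1 = swap 0 1 :=
            (show ∀ a : Perm (Fin 3), a 2 = 2 → a ≠ 1 → a = swap 0 1 by decide +kernel) _ hp.1 ha
          refine ⟨_, hb', fun h' => ?_⟩
          rw [← hp']
          exact congrArg (L.f 2) (Subtype.ext (Prod.ext ha' rfl))
        · exfalso
          have e : L.f 2 p = L.ψ 2 σ * L.ψ 2 t6 * (L.ψ 2 σ)⁻¹ := by
            rw [← map_inv, ← map_mul, ← map_mul]
            exact congrArg (L.f 2) (Subtype.ext (Prod.ext ha hσ.symm))
          rw [e] at hP'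
          have := L.second_conj (L.ψ 2 σ)⁻¹ hP'
          exact L.u_not_second (by convert this using 1; group)
        · exfalso
          obtain ⟨k, hk⟩ := L.u_conj_t
          have e : L.f 2 p = L.ψ 2 σ * L.f 2 tL * (L.ψ 2 σ)⁻¹ := by
            rw [L.conj_f2]
            refine congrArg (L.f 2) (Subtype.ext (Prod.ext ?_ hσ.symm))
            show _ = 1 * swap 0 1 * (1 : Perm (Fin 3))⁻¹
            rw [ha]; simp
          rw [e, ← hk] at hP'
          have := L.second_conj (k⁻¹ * (L.ψ 2 σ)⁻¹) hP'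
          exact L.u_not_second (by convert this using 1; group)
      intro w hw
      obtain ⟨τ, hτ, rfl⟩ := (hVmem w).1 hw
      rw [List.mem_cons] at hτ
      rcases hτ with rfl | hτ
      · rw [map_one, mul_one, mul_inv_cancel]; exact one_mem _
      have hsgn : ∀ b ∈ second, Perm.sign (swap (0 : Fin 3) 1) * Perm.sign b = 1 := by decide +kernel
      obtain ⟨b, hb, b', hb', e⟩ := second_prod.2 τ hτ
      have hτe : L.ψ 2 τ = L.f 2 (el (swap 0 1) b (hsgn b hb)) * L.f 2 (el (swap 0 1) b' (hsgn b' hb')) := by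
        rw [← map_mul]
        refine congrArg (L.f 2) (Subtype.ext (Prod.ext ?_ e))
        show (1 : Perm (Fin 3)) = swap 0 1 * swap 0 1
        simp
      obtain ⟨c1, hc1, e1⟩ := hsec b hb (hsgn b hb)
      obtain ⟨c2, hc2, e2⟩ := hsec b' hb' (hsgn b' hb')
      rw [hτe, ← conj_mul, e1 (hsgn c1 hc1), e2 (hsgn c2 hc2), ← map_mul]
      obtain ⟨σ, hσm, hσ⟩ := List.mem_map.1 (second_prod.1 c1 hc1 c2 hc2)
      refine (hVmem _).2 ⟨σ, hσm, congrArg (L.f 2) (Subtype.ext (Prod.ext ?_ hσ.symm))⟩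
      show swap (0 : Fin 3) 1 * swap 0 1 = 1
      simp
  obtain ⟨T, hT⟩ := hSp.exists_le_sylow
  have hTS : (T : Subgroup G) = S := by
    refine le_antisymm ?_ hT
    haveI : Group.IsNilpotent (T : Subgroup G) := T.2.isNilpotent
    obtain ⟨M, hM⟩ : ∃ M : Subgroup (T : Subgroup G), M = S.subgroupOf (T : Subgroup G) := ⟨_, rfl⟩
    have htop : M = ⊤ := by
      refine normalizerCondition_iff_only_full_group_self_normalizing.1 Group.normalizerCondition_of_isNilpotent M
        (le_antisymm (fun g hg => ?_) Subgroup.le_normalizer)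
      have hgS : ∀ x ∈ S, (g : G) * x * (g : G)⁻¹ ∈ S := fun x hx => by
        have h := (mem_normalizer_iff.1 hg ⟨x, hT hx⟩).1 (by rw [hM, mem_subgroupOf]; exact hx)
        rw [hM, mem_subgroupOf] at h
        exact h
      obtain ⟨hgu, hgV⟩ := hSfix _ hgS
      obtain ⟨p, hp⟩ := hNV _ hgV
      obtain ⟨P, hP⟩ : ∃ P : Subgroup L9, P = (T : Subgroup G).comap (L.f 2) ⊓ NV := ⟨_, rfl⟩
      have hPp : IsPGroup 2 P :=
        hP ▸ (T.2.comap_of_injective (L.f 2) (L.f_inj 2)).to_le inf_le_left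
      have hT0P : T0 ≤ P := by
        intro q hq
        rw [hP, mem_inf]
        refine ⟨hT (hS ▸ ⟨q, hq, rfl⟩), ?_⟩
        have key : ∀ b : Perm (Fin 6), b * (t6 : Perm (Fin 6)) = (t6 : Perm (Fin 6)) * b →
            ∀ j : Fin 6, (j = 2 ∨ j = 5) → (b j = 2 ∨ b j = 5) := by decide +kernel
        exact key _ hq.2
      have hcP : Nat.card P ≤ Nat.card T0 := by
        rw [card_T0]
        obtain ⟨m, hm⟩ := IsPGroup.iff_card.1 hPp
        have hd : Nat.card P ∣ 144 := card_NV ▸ Subgroup.card_dvd_of_le (hP ▸ inf_le_right)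
        rw [hm] at hd ⊢
        have : m ≤ 4 := by
          by_contra hlt
          exact absurd (dvd_trans (pow_dvd_pow 2 (show 5 ≤ m by omega)) hd) (by norm_num)
        exact Nat.pow_le_pow_right (by norm_num) this
      have hPT := Subgroup.eq_of_le_of_card_ge hT0P hcP
      have hpP : p ∈ P := by
        rw [hP, mem_inf]
        refine ⟨show L.f 2 p ∈ (T : Subgroup G) from hp ▸ g.2, fun j hj => ?_⟩
        have h := hgV (L.ψ 2 t6) ((hVmem _).2 ⟨t6, by simp, rfl⟩)
        rw [← hp, hVmem] at h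
        obtain ⟨τ, hτ, e⟩ := h
        rw [← map_inv] at e
        have e' : p * sndX t6 * p⁻¹ = sndX τ := L.f_inj 2 (by rw [map_mul, map_mul]; exact e)
        have hτ' : τ ∈ [t6, v1, v2] := by
          rcases List.mem_cons.1 hτ with rfl | h'
          · rw [map_one, conj_eq_one_iff] at e'
            exact absurd (sndX_inj (e'.trans (map_one _).symm)) (by decide +kernel)
          · exact h'
        have := keep_pair (p : Pr).2 (List.mem_map.2 ⟨τ, hτ', (congrArg (fun q : L9 => (q : Pr).2) e').symm⟩)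
        rcases hj with rfl | rfl
        exacts [this.1, this.2]
      rw [hM, mem_subgroupOf, hS, ← hp]
      exact ⟨p, hPT.ge hpP, rfl⟩
    intro x hx
    have hm : (⟨x, hx⟩ : (T : Subgroup G)) ∈ M := htop ▸ mem_top _
    rw [hM] at hm
    exact hm
  -- fusion
  obtain ⟨k1, hk1⟩ := L.u_conj_t
  obtain ⟨g, hg⟩ : ∃ g, g = L.ψ 2 (e6 (swap 0 2 * swap 1 5)) * k1 := ⟨_, rfl⟩
  have hgu : g * L.ψ 2 t6 * g⁻¹ = L.f 2 iL := by
    rw [hg, show L.ψ 2 (e6 (swap 0 2 * swap 1 5)) * k1 * L.ψ 2 t6 * (L.ψ 2 (e6 (swap 0 2 * swap 1 5)) * k1)⁻¹ =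
      L.ψ 2 (e6 (swap 0 2 * swap 1 5)) * (k1 * L.ψ 2 t6 * k1⁻¹) * (L.ψ 2 (e6 (swap 0 2 * swap 1 5)))⁻¹ by group,
      hk1, L.conj_f2]
    exact congrArg (L.f 2) (by decide +kernel)
  have hcent : ∀ q : L9, (∀ p ∈ T0, q * p = p * q) → L.f 2 q ∈ centralizer ((T : Subgroup G) : Set G) := by
    intro q hq
    refine mem_centralizer_iff.2 fun x hx => ?_
    rw [SetLike.mem_coe, hTS, hS] at hx
    obtain ⟨p, hp, rfl⟩ := hx
    exact L.comm_iff.2 (hq p hp).symm
  have hu' : L.ψ 2 t6 ∈ centralizer ((T : Subgroup G) : Set G) := hcent _ fun p hp =>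
    Subtype.ext (Prod.ext (by show 1 * (p : Pr).1 = (p : Pr).1 * 1; simp) hp.2.symm)
  have hi' : L.f 2 iL ∈ centralizer ((T : Subgroup G) : Set G) := hcent _ fun p hp => by
    have key : ∀ a : Perm (Fin 3), a 2 = 2 → swap (0 : Fin 3) 1 * a = a * swap 0 1 := by decide +kernel
    have key' : ∀ b : Perm (Fin 6), b * (t6 : Perm (Fin 6)) = (t6 : Perm (Fin 6)) * b →
        swap (2 : Fin 6) 5 * b = b * swap 2 5 := by decide +kernel
    exact Subtype.ext (Prod.ext (key _ hp.1) (key' _ hp.2))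
  obtain ⟨n, hn, he⟩ := T.conj_eq_normalizer_conj_of_mem_centralizer (L.ψ 2 t6) g⁻¹ hu'
    (by rw [inv_inv, hgu]; exact hi')
  rw [inv_inv, hgu] at he
  have := (hSfix n⁻¹ fun x hx => by
    have h := (mem_normalizer_iff.1 (inv_mem hn) x).1 (hTS.ge hx)
    exact hTS.le h).1
  rw [inv_inv] at this
  rw [this] at he
  have h' := congrArg (fun q : L9 => (q : Pr).1 0) (L.f_inj 2 he)
  exact absurd h' (by show swap (0 : Fin 3) 1 0 ≠ 0; decide)

end Big

end Cfsg.Lib.AltNineLocal
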