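import Cfsg.Agent.LocalThree.AltNineLocal.Build
import Mathlib.GroupTheory.Perm.Cycle.Type

/-!
Involutions of the alternating group of degree nine and the centraliser of one of them.
-/

set_option autoImplicit false
set_option synthInstance.maxSize 4096
set_option maxRecDepth 100000
set_option maxHeartbeats 1000000

namespace Cfsg.Lib.AltNineLocal

open Equiv Subgroup

-- Decide bounded quantifiers along the list, not along the finite type.
attribute [local instance 10000] List.decidableBAll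

/-- Involutions with five fixed points. -/
def T1 (σ : Perm (Fin 9)) : Prop := σ * σ = 1 ∧ (Finset.univ.filter fun x => σ x = x).card = 5

instance instDecT1 : DecidablePred T1 := fun σ => inferInstanceAs (Decidable (_ ∧ _))

/-- Placement of the moved and of the fixed points of the chosen involution. -/
def placeU : Fin 4 ⊕ Fin 5 ≃ Fin 9 where
  toFun := Sum.elim ![0, 1, 3, 4] ![2, 5, 6, 7, 8]
  invFun := ![Sum.inl 0, Sum.inl 1, Sum.inr 0, Sum.inl 2, Sum.inl 3, Sum.inr 1, Sum.inr 2, Sum.inr 3, Sum.inr 4]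
  left_inv := by decide
  right_inv := by decide

/-- The embedding of the stabiliser of the two sets. -/
def bl : Perm (Fin 4) × Perm (Fin 5) →* Perm (Fin 9) :=
  (placeU.permCongrHom : Perm (Fin 4 ⊕ Fin 5) ≃* Perm (Fin 9)).toMonoidHom.comp (Perm.sumCongrHom (Fin 4) (Fin 5))

theorem bl_inj : Function.Injective bl :=
  (placeU.permCongrHom : Perm (Fin 4 ⊕ Fin 5) ≃* Perm (Fin 9)).injective.comp Perm.sumCongrHom_injective

def u4 : Perm (Fin 4) := swap 0 1 * swap 2 3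
def u9 : A9 := e9 (swap 0 1 * swap 3 4)
def v9 : A9 := e9 (swap 0 3 * swap 1 4)
def w9 : A9 := e9 (swap 0 1 * swap 2 5)
def a9 : A9 := e9 (swap 5 6 * swap 7 8)
def b9 : A9 := e9 (swap 5 7 * swap 6 8)
def e91 : A9 := e9 (swap 2 5 * swap 6 7)
def e92 : A9 := e9 (swap 2 6 * swap 5 7)
def c9 : A9 := e9 (swap 5 7 * swap 7 6)
def d9 : A9 := e9 (swap 0 1 * swap 3 4 * (swap 2 5 * swap 6 7))
def d0 : A9 := e9 (swap 0 3 * swap 1 4 * (swap 2 5 * swap 6 7))
def hV : A9 := e9 (swap 0 5 * swap 1 6 * (swap 3 7 * swap 4 8))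
def hE : A9 := e9 (swap 5 2 * swap 2 8 * (swap 8 7 * swap 7 6))
def hC : A9 := e9 (swap 6 5 * swap 5 8)

theorem u9_bl : (u9 : Perm (Fin 9)) = bl (u4, 1) := by decide +kernel

theorem mem_bl {σ : Perm (Fin 9)} (h : ∀ i : Fin 4, σ (placeU (Sum.inl i)) ∈ [(0 : Fin 9), 1, 3, 4]) :
    ∃ p, σ = bl p := by
  obtain ⟨p, hp⟩ := Perm.mem_sumCongrHom_range_of_perm_mapsTo_inl (σ := placeU.symm.permCongr σ) (by
    rintro _ ⟨i, rfl⟩
    obtain ⟨j, hj⟩ := (show ∀ x ∈ [(0 : Fin 9), 1, 3, 4], ∃ j, placeU.symm x = Sum.inl j by decide) _ (h i)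
    refine ⟨j, ?_⟩
    rw [Equiv.permCongr_apply, Equiv.symm_symm]
    exact hj.symm)
  refine ⟨p, Equiv.ext fun x => ?_⟩
  have hx := congrArg (fun f : Perm (Fin 4 ⊕ Fin 5) => placeU (f (placeU.symm x))) hp
  simpa [bl, Perm.sumCongrHom_apply] using hx.symm

theorem u9_moves : ∀ x : Fin 9, (u9 : Perm (Fin 9)) x ≠ x ↔ x ∈ [(0 : Fin 9), 1, 3, 4] := by decide +kernel

/-- The centraliser of the chosen involution. -/
theorem split_u9 {σ : A9} (h : σ * u9 = u9 * σ) : ∃ p, (σ : Perm (Fin 9)) = bl p ∧ p.1 * u4 = u4 * p.1 := by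
  have hc : (σ : Perm (Fin 9)) * (u9 : Perm (Fin 9)) = (u9 : Perm (Fin 9)) * σ := congrArg Subtype.val h
  obtain ⟨p, hp⟩ : ∃ p, (σ : Perm (Fin 9)) = bl p := by
    refine mem_bl fun i => (u9_moves _).1 fun e => ?_
    have h1 := congrArg (fun f : Perm (Fin 9) => f (placeU (Sum.inl i))) hc
    simp only [Perm.mul_apply] at h1
    rw [e] at h1
    exact (u9_moves _).2 ((show ∀ i : Fin 4, placeU (Sum.inl i) ∈ [(0 : Fin 9), 1, 3, 4] by decide) i)
      ((σ : Perm (Fin 9)).injective h1)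
  refine ⟨p, hp, ?_⟩
  rw [hp, u9_bl, ← map_mul, ← map_mul] at hc
  exact congrArg Prod.fst (bl_inj hc)

theorem cent_u4 : ∀ p : Perm (Fin 4), p * u4 = u4 * p → p ^ 4 = 1 := by decide +kernel

/-- Involutions of the first class whose product with the chosen one is again of the first class. -/
theorem iso_cases : ∀ p : Perm (Fin 4), p * u4 = u4 * p → ∀ q : Perm (Fin 5), Perm.sign p * Perm.sign q = 1 →
    T1 (bl (p, q)) → T1 (bl (p, q) * u9) →
    bl (p, q) = v9 ∨ bl (p, q) = (u9 : Perm (Fin 9)) * v9 ∨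
      ∃ r ∈ [(1 : Perm (Fin 4)), swap 0 2 * swap 1 3], ∃ s : Perm (Fin 5), Perm.sign s = 1 ∧
        (bl (r, s) * bl (p, q) * (bl (r, s))⁻¹ = w9 ∨
          bl (r, s) * bl (p, q) * (bl (r, s))⁻¹ = (u9 : Perm (Fin 9)) * w9) := by
  decide +kernel

theorem iso_conj : ∀ r ∈ [(1 : Perm (Fin 4)), swap 0 2 * swap 1 3], r * u4 = u4 * r ∧ Perm.sign r = 1 := by
  decide +kernel

theorem d9_partner : ∀ p : Perm (Fin 4), p * u4 = u4 * p → ∀ q : Perm (Fin 5), Perm.sign p * Perm.sign q = 1 →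
    bl (p, q) * d9 = (d9 : Perm (Fin 9)) * bl (p, q) → bl (p, q) * bl (p, q) = 1 → bl (p, q) ≠ 1 → bl (p, q) ≠ d9 →
    ¬ T1 (bl (p, q)) → T1 (bl (p, q) * u9) → T1 (bl (p, q) * d9) := by
  decide +kernel

theorem facts9 : T1 (u9 : Perm (Fin 9)) ∧ T1 (v9 : Perm (Fin 9)) ∧ T1 ((u9 * v9 : A9) : Perm (Fin 9)) ∧
    ¬ T1 (d9 : Perm (Fin 9)) ∧ ¬ T1 (d0 : Perm (Fin 9)) ∧ ¬ T1 ((v9 * d9 : A9) : Perm (Fin 9)) ∧
    T1 ((u9 * d9 : A9) : Perm (Fin 9)) ∧ T1 (e91 : Perm (Fin 9)) ∧ T1 (e92 : Perm (Fin 9)) ∧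
    ¬ T1 ((e91 * u9 : A9) : Perm (Fin 9)) ∧ ¬ T1 ((e92 * u9 : A9) : Perm (Fin 9)) ∧
    T1 ((e91 * e92 : A9) : Perm (Fin 9)) := by decide +kernel

theorem relations9 : hV * a9 * hV⁻¹ = u9 ∧ hV * b9 * hV⁻¹ = v9 ∧ hE * a9 * hE⁻¹ = e91 ∧ hE * b9 * hE⁻¹ = e92 ∧
    hC * emA 2 aL * hC⁻¹ = c9 ∧
    a9 = emA 0 (sndX r1) ∧ b9 = emA 0 (sndX r2) ∧ u9 = emA 2 (sndX t6) ∧ w9 = emA 2 (sndX w2) ∧
    c9 * (c9 * c9) = 1 ∧ c9 * e91 * c9⁻¹ = e91 * e92 ∧ c9 * e92 * c9⁻¹ = e91 ∧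
    Commute e91 u9 ∧ Commute e92 u9 ∧ Commute e91 e92 ∧ Commute c9 u9 ∧ Commute u9 v9 ∧
    Commute u9 d9 ∧ Commute v9 d9 ∧ Commute u9 w9 := by
  unfold Commute SemiconjBy
  decide +kernel

/-- Conjugating the first four-group's generators to the second one's. -/
theorem swap_uv : (w9 * v9 * w9⁻¹ = u9 * v9) ∧ Commute w9 u9 := by
  unfold Commute SemiconjBy
  decide +kernel

/-- Two elements of order five with a product of order three. -/
theorem fives : ∃ p ∈ [e9 (swap 2 5 * swap 5 6 * (swap 6 7 * swap 7 8))], ∃ q ∈ [e9 (swap 2 5 * swap 5 7 * (swap 7 8 * swap 8 6)),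
    e9 (swap 2 8 * swap 8 7 * (swap 7 5 * swap 5 6)), e9 (swap 2 8 * swap 8 6 * (swap 6 7 * swap 7 5)),
    e9 (swap 5 2 * swap 2 8 * (swap 8 7 * swap 7 6)), e9 (swap 2 6 * swap 6 5 * (swap 5 8 * swap 8 7))],
    p ^ 5 = 1 ∧ q ^ 5 = 1 ∧ (p * q) ^ 3 = 1 ∧ p * q ≠ 1 ∧ p * u9 = u9 * p ∧ p * v9 = v9 * p ∧
      q * u9 = u9 * q ∧ q * v9 = v9 * q := by
  decide +kernel

theorem T1_conj {g σ : Perm (Fin 9)} (h : T1 σ) : T1 (g * σ * g⁻¹) := by
  refine ⟨by rw [conj_mul, h.1, mul_one, mul_inv_cancel], ?_⟩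
  refine Eq.trans ?_ h.2
  refine Finset.card_equiv g⁻¹ fun x => ?_
  simp [Equiv.apply_eq_iff_eq_symm_apply]

theorem isConj_of_perm {σ τ : A9} {a b : Fin 9} (hab : a ≠ b) (hc : Commute (swap a b) (τ : Perm (Fin 9)))
    (h : IsConj (σ : Perm (Fin 9)) τ) : IsConj σ τ := by
  obtain ⟨g, hg⟩ := isConj_iff.1 h
  rcases Int.units_eq_one_or (Perm.sign g) with hs | hs
  · exact isConj_iff.2 ⟨e9 g hs, Subtype.ext hg⟩
  · refine isConj_iff.2 ⟨e9 (swap a b * g) (by rw [map_mul, Perm.sign_swap hab, hs]; rfl), Subtype.ext ?_⟩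
    show swap a b * g * (σ : Perm (Fin 9)) * (swap a b * g)⁻¹ = τ
    rw [show swap a b * g * (σ : Perm (Fin 9)) * (swap a b * g)⁻¹ = swap a b * (g * σ * g⁻¹) * (swap a b)⁻¹ by group,
      hg, hc.eq, mul_inv_cancel_right]

/-- Two classes of involutions. -/
theorem classify (σ : A9) (h : σ * σ = 1) (h1 : σ ≠ 1) :
    (T1 (σ : Perm (Fin 9)) ∧ IsConj σ u9) ∨ (¬ T1 (σ : Perm (Fin 9)) ∧ IsConj σ d9) := by
  have h2 : (σ : Perm (Fin 9)) ^ 2 = 1 := by rw [pow_two]; exact congrArg Subtype.val h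
  have hne : (σ : Perm (Fin 9)) ≠ 1 := fun e => h1 (Subtype.ext e)
  obtain ⟨m, hm⟩ := Perm.cycleType_prime_order (σ := (σ : Perm (Fin 9))) (by
    rw [orderOf_eq_prime h2 hne]; exact Nat.prime_two)
  rw [orderOf_eq_prime h2 hne] at hm
  have hsum : (m + 1) * 2 ≤ 9 := by
    have h3 := Perm.sum_cycleType (σ : Perm (Fin 9))
    rw [hm, Multiset.sum_replicate, smul_eq_mul] at h3
    exact h3.le.trans ((Finset.card_le_univ _).trans (by simp))
  have hsign : Perm.sign (σ : Perm (Fin 9)) = 1 := Perm.mem_alternatingGroup.1 σ.2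
  have hu : (u9 : Perm (Fin 9)).cycleType = Multiset.replicate 2 2 := by decide +kernel
  have hi : (d9 : Perm (Fin 9)).cycleType = Multiset.replicate 4 2 := by decide +kernel
  have key : IsConj (σ : Perm (Fin 9)) u9 ∨ IsConj (σ : Perm (Fin 9)) d9 := by
    rw [Perm.sign_of_cycleType, hm, Multiset.sum_replicate, Multiset.card_replicate, smul_eq_mul] at hsign
    rw [Perm.isConj_iff_cycleType_eq, Perm.isConj_iff_cycleType_eq, hu, hi, hm]
    have hm3 : m < 4 := by omega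
    interval_cases m
    · exact absurd hsign (by decide)
    · exact Or.inl rfl
    · exact absurd hsign (by decide)
    · exact Or.inr rfl
  rcases key with k | k
  · have k' := isConj_of_perm (σ := σ) (τ := u9) (a := 0) (b := 1) (by decide)
      (show swap 0 1 * (u9 : Perm (Fin 9)) = (u9 : Perm (Fin 9)) * swap 0 1 by decide +kernel) k
    obtain ⟨g, hg⟩ := isConj_iff.1 k.symm
    exact Or.inl ⟨hg ▸ T1_conj facts9.1, k'⟩
  · have k' := isConj_of_perm (σ := σ) (τ := d9) (a := 0) (b := 1) (by decide)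
      (show swap 0 1 * (d9 : Perm (Fin 9)) = (d9 : Perm (Fin 9)) * swap 0 1 by decide +kernel) k
    obtain ⟨g, hg⟩ := isConj_iff.1 k
    exact Or.inr ⟨fun hT => facts9.2.2.2.1 (hg ▸ T1_conj hT), k'⟩

/-- The alternating group on the fixed points. -/
def alt5 : A5 →* A9 :=
  ((bl.comp (MonoidHom.inr (Perm (Fin 4)) (Perm (Fin 5)))).comp (alternatingGroup (Fin 5)).subtype).codRestrict A9 fun q => by
    rw [Perm.mem_alternatingGroup]
    show Perm.sign (placeU.permCongr (Perm.sumCongr (1 : Perm (Fin 4)) (q : Perm (Fin 5)))) = 1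
    rw [Perm.sign_permCongr, Perm.sign_sumCongr, Perm.sign_one, one_mul]
    exact Perm.mem_alternatingGroup.1 q.2

theorem alt5_comm (q : A5) : alt5 q * u9 = u9 * alt5 q := by
  refine Subtype.ext ?_
  show bl (1, (q : Perm (Fin 5))) * (u9 : Perm (Fin 9)) = (u9 : Perm (Fin 9)) * bl (1, (q : Perm (Fin 5)))
  rw [u9_bl, ← map_mul, ← map_mul, Prod.mk_mul_mk, Prod.mk_mul_mk, one_mul, mul_one, one_mul, mul_one]

theorem alt5_invol : ∃ q : A5, q * q = 1 ∧ alt5 q = e91 := by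
  refine ⟨⟨swap 0 1 * swap 2 3, Perm.mem_alternatingGroup.2 (by decide +kernel)⟩, by decide +kernel, by decide +kernel⟩

/-- The fourth power of an element of the centraliser. -/
theorem pow_four {σ : A9} (h : σ * u9 = u9 * σ) : ∃ q : A5, σ ^ 4 = alt5 q := by
  obtain ⟨⟨p, q⟩, hp, hpu⟩ := split_u9 h
  have hs : Perm.sign (σ : Perm (Fin 9)) = 1 := Perm.mem_alternatingGroup.1 σ.2
  refine ⟨⟨q ^ 4, Perm.mem_alternatingGroup.2 ?_⟩, Subtype.ext ?_⟩
  · rcases Int.units_eq_one_or (Perm.sign q) with e | e <;> rw [map_pow, e] <;> rfl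
  · show (σ : Perm (Fin 9)) ^ 4 = bl (1, q ^ 4)
    rw [hp, ← map_pow, Prod.pow_mk, cent_u4 p hpu]

end Cfsg.Lib.AltNineLocal
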