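import Cfsg.Agent.LocalThree.AltNineLocal.Fused
import Cfsg.Agent.LocalThree.AltNineLocal.Endgame

/-!
The two outcomes from the local data.
-/

set_option autoImplicit false
set_option linter.unusedSectionVars false
set_option maxRecDepth 100000

namespace Cfsg.Lib.AltNineLocal

open Subgroup Cfsg.Lib.Monomial

universe u

theorem weight_one : (∀ v : Fin 27, v ≠ 0 → cls (tv v) = 5 ∨ cls (tv v) = 12 ∨ cls (tv v) = 13) ∧
    ∀ v : Fin 27, cls (tv v) = 5 → ∃ k : Mon, k * tv 1 * k⁻¹ = tv v := by decide +kernel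

theorem Loc.outcome {G : Type u} [Group G] [Finite G] (L : Loc G) :
    L.φ.range = ⊤ ∨ Nonempty (G ≃* alternatingGroup (Fin 9)) := by
  rcases L.cent_one with h | ⟨hn, hs, hc⟩
  · refine Or.inl (L.range_top fun v hv => ?_)
    rcases weight_one.1 v hv with e | e
    · obtain ⟨k, hk⟩ := weight_one.2 v e
      exact L.cent_conj hk h
    · exact L.cent_big e
  · obtain ⟨A⟩ := L.exists_big hn hs hc
    exact Or.inr ⟨(MulEquiv.ofBijective A.Φ ⟨A.Φ_inj, MonoidHom.range_eq_top.1 A.range_eq_top⟩).symm⟩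

/-- The local data from an isomorphism of the normaliser. -/
theorem exists_loc {G : Type u} [Group G] [Finite G] (J : Subgroup G) (hJc : ∀ a ∈ J, ∀ b ∈ J, a * b = b * a)
    (hJexp : ∀ a ∈ J, a ^ 3 = 1) (hJcard : Nat.card J = 27) (H : Subgroup G)
    (hH : H = normalizer (J : Set G))
    (eH : H ≃* ↥(alternatingGroup (Fin 9) ⊓ normalizer (J₉ : Set (Equiv.Perm (Fin 9)))))
    (hcores : ∀ x ∈ H, orderOf x = 3 → Cfsg.pPrimeCore 3 (centralizer ({x} : Set G)) = ⊥) :
    ∃ L : Loc G, L.φ.range = H := by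
  classical
  obtain ⟨φ, hφ⟩ : ∃ φ : Mon →* G, φ = H.subtype.comp (eH.symm.toMonoidHom.comp
      (toNine.codRestrict _ toNine_mem)) := ⟨_, rfl⟩
  have hinj : Function.Injective φ := by
    rw [hφ]
    exact H.subtype_injective.comp (eH.symm.injective.comp fun a b h => toNine_injective (congrArg Subtype.val h))
  have hrange : φ.range = H := by
    refine le_antisymm (by rintro _ ⟨k, rfl⟩; rw [hφ]; exact SetLike.coe_mem _) fun x hx => ?_
    obtain ⟨k, hk⟩ : ((eH ⟨x, hx⟩ : _) : Equiv.Perm (Fin 9)) ∈ toNine.range := range_toNine.symm.le (eH ⟨x, hx⟩).2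
    refine ⟨k, ?_⟩
    rw [hφ]
    show ((eH.symm ⟨toNine k, toNine_mem k⟩ : H) : G) = x
    rw [show (⟨toNine k, toNine_mem k⟩ : ↥(alternatingGroup (Fin 9) ⊓ normalizer (J₉ : Set (Equiv.Perm (Fin 9))))) =
      eH ⟨x, hx⟩ from Subtype.ext hk, eH.symm_apply_apply]
  have hJH : J ≤ φ.range := hrange ▸ hH ▸ le_normalizer
  have hnine : ∀ k, φ k ∈ J → nine k := fun k hk => nine_of (hinj (by
    rw [map_pow, map_one, show 9 = 3 * 3 by norm_num, pow_mul, hJexp _ hk, one_pow]))
  have hAcard : Nat.card (J.comap φ) = 27 := by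
    rw [← hJcard, ← Subgroup.card_map_of_injective hinj, map_comap_eq_self hJH]
  have hsub : ∀ k, φ k ∈ J → InV k := by
    intro k hk
    by_contra hne
    have hlt := small_cent k (hnine k hk) hne
    have hle : Nat.card (J.comap φ) ≤ Nat.card {l : Mon // l * k = k * l ∧ nine l} :=
      Nat.card_le_card_of_injective (fun b => ⟨b.1, hinj (by rw [map_mul, map_mul]; exact hJc _ b.2 _ hk), hnine _ b.2⟩)
        fun b b' h => Subtype.ext (congrArg (fun q : {l : Mon // l * k = k * l ∧ nine l} => (q : Mon)) h)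
    rw [hAcard, Nat.card_eq_fintype_card, Fintype.card_subtype] at hle
    omega
  refine ⟨{ φ := φ, inj := hinj, J := J, norm := hrange.trans hH, memJ := fun k => ⟨hsub k, fun hk => ?_⟩,
            core := fun v hv => hcores _ (hrange ▸ ⟨tv v, rfl⟩) (haveI : Fact (Nat.Prime 3) := ⟨Nat.prime_three⟩
              orderOf_eq_prime (by rw [← map_pow, pow_succ', pow_two, trans_cube _ (inV_tv v), map_one])
                (fun e => hv (congrArg Mon.v (hinj (e.trans φ.map_one.symm) : tv v = 1)))) }, hrange⟩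
  have hss : (Finset.univ.filter fun k : Mon => φ k ∈ J) = Finset.univ.filter fun k : Mon => InV k := by
    refine Finset.eq_of_subset_of_card_le (fun x hx => ?_) ?_
    · exact Finset.mem_filter.2 ⟨Finset.mem_univ _, hsub x (Finset.mem_filter.1 hx).2⟩
    · rw [card_trans, ← Fintype.card_subtype, ← Nat.card_eq_fintype_card]
      exact hAcard.ge
  exact (Finset.mem_filter.1 (hss.ge (Finset.mem_filter.2 ⟨Finset.mem_univ k, hk⟩))).2

end Cfsg.Lib.AltNineLocal
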