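import Cfsg.Agent.LocalThree.MonomialModel
import Mathlib.GroupTheory.SpecificGroups.Alternating
import Mathlib.GroupTheory.Index

/-!
The monomial group is the normaliser of three disjoint three-cycles in the alternating group.
-/

set_option autoImplicit false
set_option maxRecDepth 8000

namespace Cfsg.Lib.AltNineLocal

open Cfsg.Lib.Monomial Equiv Subgroup

/-- The block of a point. -/
def blk (i : Fin 9) : Fin 3 := ⟨i.val / 3, by omega⟩

/-- The point of a block with a given position. -/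
def pt (i k : Fin 3) : Fin 9 := ⟨3 * i.val + k.val, by omega⟩

/-- The position of a point. -/
def pos (i : Fin 9) : Fin 3 := ⟨i.val % 3, by omega⟩

theorem pt_facts : (∀ i k, blk (pt i k) = i ∧ pos (pt i k) = k) ∧ ∀ p, pt (blk p) (pos p) = p := by decide +kernel

/-- The three cycles. -/
def cyc : Fin 3 → Perm (Fin 9) :=
  ![swap (0 : Fin 9) 1 * swap 1 2, swap (3 : Fin 9) 4 * swap 4 5, swap (6 : Fin 9) 7 * swap 7 8]

theorem cyc_blk : ∀ (t : Fin 3) (i : Fin 9), blk (cyc t i) = blk i := by decide +kernel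

theorem cyc_orbit : ∀ p : Fin 9, p = pt (blk p) 0 ∨ p = cyc (blk p) (pt (blk p) 0) ∨
    p = cyc (blk p) (cyc (blk p) (pt (blk p) 0)) := by decide +kernel

/-- The subgroup generated by the three cycles. -/
abbrev J₉ : Subgroup (Perm (Fin 9)) :=
  Subgroup.closure {swap (0 : Fin 9) 1 * swap 1 2, swap (3 : Fin 9) 4 * swap 4 5, swap (6 : Fin 9) 7 * swap 7 8}

theorem cyc_mem (t : Fin 3) : cyc t ∈ J₉ := by
  refine subset_closure ?_
  fin_cases t <;> simp [cyc]

theorem blk_of_mem {g : Perm (Fin 9)} (hg : g ∈ J₉) : ∀ i, blk (g i) = blk i := by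
  induction hg using Subgroup.closure_induction with
  | mem x hx =>
    rcases hx with rfl | rfl | rfl
    exacts [cyc_blk 0, cyc_blk 1, cyc_blk 2]
  | one => exact fun i => rfl
  | mul x y _ _ hx hy => exact fun i => by rw [Perm.mul_apply, hx, hy]
  | inv x _ hx => exact fun i => ((hx (x.symm i)).symm.trans (congrArg blk (Equiv.apply_symm_apply x i)))

theorem blk_map {σ : Perm (Fin 9)} (hσ : σ ∈ normalizer (J₉ : Set (Perm (Fin 9)))) (p : Fin 9) :
    blk (σ p) = blk (σ (pt (blk p) 0)) := by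
  have h : ∀ q, blk (σ (cyc (blk p) q)) = blk (σ q) := fun q => by
    have := blk_of_mem ((mem_normalizer_iff.1 hσ _).1 (cyc_mem (blk p))) (σ q)
    simpa [Perm.mul_apply] using this
  rcases cyc_orbit p with e | e | e
  · rw [← e]
  · conv_lhs => rw [e]
    exact h _
  · conv_lhs => rw [e]
    rw [h, h]

theorem card_normalizer_le : Nat.card (normalizer (J₉ : Set (Perm (Fin 9)))) ≤ 1296 := by
  classical
  let β : normalizer (J₉ : Set (Perm (Fin 9))) → Fin 3 → Fin 3 := fun σ i => blk (σ.1 (pt i 0))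
  have hβ : ∀ σ, Function.Bijective (β σ) := fun σ => Finite.surjective_iff_bijective.1 fun j => by
    refine ⟨blk (σ.1⁻¹ (pt j 0)), ?_⟩
    show blk (σ.1 (pt _ 0)) = j
    rw [← blk_map σ.2, Perm.coe_inv, Equiv.apply_symm_apply, (pt_facts.1 j 0).1]
  have hγ : ∀ (σ : normalizer (J₉ : Set (Perm (Fin 9)))) (i : Fin 3),
      Function.Bijective fun k => pos (σ.1 (pt i k)) := fun σ i => Finite.injective_iff_bijective.1 fun k l h => by
    have hb : ∀ k, blk (σ.1 (pt i k)) = β σ i := fun k => by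
      rw [blk_map σ.2, (pt_facts.1 i k).1]
    have : σ.1 (pt i k) = σ.1 (pt i l) := by
      rw [← pt_facts.2 (σ.1 (pt i k)), ← pt_facts.2 (σ.1 (pt i l)), hb, hb, show pos (σ.1 (pt i k)) = _ from h]
    have := congrArg pos (σ.1.injective this)
    rwa [(pt_facts.1 i k).2, (pt_facts.1 i l).2] at this
  let F : normalizer (J₉ : Set (Perm (Fin 9))) → Perm (Fin 3) × (Fin 3 → Perm (Fin 3)) := fun σ =>
    (Equiv.ofBijective _ (hβ σ), fun i => Equiv.ofBijective _ (hγ σ i))
  have hF : Function.Injective F := fun σ τ h => by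
    refine Subtype.ext (Equiv.ext fun p => ?_)
    have h1 := congrArg (fun e => e.1 (blk p)) h
    have h2 := congrArg (fun e => e.2 (blk p) (pos p)) h
    simp only [F, β, Equiv.ofBijective_apply, pt_facts.2] at h1 h2
    rw [← blk_map σ.2, ← blk_map τ.2] at h1
    rw [← pt_facts.2 (σ.1 p), ← pt_facts.2 (τ.1 p), h1, h2]
  refine (Nat.card_le_card_of_injective F hF).trans (le_of_eq ?_)
  simp only [Nat.card_eq_fintype_card, Fintype.card_prod, Fintype.card_fun, Fintype.card_perm, Fintype.card_fin]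
  rfl

theorem toNine_mem (k : Mon) : toNine k ∈ alternatingGroup (Fin 9) ⊓ normalizer (J₉ : Set (Perm (Fin 9))) := by
  have hk : toNine k ∈ toNine.range := ⟨k, rfl⟩
  rw [← image_eq] at hk
  refine (Subgroup.closure_le _).2 ?_ hk
  have hcyc : ∀ σ : Perm (Fin 9), (∀ t, ∃ t', σ * cyc t * σ⁻¹ = cyc t' ∨ σ * cyc t * σ⁻¹ = (cyc t')⁻¹) →
      σ ∈ normalizer (J₉ : Set (Perm (Fin 9))) := by
    intro σ h
    refine Subgroup.mem_normalizer_iff_map_conj_eq.2 (Subgroup.eq_of_le_of_card_ge ?_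
      (by rw [Subgroup.card_map_of_injective (MulAut.conj σ).injective]))
    rw [Subgroup.map_le_iff_le_comap, Subgroup.closure_le]
    have key : ∀ t, σ * cyc t * σ⁻¹ ∈ J₉ := fun t => by
      obtain ⟨t', e | e⟩ := h t <;> rw [e]
      exacts [cyc_mem t', inv_mem (cyc_mem t')]
    rintro x (rfl | rfl | rfl)
    exacts [key 0, key 1, key 2]
  rintro x (rfl | rfl | rfl | rfl) <;>
    exact Subgroup.mem_inf.2 ⟨Perm.mem_alternatingGroup.2 (by decide +kernel), hcyc _ (by decide +kernel)⟩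

/-- The two groups agree. -/
theorem range_toNine : toNine.range = alternatingGroup (Fin 9) ⊓ normalizer (J₉ : Set (Perm (Fin 9))) := by
  refine Subgroup.eq_of_le_of_card_ge (fun x ⟨k, hk⟩ => hk ▸ toNine_mem k) ?_
  rw [Nat.card_congr (MonoidHom.ofInjective toNine_injective).toEquiv.symm,
    Nat.card_congr monEquiv, Nat.card_prod, Nat.card_fin, Nat.card_fin]
  by_contra hlt
  have h1 := card_dvd_of_le (inf_le_right (a := alternatingGroup (Fin 9))
    (b := normalizer (J₉ : Set (Perm (Fin 9)))))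
  have h2 := card_normalizer_le
  obtain ⟨q, hq⟩ := h1
  have hq1 : q = 1 := by
    rcases Nat.lt_or_ge q 2 with h | h
    · interval_cases q
      · exact absurd hq (by rw [mul_zero]; exact Nat.card_pos.ne')
      · rfl
    · exfalso; nlinarith
  rw [hq1, mul_one] at hq
  have he := Subgroup.eq_of_le_of_card_ge (inf_le_right (a := alternatingGroup (Fin 9))
    (b := normalizer (J₉ : Set (Perm (Fin 9))))) hq.le
  have hs : swap (0 : Fin 9) 1 ∈ normalizer (J₉ : Set (Perm (Fin 9))) := by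
    refine Subgroup.mem_normalizer_iff_map_conj_eq.2 (Subgroup.eq_of_le_of_card_ge ?_
      (by rw [Subgroup.card_map_of_injective (MulAut.conj (swap (0 : Fin 9) 1)).injective]))
    rw [Subgroup.map_le_iff_le_comap, Subgroup.closure_le]
    have hc : swap (0 : Fin 9) 1 * cyc 0 * (swap (0 : Fin 9) 1)⁻¹ = (cyc 0)⁻¹ ∧
        swap (0 : Fin 9) 1 * cyc 1 * (swap (0 : Fin 9) 1)⁻¹ = cyc 1 ∧
        swap (0 : Fin 9) 1 * cyc 2 * (swap (0 : Fin 9) 1)⁻¹ = cyc 2 := by decide +kernel
    rintro x (rfl | rfl | rfl)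
    · show swap (0 : Fin 9) 1 * cyc 0 * (swap (0 : Fin 9) 1)⁻¹ ∈ J₉
      rw [hc.1]; exact inv_mem (cyc_mem 0)
    · show swap (0 : Fin 9) 1 * cyc 1 * (swap (0 : Fin 9) 1)⁻¹ ∈ J₉
      rw [hc.2.1]; exact cyc_mem 1
    · show swap (0 : Fin 9) 1 * cyc 2 * (swap (0 : Fin 9) 1)⁻¹ ∈ J₉
      rw [hc.2.2]; exact cyc_mem 2
  rw [← he] at hs
  exact absurd (Perm.mem_alternatingGroup.1 hs.1) (by decide +kernel)

end Cfsg.Lib.AltNineLocal
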